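import Mathlib.Algebra.Group.End
import Mathlib.Data.ZMod.Basic
import Mathlib.GroupTheory.PGroup
import Mathlib.Tactic.Group

/-! Klinger–Mason, part 1: a formal lemma on groups preserving an alternating form over `𝔽₂`. -/

set_option autoImplicit false

namespace Cfsg.Agent.KM69

theorem lin {D R : Type*} [Group D] [Group R] (ρ : R →* MulAut D) (f : D → D → ZMod 2)
    (fm : ∀ x y w, f (x * y) w = f x w + f y w) (fs : ∀ x y, f x y = f y x) (fa : ∀ x, f x x = 0)
    (fi : ∀ r x y, f (ρ r x) (ρ r y) = f x y) {z : R} (hz : ∀ r, Commute z r) (z2 : z * z = 1)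
    (idx : ∀ u u', (∀ w, f (ρ z u) w = f u w) → (∀ w, f (ρ z u') w = f u' w) →
      (∀ r w, f (ρ r u) w = f u w) ∨ (∀ r w, f (ρ r u') w = f u' w) ∨
        (∀ r w, f (ρ r (u * u')) w = f (u * u') w))
    {a a' b b' : R} (ha : a * a' = z * (a' * a)) (hb : b * b' = z * (b' * b))
    (c1 : Commute a b) (c2 : Commute a b') (c3 : Commute a' b) (c4 : Commute a' b') :
    ∀ v w, f (ρ z v) w = f v w := by
  have mu : ∀ r s v, ρ r (ρ s v) = ρ (r * s) v := fun r s v => by rw [map_mul, MulAut.mul_apply]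
  have on : ∀ v, ρ 1 v = v := fun v => by rw [map_one, MulAut.one_apply]
  have adj : ∀ r v w, f (ρ r v) w = f v (ρ r⁻¹ w) := fun r v w => by
    rw [← fi r v, mu, mul_inv_cancel, on]
  have fm' : ∀ w x y, f w (x * y) = f w x + f w y := fun w x y => by rw [fs, fm, fs x, fs y]
  have zi : z⁻¹ = z := inv_eq_of_mul_eq_one_right z2
  have Q : ∀ r r', r * r' = z * (r' * r) → (∀ v w, f (ρ r' (v * ρ r v)) w = f (v * ρ r v) w) →
      (∀ v w, f (ρ r (v * ρ r' v)) w = f (v * ρ r' v) w) → ∀ v w, f (ρ z v) w = f v w := by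
    intro r r' e h1 h2 v w
    have h3 := h1 (ρ (r' * r)⁻¹ v) w
    have h4 := h2 (ρ (r' * r)⁻¹ v) w
    simp only [map_mul (ρ _), fm, mu] at h3 h4
    rw [← mul_assoc, mul_inv_cancel, on] at h3
    rw [← mul_assoc r, e, mul_inv_cancel_right] at h4
    revert h3 h4
    generalize f (ρ z v) w = x1, f v w = x2, f (ρ (r' * (r' * r)⁻¹) v) w = x3,
      f (ρ (r * (r' * r)⁻¹) v) w = x4, f (ρ (r' * r)⁻¹ v) w = x5
    revert x1 x2 x3 x4 x5
    decide
  have A : ∀ v w, f (ρ z (v * ρ z v)) w = f (v * ρ z v) w := fun v w => by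
    rw [map_mul, mu, z2, on, fm, fm, add_comm]
  have B : ∀ r, (∀ v w, f (ρ r (v * ρ z v)) w = f (v * ρ z v) w) →
      ∀ v w, f (ρ z (v * ρ r v)) w = f (v * ρ r v) w := by
    intro r h v w
    have h1 := h v w
    simp only [map_mul (ρ _), fm, mu] at h1 ⊢
    rw [(hz r).eq]
    revert h1
    generalize f (ρ z v) w = x1, f v w = x2, f (ρ (r * z) v) w = x3, f (ρ r v) w = x4
    revert x1 x2 x3 x4
    decide
  have P0 : ∀ r v u, (∀ r w, f (ρ r u) w = f u w) → f (v * ρ r v) u = 0 := fun r v u h => by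
    rw [fm, adj, fs v (ρ _ _), h, fs u, CharTwo.add_self_eq_zero]
  by_cases hY : ∀ v r w, f (ρ r (v * ρ z v)) w = f (v * ρ z v) w
  · have h1 : ∀ r v w, f (ρ z (v * ρ r v)) w = f (v * ρ r v) w :=
      fun r => B r fun v w => hY v r w
    have h2 : ∀ r r' v w, f (ρ r' (v * ρ r v)) w = f (v * ρ r v) w := by
      intro r r' v w
      by_cases hs : ∀ r' w, f (ρ r' (v * ρ r v)) w = f (v * ρ r v) w
      · exact hs r' w
      have h3 : ∀ u, (∀ w, f (ρ z u) w = f u w) → f (v * ρ r v) u = 0 := fun u hu => by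
        rcases idx u _ hu (h1 r v) with h | h | h
        · exact P0 r v u h
        · exact absurd h hs
        · have := P0 r v _ h
          rwa [fm', fa, add_zero] at this
      have h4 := h3 _ (h1 r'⁻¹ w)
      rw [fm'] at h4
      rw [adj]
      revert h4
      generalize f (v * ρ r v) w = x1, f (v * ρ r v) (ρ r'⁻¹ w) = x2
      revert x1 x2
      decide
    exact Q a a' ha (h2 a a') (h2 a' a)
  obtain ⟨v₀, hy⟩ := not_forall.mp hY
  set y := v₀ * ρ z v₀ with hyd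
  have b1 : ∀ r, (∀ w, f (ρ r y) w = f y w) → ∀ u, (∀ w, f (ρ z u) w = f u w) →
      ∀ w, f (ρ r u) w = f u w := by
    intro r hr u hu w
    rcases idx u y hu (A v₀) with h | h | h
    · exact h r w
    · exact absurd h hy
    · have := h r w
      rw [map_mul, fm, fm, hr] at this
      exact add_right_cancel this
  have b2 : ∀ r r', r * r' = z * (r' * r) → (∀ w, f (ρ r y) w = f y w) →
      (∀ w, f (ρ r' y) w = f y w) → ∀ v w, f (ρ z v) w = f v w := fun r r' e h h' =>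
    Q r r' e (fun v => b1 r' h' _ (B r (fun v => b1 r h _ (A v)) v))
      (fun v => b1 r h _ (B r' (fun v => b1 r' h' _ (A v)) v))
  have b3 : ∀ r w, f (ρ r y) w = f y w + f (v₀ * ρ r v₀) (w * ρ z w) := fun r w => by
    have h1 := adj z (ρ r v₀) w
    have h2 := adj z v₀ w
    rw [zi] at h1 h2
    rw [hyd, map_mul, fm, fm, fm, fm', fm', ← h1, ← h2, mu, mu, (hz r).eq]
    generalize f (ρ z v₀) w = x1, f v₀ w = x2, f (ρ (r * z) v₀) w = x3, f (ρ r v₀) w = x4
    revert x1 x2 x3 x4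
    decide
  have b4 : ∀ r w, (¬ ∀ r w', f (ρ r (w * ρ z w)) w' = f (w * ρ z w) w') →
      f (v₀ * ρ r v₀) (w * ρ z w) = f (v₀ * ρ r v₀) y := fun r w hw => by
    rcases idx _ y (A w) (A v₀) with h | h | h
    · exact absurd h hw
    · exact absurd h hy
    · have := P0 r v₀ _ h
      rw [fm'] at this
      revert this
      generalize f (v₀ * ρ r v₀) (w * ρ z w) = x1, f (v₀ * ρ r v₀) y = x2
      revert x1 x2
      decide
  have b5 : ∀ r, (¬ ∀ w, f (ρ r y) w = f y w) → f (v₀ * ρ r v₀) y = 1 := fun r hr => by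
    obtain ⟨w, hw⟩ := not_forall.mp hr
    rw [b3, add_eq_left] at hw
    rw [← b4 r w fun h => hw (P0 r v₀ _ h)]
    revert hw
    generalize f (v₀ * ρ r v₀) (w * ρ z w) = x1
    revert x1
    decide
  have b6 : ∀ r r', (¬ ∀ w, f (ρ r y) w = f y w) → (¬ ∀ w, f (ρ r' y) w = f y w) →
      ∀ w, f (ρ (r * r') y) w = f y w := by
    intro r r' h h' w
    have hi : ¬ ∀ w, f (ρ r⁻¹ y) w = f y w := fun h1 => h fun w => by
      rw [adj, ← h1, fi]
    have h2 : ∀ w, f (ρ r' y) w = f (ρ r⁻¹ y) w := fun w => by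
      rw [b3, b3]
      by_cases hw : ∀ r w', f (ρ r (w * ρ z w)) w' = f (w * ρ z w) w'
      · rw [P0 _ _ _ hw, P0 _ _ _ hw]
      · rw [b4 _ _ hw, b4 _ _ hw, b5 _ hi, b5 _ h']
    rw [← mu, adj, h2, fi]
  have fin : ∀ β, Commute a β → Commute a' β → (¬ ∀ w, f (ρ β y) w = f y w) →
      ∀ v w, f (ρ z v) w = f v w := by
    intro β d1 d2 hβ
    by_cases h1 : ∀ w, f (ρ a y) w = f y w <;> by_cases h2 : ∀ w, f (ρ a' y) w = f y w
    · exact b2 a a' ha h1 h2
    · refine b2 a (a' * β) ?_ h1 (b6 _ _ h2 hβ)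
      rw [← mul_assoc, ha, mul_assoc a', ← d1.eq]; group
    · refine b2 (a * β) a' ?_ (b6 _ _ h1 hβ) h2
      rw [mul_assoc, ← d2.eq, ← mul_assoc, ha]; group
    · refine b2 (a * β) (a' * β) ?_ (b6 _ _ h1 hβ) (b6 _ _ h2 hβ)
      rw [d2.symm.mul_mul_mul_comm, d1.symm.mul_mul_mul_comm, ha]; group
  by_cases h1 : ∀ w, f (ρ b y) w = f y w
  · by_cases h2 : ∀ w, f (ρ b' y) w = f y w
    · exact b2 b b' hb h1 h2
    · exact fin b' c2 c4 h2
  · exact fin b c1 c3 h1

/-- An element of order dividing `p` stabilising a chain of `2`-elements acts trivially. -/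
theorem chain {G : Type*} [Group G] {p k : ℕ} (hp : p.Coprime 2) {b x : G} (hb : b ^ p = 1)
    (hc : Commute (x⁻¹ * (b * x * b⁻¹)) b) (h2 : (x⁻¹ * (b * x * b⁻¹)) ^ 2 ^ k = 1) :
    Commute b x := by
  set c := x⁻¹ * (b * x * b⁻¹) with hcd
  have h1 : ∀ m : ℕ, b ^ m * x * (b ^ m)⁻¹ = x * c ^ m := by
    intro m
    induction m with
    | zero => simp
    | succ m ih =>
      calc b ^ (m + 1) * x * (b ^ (m + 1))⁻¹ = b * (b ^ m * x * (b ^ m)⁻¹) * b⁻¹ := by
            rw [pow_succ']; group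
        _ = b * x * b⁻¹ * (b * c ^ m * b⁻¹) := by rw [ih]; group
        _ = x * c ^ (m + 1) := by
            rw [← (hc.pow_left m).eq, mul_inv_cancel_right, pow_succ', ← mul_assoc, hcd]; group
  have h3 := h1 p
  rw [hb, one_mul, inv_one, mul_one, left_eq_mul] at h3
  have h4 : c = 1 := orderOf_eq_one_iff.mp (Nat.eq_one_of_dvd_coprimes (hp.pow_right k)
    (orderOf_dvd_of_pow_eq_one h3) (orderOf_dvd_of_pow_eq_one h2))
  rw [hcd, inv_mul_eq_one, eq_mul_inv_iff_mul_eq] at h4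
  exact h4.symm

end Cfsg.Agent.KM69
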