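import Cfsg.Agent.H72.FFO

/-! Minimal offenders ("atoms") inside a Sylow subgroup of a `p`-minimal group acting on an
`FF`-module. -/

set_option autoImplicit false
set_option linter.unusedSectionVars false

namespace Cfsg.Agent.PU69

open Subgroup Matrix Cfsg.Agent.H70 Cfsg.Agent.H92 Cfsg.Agent.H72
open Cfsg.Agent.H69 (fixA dl dl_apply smul_eq_add_dl dl_conj dl_eq_zero mem_fixA fixA_anti fixA_sup
  SL2 up lo mulVec_two)

variable {Γ : Type*} [Group Γ] {V : Type*} [AddCommGroup V] [DistribMulAction Γ V] {p : ℕ}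
  {T M B H X : Subgroup Γ}

variable (V p) in
/-- The minimal offenders inside `X`. -/
def ats (X : Subgroup Γ) : Set (Subgroup Γ) := {B | InD V p B ∧ B ≤ X}

theorem ats_inf (X Y : Subgroup Γ) : ats V p (X ⊓ Y) = ats V p X ∩ ats V p Y :=
  Set.ext fun _ => ⟨fun h => ⟨⟨h.1, h.2.trans inf_le_left⟩, h.1, h.2.trans inf_le_right⟩,
    fun h => ⟨h.1.1, le_inf h.1.2 h.2.2⟩⟩

variable (V p) in
/-- An atom `B` with its rank one group `H`. -/
structure At (T B H : Subgroup Γ) : Prop where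
  mem : B ∈ ats V p T
  nat : ∃ (F : Type) (_ : Field F) (_ : Fintype F) (σ : SL2 F →* Γ) (ψ : V →+ (Fin 2 → F)),
    Nat2 F σ ψ B ∧ σ.range = H
  norm : T ⊓ normalizer (B : Set Γ) ≤ normalizer (H : Set Γ)
  oth : ∀ C ∈ ats V p T, C ≠ B → C ≤ relK V (fixA V H)

theorem cj_mem_ats {t : Γ} (ht : t ∈ T) (h : B ∈ ats V p T) : H70.cj t B ∈ ats V p T :=
  ⟨h.1.cj t, cj_le_of_mem ht h.2⟩

theorem At.cj (h : At V p T B H) {t : Γ} (ht : t ∈ T) :
    At V p T (H70.cj t B) (H70.cj t H) where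
  mem := cj_mem_ats ht h.mem
  nat := by
    obtain ⟨F, _, _, σ, ψ, hn, rfl⟩ := h.nat
    exact ⟨F, _, inferInstance, _, _, hn.cj t, by rw [MonoidHom.range_comp]⟩
  norm := by
    have := cj_mono t h.norm
    rwa [cj_inf, cj_normalizer, cj_normalizer, cj_eq_self_of_mem ht] at this
  oth := fun C hC hne => by
    have := h.oth _ (cj_mem_ats (inv_mem ht) hC) fun e => hne (by rw [← e, cj_cj_inv])
    rw [le_relK] at this ⊢
    intro v hv
    rw [← cj_cj_inv t C, mem_cmA_cj] at hv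
    exact H72.mem_fix_cj.2 (this hv)

theorem At.le (h : At V p T B H) : B ≤ H := by
  obtain ⟨F, _, _, σ, ψ, hn, rfl⟩ := h.nat
  exact hn.le

theorem At.not_le (h : At V p T B H) : ¬ B ≤ relK V (fixA V H) := by
  obtain ⟨F, _, _, σ, ψ, hn, rfl⟩ := h.nat
  exact fun e => hn.not_cmA_le (le_relK.1 e)

theorem At.fix_of_dl (h : At V p T B H) {b : Γ} (hb : b ∈ B) (b1 : b ≠ 1) {v : V}
    (hv : dl b v ∈ fixA V H) : v ∈ fixA V B := by
  obtain ⟨F, _, _, σ, ψ, hn, rfl⟩ := h.nat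
  exact hn.mem_fix_of_dl hb b1 hv

theorem At.cent (h : At V p T B H) {r : Γ} (h1 : r ∈ normalizer (H : Set Γ))
    (h2 : r ∈ relK V (fixA V H)) :
    r ∈ centralizer (H : Set Γ) ∧ ∀ u ∈ cmA V H, r • u = u := by
  obtain ⟨F, _, _, σ, ψ, hn, rfl⟩ := h.nat
  exact ⟨hn.comm_of_dl h1 h2, fun u hu => mem_fix_zpowers.1 (hn.fix_cmA_of_dl h1 h2 hu)⟩

theorem At.three (h : At V 2 T B H) (hV : ∀ v : V, 2 • v = 0) {b : Γ} (hb : b ∈ B) (b1 : b ≠ 1) :
    ∃ l ∈ H, l ≠ 1 ∧ l ^ 3 = 1 ∧ b * l * b⁻¹ = l⁻¹ ∧ ∀ v : V, l • v = v → v ∈ fixA V H := by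
  obtain ⟨F, _, _, σ, ψ, hn, rfl⟩ := h.nat
  obtain ⟨c, rfl⟩ := (hn.mem b).1 hb
  have c0 : c ≠ 0 := fun e => b1 (by
    rw [e, ← map_one σ]; congr 1; apply H69.sl2_ext <;> simp [H69.up00, H69.up01, H69.up10, H69.up11])
  have h2 : (2 : F) = 0 := by
    obtain ⟨v, hv⟩ := hn.surj (fun _ => 1)
    have := congrFun (congrArg ψ (hV v)) 0
    rw [map_nsmul, hv, map_zero] at this
    simpa using this
  have e1 : (up c * lo c⁻¹).1 0 0 = 0 := by
    simp only [H69.sl2_mul_apply, H69.up00, H69.up01, H69.lo00, H69.lo10]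
    field_simp; linear_combination h2
  have e2 : (up c * lo c⁻¹).1 0 1 = c := by
    simp [H69.sl2_mul_apply, H69.up00, H69.up01, H69.lo01, H69.lo11]
  have e3 : (up c * lo c⁻¹).1 1 0 = c⁻¹ := by
    simp [H69.sl2_mul_apply, H69.up10, H69.up11, H69.lo00, H69.lo10]
  have e4 : (up c * lo c⁻¹).1 1 1 = 1 := by
    simp [H69.sl2_mul_apply, H69.up10, H69.up11, H69.lo01, H69.lo11]
  generalize up c * lo c⁻¹ = l at *
  refine ⟨σ l, ⟨l, rfl⟩, fun e => ?_, ?_, ?_, fun v hv => (hn.ker v).1 ?_⟩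
  · rw [← map_one σ] at e
    rw [hn.inj e] at e1
    simp at e1
  · rw [← map_pow, ← map_one σ, pow_three]
    congr 1
    have k := mul_inv_cancel₀ c0
    apply H69.sl2_ext <;> simp only [H69.sl2_mul_apply, e1, e2, e3, e4]
    · change _ = (1 : F); linear_combination k
    · change _ = (0 : F); linear_combination c * k + c * h2
    · change _ = (0 : F); linear_combination c⁻¹ * k + c⁻¹ * h2
    · change _ = (1 : F); linear_combination 2 * k + h2
  · rw [← map_inv, ← map_inv, ← map_mul, ← map_mul]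
    congr 1
    have k := mul_inv_cancel₀ c0
    apply H69.sl2_ext <;> simp only [H69.sl2_mul_apply, e1, e2, e3, e4, H69.sl2_inv00, H69.sl2_inv01,
      H69.sl2_inv10, H69.sl2_inv11, H69.up00, H69.up01, H69.up10, H69.up11]
    · linear_combination k
    · linear_combination -c * k + c * h2
    · linear_combination c⁻¹ * h2
    · linear_combination -k
  · have := hn.eqv l v
    rw [hv] at this
    have a := congrFun this 0
    have b := congrFun this 1
    rw [mulVec_two, e1, e2] at a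
    rw [mulVec_two, e3, e4] at b
    have a0 : ψ v 0 = 0 := by
      have : c⁻¹ * ψ v 0 = 0 := by linear_combination -b
      simpa [c0] using this
    have a1 : ψ v 1 = 0 := by
      have : c * ψ v 1 = 0 := by linear_combination a0 - a
      simpa [c0] using this
    exact vec2_ext a0 a1

theorem At.res_le (h : At V 2 T B H) (hV : ∀ v : V, 2 • v = 0) :
    fixA V (pResidualOf 2 (⊤ : Subgroup Γ)) ≤ fixA V H := fun v hv => by
  obtain ⟨b, hb, b1⟩ := (bot_or_exists_ne_one B).resolve_left h.mem.1.ne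
  obtain ⟨l, -, -, l3, -, hl⟩ := h.three hV hb b1
  exact hl v (hv l (mem_pRes (mem_top l)
    (Nat.Coprime.coprime_dvd_left (orderOf_dvd_of_pow_eq_one l3) (by norm_num))))

variable [Fact p.Prime] [Finite Γ] [Finite V]

theorem FFOut_at {A K : Subgroup Γ} (o : FFOut V p T M A H K) (h : FF V p T M) : At V p T A H :=
  ⟨⟨o.inD, o.AT⟩, o.nat, (inf_le_inf_right _ h.min.le).trans o.norm,
    fun _ hC hne => le_relK.2 (o.cmA_le_of_ne h hC.1 hC.2 hne)⟩

theorem exists_at (h : FF V p T M) (hB : B ∈ ats V p T) : ∃ H, At V p T B H := by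
  obtain ⟨g, H, K, o⟩ := h.exists_out hB.1
  obtain ⟨s, hs, e⟩ := o.exists_eq_cj h hB.1 hB.2
  refine ⟨H70.cj s⁻¹ H, ?_⟩
  have := (FFOut_at o h).cj (inv_mem hs)
  rwa [← e, cj_inv_cj] at this

theorem exists_cj_eq (h : FF V p T M) (hB : B ∈ ats V p T) {C : Subgroup Γ} (hC : C ∈ ats V p T) :
    ∃ s ∈ T, H70.cj s B = C := by
  obtain ⟨g, H, K, o⟩ := h.exists_out hB.1
  obtain ⟨s, hs, e⟩ := o.exists_eq_cj h hB.1 hB.2
  obtain ⟨t, ht, e'⟩ := o.exists_eq_cj h hC.1 hC.2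
  exact ⟨t⁻¹ * s, mul_mem (inv_mem ht) hs, by rw [cj_mul, e, ← e', cj_inv_cj]⟩

theorem ats_comm (h : FF V p T M) (hB : B ∈ ats V p T) {C : Subgroup Γ} (hC : C ∈ ats V p T) :
    B ≤ centralizer (C : Set Γ) := h.comm_of_le hB.1 hC.1 h.syl.pgroup hB.2 hC.2

/-- The subgroup generated by all atoms is abelian. -/
theorem sSup_comm (h : FF V p T M) :
    sSup (ats V p T) ≤ centralizer ((sSup (ats V p T) : Subgroup Γ) : Set Γ) :=
  sSup_le fun _ hB => cent_comm.1 (sSup_le fun _ hC => ats_comm h hC hB)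

theorem eq_one (h : FF V p T M) (hB : B ∈ ats V p T) {c : Γ} (hc : c ∈ sSup (ats V p T))
    (e : ∀ B H, At V p T B H → c ∈ relK V (fixA V H)) : c = 1 := by
  obtain ⟨g, H, K, o⟩ := h.exists_out hB.1
  have hT : c ∈ T := (sSup_le fun _ h => h.2 : sSup (ats V p T) ≤ T) hc
  refine mem_bot.1 ((o.inf_cent h).le ⟨hT, ?_⟩)
  refine zpowers_le.1 (cent_comm.1 (ncl_le_iff.2 fun t ht => cent_comm.1 (zpowers_le.2 ?_)))
  have a := (FFOut_at o h).cj ht
  exact (a.cent (a.norm ⟨hT, norm_of_cent ((sSup_comm h).trans (cent_anti (le_sSup a.mem))) hc⟩)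
    (e _ _ a)).1

theorem At.exists_mul (a : At V p T B H) (h : FF V p T M) (hT : X ≤ T)
    (hc : X ≤ centralizer (B : Set Γ)) {x : Γ} (hx : x ∈ X) :
    ∃ b ∈ B, b⁻¹ * x ∈ relK V (fixA V H) := by
  have h1 := (le_inf hT (norm_of_cent hc)).trans a.norm
  obtain ⟨F, _, _, σ, ψ, hn, rfl⟩ := a.nat
  exact hn.exists_mul h.hV (h.syl.pgroup.to_le hT) hc h1 a.mem.1.comm hx

omit [Fact p.Prime] [Finite Γ] [Finite V] in
theorem At.inf_eq (a : At V p T B H) : B ⊓ relK V (fixA V H) = ⊥ :=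
  eq_bot_iff.2 fun b hb => by
    obtain ⟨F, _, _, σ, ψ, hn, rfl⟩ := a.nat
    exact hn.eq_one_of_dl (hn.le hb.1) hb.2

/-- An abelian offender is the direct product of the atoms it contains. -/
theorem gen (h : FF V p T M) {q : ℕ} (hq : ∀ B ∈ ats V p T, Nat.card B = q) (hT : X ≤ T)
    (hc : X ≤ centralizer (X : Set Γ)) (hX : Nat.card V ≤ ms V X) :
    X ≤ sSup (ats V p X) ∧ Nat.card X = q ^ (ats V p X).ncard := by
  induction hn : Nat.card X using Nat.strong_induction_on generalizing X with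
  | _ n ih =>
  by_cases h0 : X = ⊥
  · have : ats V p X = ∅ := Set.eq_empty_of_forall_notMem fun B hB =>
      hB.1.ne (le_bot_iff.1 (h0 ▸ hB.2))
    rw [this, ← hn, h0]; simp
  obtain ⟨B, a1, hB, -⟩ := exists_inD (h.syl.pgroup.to_le hT) hc h0 hX
  obtain ⟨H, a⟩ := exists_at h ⟨hB, a1.trans hT⟩
  have a4 := hc.trans (cent_anti a1)
  have a5 := (le_inf hT (norm_of_cent a4)).trans a.norm
  set Z := X ⊓ relK V (fixA V H) with hZ
  have a7 : B ⊔ Z = X := le_antisymm (sup_le a1 inf_le_left) fun x hx => by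
    obtain ⟨b, hb, e⟩ := a.exists_mul h hT a4 hx
    rw [← mul_inv_cancel_left b x]
    exact mul_mem (mem_sup_left hb) (mem_sup_right ⟨X.mul_mem (X.inv_mem (a1 hb)) hx, e⟩)
  have b1 : Nat.card X = Nat.card B * Nat.card Z := by
    have := H21.card_sup_mul_card_inf (X := B) (Y := Z) (inf_le_left.trans (norm_of_cent a4))
    rwa [a7, hZ, inf_left_comm, a.inf_eq, inf_bot_eq, card_bot, mul_one] at this
  have b2 := card_sup_mul_card_inf_add (fixA V Z) (fixA V B)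
  have b0 : cmA V H ⊔ fixA V B = ⊤ := by
    obtain ⟨F, _, _, σ, ψ, hn, rfl⟩ := a.nat
    exact hn.cmA_sup_fixA
  rw [eq_top_iff.2 (b0.ge.trans (sup_le_sup_right (fun u hu x hx =>
    (a.cent (a5 hx.1) hx.2).2 u hu) _)), AddSubgroup.card_top, ← h.ms_eq hB, ms, inf_comm,
    ← fixA_sup, a7] at b2
  have b4 : Nat.card B * Nat.card (fixA V X) = Nat.card (fixA V Z) :=
    Nat.eq_of_mul_eq_mul_right (Nat.card_pos (α := fixA V B)) (by rw [← b2]; ring)
  obtain ⟨c1, c2⟩ := ih _ (hn ▸ card_lt_card' (inf_lt_left.2 fun e => a.not_le (a1.trans e)))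
    (inf_le_left.trans hT) (inf_le_left.trans (hc.trans (cent_anti inf_le_left)))
    (hX.trans (by rw [ms, ms, ← b4, b1]; exact le_of_eq (by ring))) rfl
  have d : ats V p X = insert B (ats V p Z) := Set.ext fun C => ⟨fun hC => by
    by_cases e : C = B
    · exact Or.inl e
    · exact Or.inr ⟨hC.1, le_inf hC.2 (a.oth C ⟨hC.1, hC.2.trans hT⟩ e)⟩,
    fun hC => hC.elim (fun e => e ▸ ⟨hB, a1⟩) fun hC => ⟨hC.1, hC.2.trans inf_le_left⟩⟩
  refine ⟨by rw [d, sSup_insert]; exact a7.ge.trans (sup_le_sup_left c1 _), ?_⟩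
  rw [d, Set.ncard_insert_of_notMem (fun e => a.not_le (e.2.trans inf_le_right)), pow_succ', ← hn,
    b1, c2, hq B a.mem]

theorem exists_q (h : FF V p T M) : ∃ q, 1 < q ∧ ∀ B ∈ ats V p T, Nat.card B = q := by
  by_cases e : ∃ B, B ∈ ats V p T
  · obtain ⟨B, hB⟩ := e
    refine ⟨Nat.card B, one_lt_card_iff_ne_bot _ |>.2 hB.1.ne, fun C hC => ?_⟩
    obtain ⟨s, -, rfl⟩ := exists_cj_eq h hB hC
    exact card_cj s B
  · exact ⟨2, one_lt_two, fun B hB => absurd ⟨B, hB⟩ e⟩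

theorem le_ats (h : FF V p T M) (hT : X ≤ T) (hc : X ≤ centralizer (X : Set Γ))
    (hX : Nat.card V ≤ ms V X) : X ≤ sSup (ats V p X) := by
  obtain ⟨q, -, hq⟩ := exists_q h
  exact (gen h hq hT hc hX).1

theorem ats_mono {Y : Subgroup Γ} (h : X ≤ Y) : sSup (ats V p X) ≤ sSup (ats V p Y) :=
  sSup_le_sSup fun _ hB => ⟨hB.1, hB.2.trans h⟩

theorem le_J (h : FF V p T M) (hT : X ≤ T) (hc : X ≤ centralizer (X : Set Γ))
    (hX : Nat.card V ≤ ms V X) : X ≤ sSup (ats V p T) := (le_ats h hT hc hX).trans (ats_mono hT)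

/-- A nontrivial element of an offender has a nontrivial component at one of its atoms. -/
theorem exists_at_not (h : FF V p T M) (hT : X ≤ T) (hc : X ≤ centralizer (X : Set Γ))
    (hX : Nat.card V ≤ ms V X) {c : Γ} (h1 : c ∈ X) (h2 : c ≠ 1) :
    ∃ B H, At V p T B H ∧ B ≤ X ∧ c ∉ relK V (fixA V H) := by
  by_contra! e
  obtain ⟨B, a1, hB, -⟩ := exists_inD (h.syl.pgroup.to_le hT) hc
    (fun e => h2 (mem_bot.1 (e ▸ h1))) hX
  refine h2 (eq_one h ⟨hB, a1.trans hT⟩ (le_J h hT hc hX h1) fun C H a => ?_)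
  by_cases k : C ≤ X
  · exact e C H a k
  · exact (sSup_le fun D hD => a.oth D ⟨hD.1, hD.2.trans hT⟩ fun e => k (e ▸ hD.2))
      (le_ats h hT hc hX h1)

/-- A normal offender contains all atoms. -/
theorem J_le (h : FF V p T M) (hT : X ≤ T) (hc : X ≤ centralizer (X : Set Γ))
    (hX : Nat.card V ≤ ms V X) (h0 : X ≠ ⊥) (hn : T ≤ normalizer (X : Set Γ)) :
    sSup (ats V p T) ≤ X := sSup_le fun C hC => by
  obtain ⟨B, a1, hB, -⟩ := exists_inD (h.syl.pgroup.to_le hT) hc h0 hX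
  obtain ⟨s, hs, rfl⟩ := exists_cj_eq h ⟨hB, a1.trans hT⟩ hC
  exact cj_le_of_mem_norm (hn hs) a1

/-- The component lemma. -/
theorem At.fix_of (a : At V p T B H) (h : FF V p T M) {y : Γ} (hy : y ∈ sSup (ats V p T))
    (h1 : y ∉ relK V (fixA V H)) {v : V} (hv : dl y v ∈ fixA V H) : v ∈ fixA V B := by
  have c : sSup (ats V p T) ≤ centralizer (B : Set Γ) :=
    (sSup_comm h).trans (cent_anti (le_sSup a.mem))
  obtain ⟨b, hb, e⟩ := a.exists_mul h (sSup_le fun _ h => h.2) c hy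
  have b1 : b ≠ 1 := fun k => h1 (by rwa [k, inv_one, one_mul] at e)
  have r : b⁻¹ * y ∈ normalizer (B : Set Γ) :=
    mul_mem (inv_mem (le_normalizer hb)) (norm_of_cent c hy)
  rw [← mul_inv_cancel_left b y, dl_mul''] at hv
  have := a.fix_of_dl hb b1 ((add_mem_cancel_right (e v)).1 hv)
  have := smul_mem_fix_of_norm (inv_mem r) this
  rwa [inv_smul_smul] at this

end Cfsg.Agent.PU69
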