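import Cfsg.Agent.H69.CDrel

/-!
Vertices for the Glauberman–Niles theorem.
-/

set_option autoImplicit false

namespace Cfsg.Agent.H69

open Subgroup
open scoped commutatorElement

universe u

variable {X : Type u} [Group X] {p q : ℕ} {G S Q M H : Subgroup X}

theorem comm_mul_of_comm {a b c : X} (h : a * c = c * a) : ⁅a, b * c⁆ = ⁅a, b⁆ := by
  rw [commutatorElement_mul_right_eq_mul_conj, commutatorElement_eq_one_iff_mul_comm.2 h]; group

theorem conj_comm_of_comm {a b c : X} (h : b * a = a * b) : b * ⁅a, c⁆ * b⁻¹ = ⁅a, b * c * b⁻¹⁆ := by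
  rw [conjugate_commutatorElement, h, mul_inv_cancel_right]

theorem zOf_comm_mul {s a b : X} (ha : a ∈ S) (h1 : ⁅s, a⁆ ∈ zOf S) (h2 : ⁅s, b⁆ ∈ zOf S) :
    ⁅s, a * b⁆ ∈ zOf S := comm_mul_mem (norm_zOf S ha) h1 h2

/-- A rank one group of characteristic `p` in which `Z(S)` is not central and `S` is centrally
large. -/
structure V0 (p q : ℕ) (G S Q M : Subgroup X) : Prop where
  fin : Finite G
  r : RankOne p q G S Q M
  hc : G ⊓ centralizer (Q : Set X) ≤ Q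
  nc : ¬ zOf S ≤ centralizer (G : Set X)
  cd : CD S S
  fld : ∃ (F : Type) (_ : Field F) (_ : Fintype F), Fintype.card F = q
  mx : ∃ A ∈ H23.maxAb 0 S, ¬ A ≤ Q

theorem V0.map {Y : Type*} [Group Y] {ι : X →* Y} (hι : Function.Injective ι)
    (v : V0 p q G S Q M) : V0 p q (G.map ι) (S.map ι) (Q.map ι) (M.map ι) where
  fin := have := v.fin; Finite.of_equiv _ (G.equivMapOfInjective ι hι).toEquiv
  r := v.r.map hι
  hc := by rw [← map_inf_centralizer hι]; exact map_mono v.hc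
  nc := fun e => v.nc fun z hz => (mem_centralizer_map hι).1
    (e (map_zOf hι S ▸ mem_map_of_mem ι hz))
  cd := (cd_map hι).2 v.cd
  fld := v.fld
  mx := let ⟨_, hA, e⟩ := v.mx
    ⟨_, (H23.map_mem_maxAb_iff hι).2 hA, fun e' => e ((map_le_map_inj hι).1 e')⟩

namespace V0

variable (v : V0 p q G S Q M)
include v

theorem cj (g : X) : V0 p q (cj g G) (cj g S) (cj g Q) (cj g M) := v.map (MulAut.conj g).injective

theorem cj_mem {g : X} (hg : g ∈ G) : V0 p q G (H69.cj g S) Q (H69.cj g M) := by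
  have := v.cj g
  rwa [cj_eq_of_mem hg, cj_eq_of_mem_normalizer (v.r.Qn hg)] at this

theorem finS : Finite S := have := v.fin; finite_of_le v.r.syl.le

theorem zle : zOf S ≤ zOf Q := v.r.zOf_le v.hc

theorem zG : zOf G ≤ zOf S := v.r.zOf_G_le v.hc

theorem VS : zOf Q ≤ S := inf_le_left.trans v.r.QS

theorem cent : S ⊓ centralizer (zOf Q : Set X) = Q :=
  le_antisymm (v.r.cent_zOf v.hc v.nc) (le_inf v.r.QS (le_centralizer_zOf Q))

theorem not_le : ¬ zOf Q ≤ zOf S := fun e =>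
  v.r.ne ((le_inf le_rfl (le_centralizer_iff.1 (e.trans inf_le_right))).trans v.cent.le)

theorem central {z g : X} (hz : z ∈ zOf S) (hg : g ∈ G) (hM : g ∉ M)
    (h : g * z * g⁻¹ ∈ zOf S) : z ∈ centralizer (G : Set X) := by
  have h1 : z ∈ zOf (H69.cj g⁻¹ S) := by rw [← cj_zOf, mem_cj, inv_inv]; exact h
  have := v.r.gen_sup (H := centralizer {z}) (G.inv_mem hg) (fun e => hM (inv_mem_iff.1 e))
    (fun s hs => mem_centralizer_singleton_iff.2 (hz.2 s hs))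
    (fun s hs => mem_centralizer_singleton_iff.2 (h1.2 s hs))
  exact fun g hg => mem_centralizer_singleton_iff.1 (this hg)

theorem not_mem {w b : X} (hw : w ∈ G) (hM : w ∉ M) (hb : b ∈ H69.cj w S) (hQ : b ∉ Q) : b ∉ M :=
  fun e => v.r.Mne (v.r.gen' hw hM hb hQ v.r.SM e)

variable [Fact p.Prime]

theorem nat : ∃ (F : Type) (_ : Field F) (_ : Fintype F), Fintype.card F = q ∧
    Nonempty (NatSec F G S (zOf Q) ⊥) :=
  have := v.fin
  let ⟨F, _, _, hF⟩ := v.fld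
  let ⟨_, hA, e⟩ := v.mx
  ⟨F, _, _, hF, v.r.natSec_of_maxAb v.hc v.nc hA e F hF⟩

theorem quad {s x : X} (hs : s ∈ S) (hx : x ∈ zOf Q) : ⁅s, x⁆ ∈ zOf S :=
  let ⟨_, _, _, _, ⟨N⟩⟩ := v.nat; N.zquad v.r hs hx

theorem free {s x : X} (hs : s ∈ S) (hQ : s ∉ Q) (hx : x ∈ zOf Q)
    (e : ⁅s, x⁆ ∈ centralizer (G : Set X)) : x ∈ zOf S :=
  let ⟨_, _, _, _, ⟨N⟩⟩ := v.nat; N.zfree v.r hs hQ hx e

theorem free' {s x : X} (hs : s ∈ S) (hQ : s ∉ Q) (hx : x ∈ zOf Q) (e : s * x = x * s) :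
    x ∈ zOf S :=
  let ⟨_, _, _, _, ⟨N⟩⟩ := v.nat; N.zfree' v.r hs hQ hx e

theorem pow_p {x : X} (hx : x ∈ zOf Q) : x ^ p ∈ centralizer (G : Set X) :=
  let ⟨_, _, _, _, ⟨N⟩⟩ := v.nat; N.zpow_p v.r hx

theorem zsup {g : X} (hg : g ∈ G) (hM : g ∉ M) : zOf Q ≤ zOf S ⊔ zOf (H69.cj g S) :=
  let ⟨_, _, _, _, ⟨N⟩⟩ := v.nat; N.zsup v.r hg hM

theorem zcard : Nat.card (zOf Q) = q * Nat.card (zOf S) :=
  let ⟨_, _, _, hF, ⟨N⟩⟩ := v.nat; hF ▸ N.zcard v.r v.hc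

theorem mem_Q {s : X} (hs : s ∈ S) (h : ∀ x ∈ zOf Q, ⁅s, x⁆ ∈ centralizer (G : Set X)) : s ∈ Q :=
  by_contra fun e => v.not_le fun x hx => v.free hs e hx (h x hx)

theorem cdV : CD S (zOf Q) := ⟨v.VS, fun K hK => (v.cd.2 K hK).trans (by
  rw [v.cent, v.zcard, v.r.card]; exact le_of_eq (by ring))⟩

theorem cdQ : CD S Q := have := v.finS; v.cent ▸ v.cdV.cent

theorem centQ : S ⊓ centralizer (Q : Set X) = zOf Q := by
  have := v.finS
  have := v.cdV.cc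
  rwa [v.cent] at this

theorem sup_eq (h : CD S H) (hQ : ¬ H ≤ Q) : H ⊔ Q = S := by
  have := v.finS
  refine le_antisymm (sup_le h.1 v.r.QS) ((h.sup v.cdQ).ge_of_cent le_rfl fun x hx => ?_)
  obtain ⟨s, hs, hsQ⟩ := SetLike.not_le_iff_exists.1 hQ
  exact (v.free' (h.1 hs) hsQ (v.centQ.le ⟨hx.1, fun y hy => hx.2 y (mem_sup_right hy)⟩)
    (hx.2 s (mem_sup_left hs))).2

theorem transfer {g : X} (hg : g ∈ G) (h : CD S H) (a : zOf Q ≤ H) (b : H ≤ Q) :
    CD (H69.cj g S) H :=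
  h.transfer v.r.QS (v.cj_mem hg).cdQ v.cent.le (v.cj_mem hg).cent.le a b

theorem transfer' {g : X} (hg : g ∈ G) (h : CD (H69.cj g S) H) (a : zOf Q ≤ H) (b : H ≤ Q) :
    CD S H :=
  h.transfer (v.cj_mem hg).r.QS v.cdQ (v.cj_mem hg).cent.le v.cent.le a b

theorem phi : Phi p S ≤ Q := Phi_le_iff.2 ⟨v.r.comm, fun s hs => v.mem_Q (S.pow_mem hs p)
  fun x hx => by
    have c := v.quad hs hx
    have key : ∀ n : ℕ, ⁅s ^ n, x⁆ = ⁅s, x⁆ ^ n := fun n => by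
      induction n with
      | zero => simp
      | succ n ih => rw [pow_succ', commutatorElement_mul_left_eq_conj_mul, ih,
          ((zOf S).pow_mem c n).2 s hs, mul_inv_cancel_right, pow_succ]
    rw [key]
    exact v.pow_p (v.zle c)⟩

theorem le_central {Y : Subgroup X} (h1 : Y ≤ zOf Q) (h2 : G ≤ normalizer (Y : Set X)) {s : X}
    (hs : s ∈ S) (hQ : s ∉ Q) (h3 : s ∈ centralizer (Y : Set X)) :
    Y ≤ centralizer (G : Set X) := fun y hy => by
  obtain ⟨w, hw, hM⟩ := v.r.exists_not_mem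
  have key : ∀ y ∈ Y, y ∈ zOf S := fun y hy => v.free' hs hQ (h1 hy) (h3 y hy).symm
  exact v.central (key y hy) hw hM (key _ (conj_mem_of_mem_normalizer (h2 hw) hy))

theorem cent_inf {B : Subgroup X} (hB : CD S B) : S ⊓ centralizer
    ((S ⊓ centralizer (B : Set X) ⊓ Q : Subgroup X) : Set X) = B ⊔ zOf Q := by
  have := v.finS
  rw [hB.cent.cent_inf v.cdQ, hB.cc, v.centQ]

/-- Conjugation by an element of a member of the lattice. -/
theorem lemA {B Y : Subgroup X} (hB : CD S B) {b : X} (hb : b ∈ B) (hY : CD S Y) (hQ : Y ≤ Q)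
    {y : X} (hy : y ∈ Y) : ∃ y' ∈ Y, ∀ a ∈ S ⊓ centralizer (B : Set X) ⊓ Q,
      b * ⁅a, y⁆ * b⁻¹ = ⁅a, y'⁆ := by
  have := v.finS
  have hR := (hB.inf v.cdQ).sup v.cdV
  have h1 : H69.cj b Y ≤ Y ⊔ (B ⊓ Q ⊔ zOf Q) := by
    refine (hY.sup hR).ge_of_cent (hY.cj_mem (hB.1 hb)).1 fun x hx => ?_
    have hx1 : x ∈ S ⊓ centralizer ((B ⊓ Q : Subgroup X) : Set X) :=
      ⟨hx.1, fun y hy => hx.2 y (mem_sup_right (mem_sup_left hy))⟩
    rw [hB.cent_inf v.cdQ, v.centQ] at hx1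
    obtain ⟨c, hc, w, hw, rfl⟩ := hB.cent.mem_sup v.cdV hx1
    have hwY : ∀ g ∈ S, w ∈ centralizer (H69.cj g Y : Set X) := fun g hg y hy =>
      hw.2 y (cj_le_of_mem_normalizer (v.r.Qn (v.r.syl.le hg)) hQ hy)
    have hcY : c ∈ centralizer (Y : Set X) := by
      have h2 : c * w ∈ centralizer (Y : Set X) := fun y hy => hx.2 y (mem_sup_left hy)
      simpa using mul_mem h2 (inv_mem (by simpa using hwY 1 S.one_mem :
        w ∈ centralizer (Y : Set X)))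
    refine mul_mem ?_ (hwY b (hB.1 hb))
    rw [← cj_centralizer, mem_cj, mul_assoc, ← hc.2 b hb, inv_mul_cancel_left]
    exact hcY
  obtain ⟨y', hy', r, hr, e⟩ := hY.mem_sup hR (h1 (conj_mem_cj.2 hy))
  refine ⟨y', hy', fun a ha => ?_⟩
  rw [conj_comm_of_comm (ha.1.2 b hb), ← e]
  exact comm_mul_of_comm ((sup_le (fun r hr a ha => (ha.1.2 r hr.1).symm)
    (fun r hr a ha => hr.2 a ha.2) : B ⊓ Q ⊔ zOf Q ≤ centralizer
      ((S ⊓ centralizer (B : Set X) ⊓ Q : Subgroup X) : Set X)) hr a ha)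

end V0

/-- A vertex of the Glauberman–Niles configuration. -/
structure Vx (p q : ℕ) (G S Q M : Subgroup X) : Prop extends V0 p q G S Q M where
  el : ∀ z ∈ zOf S, z ^ p = 1
  ab : ∃ B, CD S B ∧ B ≤ centralizer (B : Set X) ∧ ¬ B ≤ Q

theorem Vx.map {Y : Type*} [Group Y] {ι : X →* Y} (hι : Function.Injective ι)
    (v : Vx p q G S Q M) : Vx p q (G.map ι) (S.map ι) (Q.map ι) (M.map ι) where
  toV0 := v.toV0.map hι
  el := by
    rw [← map_zOf hι]
    rintro _ ⟨z, hz, rfl⟩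
    rw [← map_pow, v.el z hz, map_one]
  ab := let ⟨_, h1, h2, e⟩ := v.ab
    ⟨_, (cd_map hι).2 h1, by
      rintro _ ⟨b, hb, rfl⟩
      exact (mem_centralizer_map hι).2 (h2 hb), fun e' => e ((map_le_map_inj hι).1 e')⟩

namespace Vx

variable (v : Vx p q G S Q M)
include v

theorem cj (g : X) : Vx p q (cj g G) (cj g S) (cj g Q) (cj g M) := v.map (MulAut.conj g).injective

theorem cj_mem {g : X} (hg : g ∈ G) : Vx p q G (H69.cj g S) Q (H69.cj g M) := by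
  have := v.cj g
  rwa [cj_eq_of_mem hg, cj_eq_of_mem_normalizer (v.r.Qn hg)] at this

variable [Fact p.Prime]

theorem elV {x : X} (hx : x ∈ zOf Q) : x ^ p = 1 := by
  obtain ⟨w, hw, hM⟩ := v.r.exists_not_mem
  obtain ⟨a, ha, b, hb, rfl⟩ := (mem_sup_of_le_normalizer (le_normalizer_of_le_centralizer
    fun b hb a ha => zOf_comm a (v.zle ha) b ((v.cj_mem hw).zle hb))).1 (v.zsup hw hM hx)
  rw [(show Commute a b from zOf_comm a (v.zle ha) b ((v.cj_mem hw).zle hb)).mul_pow, v.el a ha,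
    (v.cj_mem hw).el b hb, mul_one]

omit [Fact p.Prime] in
theorem exists_ab : ∃ w ∈ G, ∃ B, CD (H69.cj w S) B ∧ B ≤ centralizer (B : Set X) ∧
    ∃ b ∈ B, b ∈ G ∧ b ∉ M := by
  obtain ⟨w, hw, hM⟩ := v.r.exists_not_mem
  obtain ⟨B, h1, h2, h3⟩ := (v.cj_mem hw).ab
  obtain ⟨b, hb, hbQ⟩ := SetLike.not_le_iff_exists.1 h3
  exact ⟨w, hw, B, h1, h2, b, hb, (v.cj_mem hw).r.syl.le (h1.1 hb), v.not_mem hw hM (h1.1 hb) hbQ⟩

/-- If `O_p(G) = Z D` and an element outside `O_p(G)` centralizes `D` then `Z(S) ∩ Φ(D)` is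
central. -/
theorem phi_central {T D : Subgroup X} (hT : G ≤ normalizer (T : Set X)) (e : T = zOf Q ⊔ D)
    (hD : D ≤ Q) {s : X} (hs : s ∈ S) (hQ : s ∉ Q) (h : s ∈ centralizer (D : Set X)) :
    zOf S ⊓ Phi p D ≤ centralizer (G : Set X) := by
  have e1 : Phi p T = Phi p D := le_antisymm (Phi_le_of_elem (inf_le_right.trans (centralizer_le hD))
    (le_centralizer_zOf Q |> inf_le_left.trans) (fun _ => v.elV) e.le) (Phi_mono (e ▸ le_sup_right))
  refine (inf_le_inf_right _ v.zle).trans (v.le_central inf_le_left (le_normalizer_inf v.r.norm_zOf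
    (e1 ▸ hT.trans normalizer_le_normalizer_Phi)) hs hQ fun y hy => h y (Phi_le hy.2))

end Vx

end Cfsg.Agent.H69
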