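import Cfsg.Agent.H69.GN1

/-!
Two vertices over the same Sylow subgroup.
-/

set_option autoImplicit false

namespace Cfsg.Agent.H69

open Subgroup
open scoped commutatorElement

universe u

variable {X : Type u} [Group X] {p qa qb : ℕ} {S Ga Qa Ma Gb Qb Mb : Subgroup X}

theorem mem_normalizer_of_cj_le {H : Subgroup X} [Finite H] {g : X} (h : cj g H ≤ H) :
    g ∈ normalizer (H : Set X) :=
  cj_eq_self_iff.1 (eq_of_le_of_card_ge h (card_cj g H).ge)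

theorem mem_centralizer_cj {z g : X} (h1 : z ∈ centralizer (Ga : Set X))
    (h2 : z ∈ centralizer (Gb : Set X)) (hg : g ∈ Gb) : z ∈ centralizer (cj g Ga : Set X) := by
  rw [← cj_centralizer, mem_cj, mul_assoc, ← h2 g hg, inv_mul_cancel_left]; exact h1

namespace V0

variable (a : V0 p qa Ga S Qa Ma) (b : V0 p qb Gb S Qb Mb)
include a b

theorem le_symm (h : zOf Qa ≤ Qb) : zOf Qb ≤ Qa :=
  fun _ hv => a.cent.le ⟨b.VS hv, fun u hu => hv.2 u (h hu)⟩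

theorem cent_sup : S ⊓ centralizer ((zOf Qa ⊔ zOf Qb : Subgroup X) : Set X) = Qa ⊓ Qb := by
  rw [centralizer_sup', inf_inf_distrib_left, a.cent, b.cent]

theorem norm_sup : S ≤ normalizer ((zOf Qa ⊔ zOf Qb : Subgroup X) : Set X) :=
  le_normalizer_sup (a.r.syl.le.trans a.r.norm_zOf) (b.r.syl.le.trans b.r.norm_zOf)

theorem mem_sup {y : X} (hy : y ∈ zOf Qa ⊔ zOf Qb) : ∃ u ∈ zOf Qa, ∃ v ∈ zOf Qb, u * v = y :=
  (mem_sup_of_le_normalizer ((a.VS.trans b.r.syl.le).trans b.r.norm_zOf)).1 hy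

variable [Fact p.Prime]

theorem cent_inf2 : S ⊓ centralizer ((Qa ⊓ Qb : Subgroup X) : Set X) = zOf Qa ⊔ zOf Qb := by
  have := a.finS
  rw [← a.cent_sup b]; exact (a.cdV.sup b.cdV).cc

theorem quad2 {s y : X} (hs : s ∈ S) (hy : y ∈ zOf Qa ⊔ zOf Qb) : ⁅s, y⁆ ∈ zOf S := by
  obtain ⟨u, hu, v, hv, rfl⟩ := a.mem_sup b hy
  exact zOf_comm_mul (a.VS hu) (a.quad hs hu) (b.quad hs hv)

theorem sup_inf_le (h : ¬ zOf Qb ≤ Qa) : (zOf Qa ⊔ zOf Qb) ⊓ Qb ≤ zOf Qb := fun x hx => by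
  obtain ⟨v₀, hv₀, hv₀'⟩ := SetLike.not_le_iff_exists.1 h
  obtain ⟨u, hu, v, hv, rfl⟩ := a.mem_sup b hx.1
  have hu' : u ∈ Qb := by simpa using Qb.mul_mem hx.2 (Qb.inv_mem hv.1)
  exact mul_mem (b.zle (a.free' (b.VS hv₀) hv₀' hu (hv₀.2 u hu').symm)) hv

end V0

variable [Fact p.Prime]

theorem Vx.b1 (a : Vx p qa Ga S Qa Ma) (b : Vx p qb Gb S Qb Mb) (h : ¬ zOf Qa ≤ Qb) :
    ∃ N, Small p S N ∧ zOf S ⊓ N ≤ centralizer (Gb : Set X) := by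
  have := a.finS
  have h' : ¬ zOf Qb ≤ Qa := fun e => h (b.le_symm a.toV0 e)
  obtain ⟨u₀, hu₀, hu₀'⟩ := SetLike.not_le_iff_exists.1 h
  have hP := a.cdV.sup b.cdV
  have hD := a.cdQ.inf b.cdQ
  have i1 := a.sup_inf_le b.toV0 h'
  have i2 := b.sup_inf_le a.toV0 h
  rw [sup_comm] at i2
  have i3 : (zOf Qa ⊔ zOf Qb) ⊓ (Qa ⊓ Qb) ≤ zOf S := fun x hx =>
    b.free' (a.VS hu₀) hu₀' (i1 ⟨hx.1, hx.2.2⟩) (hu₀.2 x hx.2.1).symm
  have hPD := ((a.cent_inf2 b.toV0).ge.trans inf_le_right)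
  refine ⟨Phi p (Qa ⊓ Qb), small_of_prod (E := (zOf Qa ⊔ zOf Qb) ⊓ (Qa ⊓ Qb))
    ((hP.sup hD).ge_of_cent le_rfl ?_) hPD inf_le_left hP.1
    (i3.trans (inf_le_right.trans (centralizer_le (inf_le_left.trans hP.1))))
    (fun x hx => a.el x (i3 hx)) (le_inf Phi_le ((Phi_mono hP.1).trans (le_inf a.phi b.phi)))
    (fun s hs x hx => a.quad2 b.toV0 hs hx.1) (fun _ => i3) fun hp x hx => ?_,
    b.phi_central b.r.Qn (le_antisymm ((b.cdV.sup hD).ge_of_cent b.r.QS ?_)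
      (sup_le inf_le_left inf_le_right)) inf_le_right (a.VS hu₀) hu₀' (hPD (mem_sup_left hu₀))⟩
  · rw [centralizer_sup', inf_inf_distrib_left, a.cent_sup b.toV0, a.cent_inf2 b.toV0, inf_comm]
    exact i3.trans inf_le_right
  · obtain ⟨u, hu, v, hv, rfl⟩ := a.mem_sup b.toV0 hx
    have c := a.quad (b.VS hv) hu
    obtain ⟨k, hk⟩ := (Fact.out : p.Prime).dvd_choose_self two_ne_zero (by omega)
    rw [mul_pow_class_two (Commute.symm (c.2 u (a.VS hu))) (Commute.symm (c.2 v (b.VS hv))),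
      a.elV hu, b.elV hv, hk, pow_mul, a.el _ c]
    simp
  · rw [centralizer_sup', inf_inf_distrib_left, b.cent, a.cent_inf2 b.toV0, inf_comm]
    exact i1.trans inf_le_right

/-- A pair of vertices at distance at least two such that `Z_α Z_β` is not normal in `G_β`. -/
structure NF (p qa qb : ℕ) (S Ga Qa Ma Gb Qb Mb : Subgroup X) : Prop where
  a : Vx p qa Ga S Qa Ma
  b : Vx p qb Gb S Qb Mb
  le : zOf Qa ≤ Qb
  nf : ¬ Gb ≤ normalizer ((zOf Qa ⊔ zOf Qb : Subgroup X) : Set X)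

namespace NF

variable (n : NF p qa qb S Ga Qa Ma Gb Qb Mb)
include n

omit [Fact p.Prime] in
theorem cj_mem {g : X} (hg : g ∈ Gb) :
    NF p qa qb (cj g S) (cj g Ga) (cj g Qa) (cj g Ma) Gb Qb (cj g Mb) where
  a := n.a.cj g
  b := n.b.cj_mem hg
  le := by rw [← cj_zOf]; exact cj_le_of_mem_normalizer (n.b.r.Qn hg) n.le
  nf := fun e => n.nf (by
    rw [← cj_eq_of_mem_normalizer (n.b.r.norm_zOf hg), ← cj_zOf, ← cj_sup, ← cj_normalizer,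
      le_cj_iff, cj_eq_of_mem (Gb.inv_mem hg)] at e
    exact e)

omit [Fact p.Prime] in
theorem le' : zOf Qb ≤ Qa := n.a.le_symm n.b.toV0 n.le

theorem lemB {s u : X} (hs : s ∈ S) (hu : u ∈ zOf Qa) : ⁅s, u⁆ ∈ centralizer (Gb : Set X) := by
  obtain ⟨w, hw, B, hB, hBa, x, hx, hxG, hxM⟩ := n.b.exists_ab
  have b' := n.b.cj_mem hw
  have := b'.finS
  have := n.a.finS
  have hYQ : zOf Qa ⊔ zOf Qb ≤ Qb := sup_le n.le inf_le_left
  have hY := n.b.transfer hw (n.a.cdV.sup n.b.cdV) le_sup_right hYQ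
  have hA := hB.cent.inf b'.cdQ
  have nB : B ≤ normalizer (zOf Qb : Set X) := (hB.1.trans b'.r.syl.le).trans b'.r.norm_zOf
  have h1 : ¬ cj w S ⊓ centralizer (B : Set X) ⊓ Qb ≤ Qa := fun e => by
    refine n.nf (n.b.r.le_of_not_le (n.a.norm_sup n.b.toV0) fun e' => hxM (e' ⟨hxG,
      le_normalizer_sup_of_comm nB (fun u hu g hg => ?_) hx⟩))
    obtain ⟨b₀, hb₀, v, hv, rfl⟩ := (mem_sup_of_le_normalizer nB).1 ((b'.cent_inf hB).le
      (mem_inf.2 ⟨b'.r.QS (n.le hu), fun y hy => hu.2 y (e hy)⟩))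
    refine comm_mul_mem (nB hb₀) ?_ (commutator_mem_of_normalizer (nB hg) hv)
    rw [commutatorElement_eq_one_iff_mul_comm.2 (hBa hb₀ g hg)]; exact one_mem _
  have h2 := n.a.sup_eq (n.b.transfer' hw (hA.sup b'.cdV) le_sup_right
    (sup_le inf_le_right inf_le_left)) fun e => h1 (le_sup_left.trans e)
  rw [sup_assoc, sup_eq_right.2 n.le'] at h2
  have hAS : cj w S ⊓ centralizer (B : Set X) ⊓ Qb ≤ S := inf_le_right.trans n.b.r.QS
  refine (commutator_le_of_le_sup ((hAS.trans n.a.r.syl.le).trans n.a.r.Qn) h2.ge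
    (le_centralizer_zOf Qa)).trans (commutator_le.2 fun c hc u hu => ?_)
    (commutator_mem_commutator hs hu)
  obtain ⟨y, hy, e⟩ := b'.lemA hB hx hY hYQ (mem_sup_left hu)
  exact n.b.central (n.a.quad (hAS hc) hu) hxG hxM (e c hc ▸ n.a.quad2 n.b.toV0 (hAS hc) hy)

theorem lemB' {g : X} (hg : g ∈ Gb) {d u : X} (hd : d ∈ Qb) (hu : u ∈ zOf (cj g Qa)) :
    ⁅d, u⁆ ∈ zOf Gb :=
  ⟨n.b.r.QG (commutator_le_self Qb (commutator_mem_commutator hd ((n.cj_mem hg).le hu))),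
    (n.cj_mem hg).lemB ((n.cj_mem hg).b.r.QS hd) hu⟩

theorem cdU {g : X} (hg : g ∈ Gb) : CD S (zOf (cj g Qa) ⊔ zOf Qb) :=
  have n' := n.cj_mem hg
  have := n'.a.finS
  n.b.transfer' hg (n'.a.cdV.sup n'.b.cdV) le_sup_right (sup_le n'.le inf_le_left)

theorem lemN {g : X} (hg : g ∈ Gb) (hM : g ∉ Mb) : ¬ zOf (cj g Qa) ≤ Qa := fun e => by
  have n' := n.cj_mem hg
  have star : ∀ d ∈ Qb, (∀ u ∈ zOf (cj g Qa), ⁅d, u⁆ ∈ centralizer (Ga : Set X)) →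
      d ∈ centralizer (zOf (cj g Qa) : Set X) := fun d hd h => le_centralizer_zOf _
    (n'.a.mem_Q (n'.b.r.QS hd) fun u hu => mem_centralizer_cj (h u hu) (n.lemB' hg hd hu).2 hg)
  have zS : ∀ d ∈ Qb, ∀ u ∈ zOf (cj g Qa), ⁅d, u⁆ ∈ zOf S := fun d hd u hu =>
    n.b.zG (n.lemB' hg hd hu)
  obtain ⟨h, hh, B, hB, hBa, x, hx, hxG, hxM⟩ := n.a.exists_ab
  have a' := n.a.cj_mem hh
  have := a'.finS
  have := n.a.finS
  have hUQ : zOf Qa ⊔ zOf Qb ≤ Qa := sup_le inf_le_left n.le'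
  have hUV := n.a.transfer hh (n.a.cdV.sup n.b.cdV) le_sup_left hUQ
  have hY : CD (cj h S) (zOf (cj g Qa) ⊔ (zOf Qa ⊔ zOf Qb)) := by
    refine n.a.transfer hh ?_ (le_sup_left.trans le_sup_right) (sup_le e hUQ)
    rw [sup_left_comm]; exact n.a.cdV.sup (n.cdU hg)
  have cD : ∀ d ∈ cj h S, d ∈ centralizer ((zOf Qa ⊔ zOf Qb : Subgroup X) : Set X) →
      d ∈ Qa ⊓ Qb := fun d hd hd' => (n.a.cent_sup n.b.toV0).le
    ⟨n.a.r.QS (a'.cent.le ⟨hd, fun y hy => hd' y (mem_sup_left hy)⟩), hd'⟩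
  have hi : x⁻¹ ∉ Ma := fun e => hxM (inv_mem_iff.1 e)
  have s1 : zOf (cj g Qa) ≤ B ⊔ (zOf Qa ⊔ zOf Qb) :=
    (hB.sup hUV).ge_of_cent (e.trans a'.r.QS) fun d hd => by
      have hd1 : d ∈ centralizer ((zOf Qa ⊔ zOf Qb : Subgroup X) : Set X) :=
        fun y hy => hd.2 y (mem_sup_right hy)
      have hD := cD d hd.1 hd1
      refine star d hD.2 fun u hu => ?_
      obtain ⟨y, hy, e'⟩ := a'.lemA hB hx hY (sup_le e hUQ) (mem_sup_left hu)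
      obtain ⟨u', hu', r, hr, rfl⟩ := (mem_sup_of_le_normalizer ((e.trans n.a.r.QS).trans
        (n.a.norm_sup n.b.toV0))).1 hy
      refine n.a.central (zS d hD.2 u hu) hxG hxM ?_
      rw [e' d ⟨⟨hd.1, fun y hy => hd.2 y (mem_sup_left hy)⟩, hD.1⟩,
        comm_mul_of_comm (hd1 r hr).symm]
      exact zS d hD.2 u' hu'
  have s2 : zOf (cj g Qa) ≤ cj x (zOf Qa ⊔ zOf Qb) ⊔ (zOf Qa ⊔ zOf Qb) :=
    ((hUV.cj_mem (hB.1 hx)).sup hUV).ge_of_cent (e.trans a'.r.QS) fun d hd => by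
      have hd1 : d ∈ centralizer ((zOf Qa ⊔ zOf Qb : Subgroup X) : Set X) :=
        fun y hy => hd.2 y (mem_sup_right hy)
      have hd2 : x⁻¹ * d * x ∈ centralizer ((zOf Qa ⊔ zOf Qb : Subgroup X) : Set X) := by
        rw [← mem_cj, cj_centralizer]; exact fun y hy => hd.2 y (mem_sup_left hy)
      have hD := cD d hd.1 hd1
      have hD2 := cD _ (mul_mem (mul_mem (inv_mem (hB.1 hx)) hd.1) (hB.1 hx)) hd2
      refine star d hD.2 fun u hu => n.a.central (zS d hD.2 u hu) (inv_mem hxG) hi ?_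
      have h3 := zS _ hD2.2 u hu
      obtain ⟨b₀, hb₀, r, hr, rfl⟩ := hB.mem_sup hUV (s1 hu)
      rw [comm_mul_of_comm (hd2 r hr).symm] at h3
      rw [comm_mul_of_comm (hd1 r hr).symm, conjugate_commutatorElement, inv_inv,
        mul_assoc x⁻¹ b₀, hBa hx b₀ hb₀, inv_mul_cancel_left]
      exact h3
  have s3 : Qa ⊓ Qb ≤ centralizer (zOf (cj g Qa) : Set X) := fun d hd =>
    star d hd.2 fun u hu => n.a.central (zS d hd.2 u hu) (inv_mem hxG) hi (by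
      obtain ⟨r, hr, y, hy, rfl⟩ := (hUV.cj_mem (hB.1 hx)).mem_sup hUV (s2 hu)
      rw [comm_mul_of_comm (((n.a.cent_sup n.b.toV0).ge hd).2 y hy).symm,
        conjugate_commutatorElement, inv_inv]
      exact n.a.quad2 n.b.toV0 (n.a.r.QS (conj_mem_of_mem_normalizer' (n.a.r.Qn hxG) hd.1))
        (mem_cj.1 hr))
  have s4 : zOf (cj g Qa) ≤ zOf Qa ⊔ zOf Qb :=
    (le_inf (e.trans n.a.r.QS) (le_centralizer_iff.1 s3)).trans (n.a.cent_inf2 n.b.toV0).le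
  have := finite_of_le (hUQ.trans n.a.r.QS)
  refine n.nf (n.b.r.le_of_not_le (n.a.norm_sup n.b.toV0) fun e' => hM (e' ⟨hg,
    mem_normalizer_of_cj_le ?_⟩))
  rw [cj_sup, cj_zOf, cj_eq_of_mem_normalizer (n.b.r.norm_zOf hg)]
  exact sup_le s4 le_sup_right

theorem lemN' {g : X} (hg : g ∈ Gb) (hM : g ∉ Mb) {u : X} (hu : u ∈ zOf (cj g Qa)) (hQ : u ∈ Qa) :
    u ∈ zOf (cj g S) := by
  have n' := n.cj_mem hg
  have := n'.lemN (Gb.inv_mem hg) (RankOne.inv_not_mem_cj hM)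
  rw [cj_inv_cj] at this
  obtain ⟨y, hy, hy'⟩ := SetLike.not_le_iff_exists.1 this
  exact n'.a.free' (n'.b.r.QS (n.le hy)) hy' hu (hy.2 u hQ).symm

theorem key {g : X} (hg : g ∈ Gb) (hM : g ∉ Mb) {c u u' : X} (hc : c ∈ S) (hQ : c ∉ Qb)
    (hu : u ∈ zOf (cj g Qa)) (hu' : u' ∈ zOf (cj g Qa)) (h1 : u ∉ zOf (cj g S))
    (h2 : u' ∉ zOf (cj g S)) : ⁅u', ⁅c, u⁆⁆ ∉ centralizer (Ga : Set X) := fun e => by
  have n' := n.cj_mem hg
  have hcG := n.b.r.syl.le hc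
  have h3 : ⁅c, u⁆ ∈ Qb := commutator_mem_of_normalizer (n.b.r.Qn hcG) (n'.le hu)
  have h4 : ⁅c, u⁆ ∈ cj g Qa := by_contra fun e' => h2 (n'.a.free (n'.b.r.QS h3) e' hu'
    (mem_centralizer_cj (comm_mem_comm e) (n.lemB' hg h3 hu').2 hg))
  have h5 := n'.lemN' hcG (n.b.r.not_mem_cj hg hM hc hQ) (u := c * u * c⁻¹)
    (by rw [← cj_zOf]; exact conj_mem_cj.2 hu)
    (by simpa [commutatorElement_def] using mul_mem h4 hu.1)
  rw [← cj_zOf] at h5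
  exact h1 (conj_mem_cj.1 h5)

end NF

end Cfsg.Agent.H69
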