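import Cfsg.Agent.H69.GN2

/-!
The flat case and the cubic action argument for the Glauberman–Niles theorem.
-/

set_option autoImplicit false

namespace Cfsg.Agent.H69

open Subgroup Matrix
open scoped commutatorElement

universe u

variable {X : Type u} [Group X] {p q qa qb : ℕ} {G S Q M Ga Qa Ma Gb Qb Mb : Subgroup X}

theorem comm_mem_of_coprime {B W : Subgroup X} (hB : IsPGroup p B) {y a : X} {m : ℕ}
    (hm : m.Coprime p) (hy : y ∈ cmod B W) (h1 : ⁅y, a⁆ ∈ B) (h2 : ⁅y ^ m, a⁆ ∈ W) :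
    ⁅y, a⁆ ∈ W := by
  have key : ∀ n : ℕ, ⁅y ^ n, a⁆ * (⁅y, a⁆ ^ n)⁻¹ ∈ W := fun n => by
    induction n with
    | zero => simp
    | succ n ih =>
      have := W.mul_mem (conj_mem_of_mem_normalizer hy.1 ih) (hy.2 _ (B.pow_mem h1 n))
      rw [pow_succ' y, commutatorElement_mul_left_eq_conj_mul, pow_succ]
      convert this using 1
      rw [commutatorElement_def y (⁅y, a⁆ ^ n)]; group
  obtain ⟨k, hk⟩ := isPGroup_iff_mem.1 hB _ h1
  exact mem_of_coprime_pow (hm.pow_right k)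
    (by simpa only [inv_mul_cancel_left, inv_inv] using W.inv_mem (W.mul_mem (W.inv_mem h2) (key m)))
    (hk ▸ W.one_mem)

theorem NatSec.mem_cmod_of_K {F : Type*} [Field F] (N : NatSec F G S (zOf Q) ⊥) (hQ : Q ≤ G) {y : X}
    (hy : y ∈ N.K) : y ∈ cmod (zOf Q) (zOf G) := ⟨norm_zOf G (N.K_le hy), fun v hv => by
  have hv' := commutator_mem_of_normalizer (N.norm (N.K_le hy)) hv
  refine ⟨hQ hv'.1, (N.ker_iff hv').1 ?_⟩
  rw [N.ψ_comm ⟨y, N.K_le hy⟩ hv, (N.mem_K (g := ⟨y, N.K_le hy⟩)).1 hy, sl2_one_mulVec, sub_self]⟩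

variable [hp : Fact p.Prime]

/-- The vanishing of the first cohomology of the natural module in odd characteristic. -/
theorem V0.comm_comm_central (v : V0 p q G S Q M) (p2 : p ≠ 2)
    (hU : ∀ y ∈ G, ∀ m : ℕ, m.Coprime p → y ^ m = 1 → ∀ c ∈ Q, ⁅y, c⁆ ∈ zOf Q) {x c : X}
    (hx : x ∈ S) (hc : c ∈ Q) (h : ⁅x, ⁅c, x⁆⁆ ∈ zOf Q) : ⁅x, ⁅c, x⁆⁆ ∈ centralizer (G : Set X) := by
  have := v.fin
  obtain ⟨F, _, _, -, ⟨N⟩⟩ := v.nat
  have c2 : Nat.Coprime 2 p := (Nat.coprime_primes Nat.prime_two hp.out).2 p2.symm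
  have hK : N.K ≤ Q := v.r.le_Q_of_coprime (N.K_le_M v.r) N.norm_K fun y hy m hm hym =>
    v.hc ⟨N.K_le hy, fun c hc => comm_of_coprime v.r.isPGroup_Q.to_inf_left hm hym
      (hU y (N.K_le hy) m hm hym c hc) fun u hu => comm_of_coprime (B := zOf G)
        (v.r.syl.isPGroup.to_le (v.zG.trans inf_le_left)) hm hym
        ((N.mem_cmod_of_K v.r.QG hy).2 u hu) (le_centralizer_zOf G (N.K_le hy))⟩
  obtain ⟨t₀, ht₀⟩ := N.ρ_surj (-1)
  obtain ⟨k, m, hm, e⟩ := Nat.exists_eq_pow_mul_and_not_dvd (orderOf_pos t₀).ne' p hp.out.ne_one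
  have hm' := ((Nat.Prime.coprime_iff_not_dvd hp.out).2 hm).symm
  obtain ⟨t, ht, htm⟩ : ∃ t : G, N.ρ t = -1 ∧ t ^ m = 1 := ⟨t₀ ^ p ^ k, by
    rw [map_pow, ht₀, ((hp.out.odd_of_ne_two p2).pow).neg_one_pow], by
    rw [← pow_mul, ← e, pow_orderOf_eq_one]⟩
  have hU' : ∀ s : G, s ^ m = 1 → ∀ c ∈ Q, ⁅(s : X), c⁆ ∈ zOf Q := fun s hs =>
    hU s s.2 m hm' (by rw [← coe_pow, hs, coe_one])
  have hδ : ∀ a ∈ Q, ∀ b ∈ Q, N.ψ ⁅(t : X), a * b⁆ = N.ψ ⁅(t : X), a⁆ + N.ψ ⁅(t : X), b⁆ :=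
    fun a ha b hb => by
      rw [commutatorElement_mul_right_eq_mul_conj, mul_assoc, mul_assoc, ← mul_assoc a,
        (hU' t htm b hb).2 a ha, mul_inv_cancel_right, N.ψ_mul _ (hU' t htm a ha) _ (hU' t htm b hb)]
  have hd := fun a ha b hb => addOn_div (π := fun a => N.ψ ⁅(t : X), a⁆) hδ (v := a) (v' := b) ha hb
  have two : ∀ u ∈ zOf Q, N.ψ ⁅(t : X), u⁆ = 0 → u ∈ centralizer (G : Set X) := fun u hu e =>
    mem_of_coprime_pow c2 ((N.ker_iff (pow_mem hu 2)).1 (by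
      rw [N.ψ_comm t hu, ht, sl2_neg_one_mulVec] at e
      rw [addOn_pow N.ψ_mul hu, two_smul, ← neg_eq_zero, ← e]; abel)) (v.pow_p hu)
  obtain ⟨x, rfl⟩ : ∃ x' : G, (x' : X) = x := ⟨⟨x, v.r.syl.le hx⟩, rfl⟩
  have eqv : ∀ a ∈ Q, N.ψ ⁅(t : X), ⁅(x : X), a⁆⁆ =
      (N.ρ x).1 *ᵥ N.ψ ⁅(t : X), a⁆ - N.ψ ⁅(t : X), a⁆ := fun a ha => by
    have h1 := hU' (x⁻¹ * t * x) (by
      rw [show x⁻¹ * t * x = x⁻¹ * t * x⁻¹⁻¹ by rw [inv_inv], conj_pow, htm]; simp) a ha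
    have hr : ((t⁻¹ * (x⁻¹ * t * x) : G) : X) ∈ Q := hK (N.mem_K.2 (by simp [ht]))
    generalize hr' : t⁻¹ * (x⁻¹ * t * x) = r at hr
    have e1 : x⁻¹ * t * x = t * r := by rw [← hr']; group
    have e2 : ⁅((t * r : G) : X), a⁆ = t * ⁅(r : X), a⁆ * (t : X)⁻¹ * ⁅(t : X), a⁆ :=
      commutatorElement_mul_left_eq_conj_mul _ _ _
    have h2 : ⁅(r : X), a⁆ ∈ zOf Q := by
      rw [e1, e2] at h1
      have := conj_mem_of_mem_normalizer' (N.norm t.2) (mul_mem h1 (inv_mem (hU' t htm a ha)))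
      simpa only [mul_assoc, inv_mul_cancel_left, mul_inv_cancel_left, inv_mul_cancel,
        mul_one] using this
    have h3 := two _ h2 (by
      rw [commutatorElement_def (r : X), hd _ (mul_mem (mul_mem hr ha) (inv_mem hr)) _ ha,
        hd _ (mul_mem hr ha) _ hr, hδ _ hr _ ha]; abel)
    have e3 : ⁅(t : X), x * a * (x : X)⁻¹⁆ = x * ⁅((t * r : G) : X), a⁆ * (x : X)⁻¹ := by
      rw [← e1, conjugate_commutatorElement]; simp [mul_assoc]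
    rw [commutatorElement_def (x : X), hd _ (conj_mem_of_mem_normalizer (v.r.Qn x.2) ha) _ ha,
      e3, N.equiv x _ (e1 ▸ h1), e2, h3 t t.2, mul_inv_cancel_right,
      N.ψ_mul _ h2 _ (hU' t htm a ha), (N.ker_iff h2).2 h3, zero_add]
  refine two _ h ?_
  have h1 := commutator_mem_of_normalizer (v.r.Qn x.2) hc
  obtain ⟨d, hd⟩ := N.up_mem x hx
  rw [eqv _ (comm_mem_comm h1), ← commutatorElement_inv (x : X) c,
    addOn_inv (π := fun a => N.ψ ⁅(t : X), a⁆) hδ h1, eqv c hc, hd, up_mulVec, up_mulVec]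
  ext i
  fin_cases i <;> simp [vecHead, vecTail]

theorem NF.not_flat (n : NF p qa qb S Ga Qa Ma Gb Qb Mb) :
    ¬ Ga ≤ normalizer ((zOf Qa ⊔ zOf Qb : Subgroup X) : Set X) := fun fl => by
  obtain ⟨g, hg, hM⟩ := n.b.r.exists_not_mem
  have n' := n.cj_mem hg
  obtain ⟨x, hx, hxQ⟩ := SetLike.not_le_iff_exists.1 (n.lemN hg hM)
  have hxb := n'.le hx
  have hxS := n.b.r.QS hxb
  have hxG := n.a.r.syl.le hxS
  have hxZ : x ∉ zOf (cj g S) := fun e => hxQ (n.le' (n'.b.zle e))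
  obtain ⟨c, hc, hcQ⟩ : ∃ c ∈ Qa, c ∉ Qb := SetLike.not_le_iff_exists.1 fun e =>
    n.b.r.ne ((n.a.sup_eq n.b.cdQ fun e' => hxQ (e' hxb)).ge.trans (sup_le le_rfl e))
  refine n.key hg hM (n.a.r.QS hc) hcQ hx hx hxZ hxZ ?_
  have nD : Ga ≤ normalizer ((Qa ⊓ Qb : Subgroup X) : Set X) := by
    rw [← n.a.cent_sup n.b.toV0, ← inf_eq_right.2 ((n.a.cent_sup n.b.toV0).le.trans inf_le_left),
      ← inf_assoc, inf_eq_left.2 n.a.r.QS]
    exact le_normalizer_inf n.a.r.Qn (fl.trans (normalizer_le_normalizer_centralizer _))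
  have hD : ∀ c ∈ Qa, ⁅x, c⁆ ∈ Qa ⊓ Qb := fun c hc =>
    ⟨commutator_mem_of_normalizer (n.a.r.Qn hxG) hc, comm_mem_comm
      (commutator_mem_of_normalizer (n.b.r.Qn (n.b.r.syl.le (n.a.r.QS hc))) hxb)⟩
  have hz : ∀ d ∈ Qb, ⁅x, d⁆ ∈ zOf S := fun d hd => n.b.zG (comm_mem_comm (n.lemB' hg hd hx))
  have nL : Ga ≤ normalizer ((Ga ⊓ (cmod Qa (Qa ⊓ Qb) ⊓ cmod (Qa ⊓ Qb) (zOf Qa)) : Subgroup X) :
      Set X) := le_normalizer_inf le_normalizer (le_normalizer_inf (le_normalizer_cmod n.a.r.Qn nD)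
    (le_normalizer_cmod nD n.a.r.norm_zOf))
  have hL := n.a.r.le_sup_of_normal inf_le_left nL fun e => hxQ (e ⟨hxS, hxG, ⟨nD hxG, hD⟩,
    n.a.r.norm_zOf hxG, fun d hd => n.a.zle (hz d hd.2)⟩)
  have hc' := comm_mem_comm (hD c hc)
  by_cases p2 : p = 2
  · subst p2
    have hx2 : x⁻¹ = x := inv_eq_of_mul_eq_one_right (by rw [← sq]; exact n'.a.elV hx)
    have e : ⁅x, ⁅c, x⁆⁆ = (⁅c, x⁆ ^ 2)⁻¹ := by
      have : x * ⁅c, x⁆ * x⁻¹ = ⁅c, x⁆⁻¹ := by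
        rw [commutatorElement_inv, commutatorElement_def, commutatorElement_def, hx2,
          mul_assoc x, mul_assoc _ x x, mul_eq_one_iff_inv_eq.2 hx2]
        group
      rw [commutatorElement_def x, this, sq, _root_.mul_inv_rev]
    have h1 := hz _ hc'.2
    rw [e] at h1 ⊢
    have := hL.trans (sup_le (show _ ≤ centralizer {⁅c, x⁆ ^ 2} from fun l hl => by
      have h2 := hl.2.2.2 _ hc'
      rw [mem_centralizer_singleton_iff, ← mul_inv_eq_iff_eq_mul, ← conj_pow,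
        show l * ⁅c, x⁆ * l⁻¹ = ⁅l, ⁅c, x⁆⁆ * ⁅c, x⁆ by
          rw [commutatorElement_def l, inv_mul_cancel_right],
        (Commute.symm (h2.2 _ hc'.1)).mul_pow, n.a.elV h2, one_mul])
      fun s hs => mem_centralizer_singleton_iff.2 ((inv_mem_iff.1 h1).2 s hs))
    exact inv_mem fun g hg => mem_centralizer_singleton_iff.1 (this hg)
  · refine n.a.comm_comm_central p2 (fun y hy m hm hym c hc => ?_) hxS hc (n.a.zle (hz _ hc'.2))
    have h1 := mem_of_coprime_of_le_sup n.a.r.syl.isPGroup (n.a.r.syl.le.trans nL) (hL hy) hm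
      (hym ▸ one_mem _)
    exact comm_mem_of_coprime n.a.r.isPGroup_Q.to_inf_left hm h1.2.2 (h1.2.1.2 c hc)
      (by rw [hym]; simp)

theorem V0.cubic (v : V0 p q G S Q M) {Y E : Subgroup X} (nY : G ≤ normalizer (Y : Set X))
    (hYQ : Y ≤ Q) (hUE : zOf Q ≤ E) (hEY : E ≤ Y)
    (hQY : ∀ s ∈ Q, ∀ y ∈ Y, ⁅s, y⁆ ∈ centralizer (G : Set X))
    (hE : ∀ s ∈ S, ∀ y ∈ E, ⁅s, y⁆ ∈ zOf S) {z : X} (hzS : z ∈ S) (hzQ : z ∉ Q) (hzp : z ^ p = 1)
    (hSY : ∀ y ∈ Y, ⁅z, y⁆ ∈ E)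
    (hkey : ∀ y ∈ Y, ⁅z, ⁅z, y⁆⁆ ∈ centralizer (G : Set X) → y ∈ E)
    (hnf : ¬ G ≤ normalizer (E : Set X))
    {y : X} (hyY : y ∈ Y) (hyE : y ∉ E) (hyp : y ^ p = 1) : p = 3 := by
  have := v.fin
  have r := v.r
  obtain ⟨F, _, _, hF, ⟨N₁⟩⟩ := v.nat
  have hQY' : ∀ s ∈ Q, ∀ y ∈ Y, ⁅s, y⁆ ∈ zOf G := fun s hs y hy =>
    ⟨commutator_le_self G (commutator_mem_commutator (r.QG hs) (r.QG (hYQ hy))), hQY s hs y hy⟩
  obtain ⟨W⟩ := exists_secMod nY (norm_zOf G) (commutator_le.2 fun a ha => hQY' a (hYQ ha))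
  let _ := W.acg; let _ := W.act
  obtain ⟨z, rfl⟩ : ∃ z' : G, (z' : X) = z := ⟨⟨z, r.syl.le hzS⟩, rfl⟩
  have hdl : ∀ (x : G), ∀ y ∈ Y, dl x (W.π y) = W.π ⁅(x : X), y⁆ :=
    fun x y hy => (W.comm nY x hy).symm
  have cY : ∀ (x : G), ∀ y ∈ Y, ⁅(x : X), y⁆ ∈ Y :=
    fun x y hy => commutator_mem_of_normalizer (nY x.2) hy
  have hr : ∀ y ∈ Y, ⁅(z : X), ⁅(z : X), y⁆⁆ ∈ zOf S := fun y hy => hE _ hzS _ (hSY y hy)
  have er : ∀ y ∈ Y, dl z (dl z (W.π y)) = W.π ⁅(z : X), ⁅(z : X), y⁆⁆ := fun y hy => by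
    rw [hdl _ y hy, hdl _ _ (cY _ y hy)]
  have hUY := hUE.trans hEY
  have kerU : ∀ u ∈ zOf Q, N₁.ψ u = 0 → W.π u = 0 := fun u hu e =>
    (W.ker _ (hUY hu)).2 ⟨r.QG hu.1, (N₁.ker_iff hu).1 e⟩
  have := finite_of_le (hEY.trans (hYQ.trans r.QG))
  have hcard := card_le_mul_of_fiber Y E (fun y => N₁.ψ ⁅(z : X), ⁅(z : X), (y : X)⁆⁆ 0)
    fun a b e => by
      have ha := v.zle (hr a a.2)
      have hb := v.zle (hr b b.2)
      have hab := Y.mul_mem (Y.inv_mem b.2) a.2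
      refine hkey _ hab ((W.ker _ (hUY (v.zle (hr _ hab)))).1 ?_).2
      rw [← er _ hab, W.mul _ (Y.inv_mem b.2) _ a.2, addOn_inv W.mul b.2, map_add, map_add, map_neg,
        map_neg, er a a.2, er b b.2, neg_add_eq_sub, ← addOn_div W.mul (hUY ha) (hUY hb)]
      refine kerU _ (mul_mem ha (inv_mem hb)) ?_
      rw [addOn_div N₁.ψ_mul ha hb, sub_eq_zero]
      ext i
      fin_cases i
      · exact e
      · exact ((N₁.fix_iff r ha).2 (hr a a.2)).trans ((N₁.fix_iff r hb).2 (hr b b.2)).symm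
  obtain ⟨v₀, hv₀, hv₀'⟩ : ∃ v₀ ∈ E, ¬ ∀ g ∈ G, ⁅g, v₀⁆ ∈ zOf Q := by
    by_contra e
    push Not at e
    exact hnf (le_normalizer_iff.2 fun g hg x hx => by
      simpa [commutatorElement_def] using E.mul_mem (hUE (e x hx g hg)) hx)
  obtain ⟨N₂⟩ := exists_natSec r hYQ nY r.norm_zOf hUY
    (commutator_le.2 fun s hs y hy => v.zle (v.zG (hQY' s hs y hy))) r.syl (hEY hv₀)
    (fun t ht => v.zle (hE t ht _ hv₀)) hv₀' r.QS le_rfl r.ne hEY
    (commutator_le.2 fun s hs y hy => v.zle (hE s hs y hy))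
    (by rw [r.card, ← hF, mul_right_comm, mul_comm _ (Nat.card E), ← Nat.card_eq_fintype_card]
        exact Nat.mul_le_mul_right _ hcard) F hF
  have nU : Y ≤ normalizer (zOf Q : Set X) := (hYQ.trans r.QG).trans r.norm_zOf
  have k2 : ∀ y ∈ Y, N₂.ψ y = 0 → y ∈ E := fun y hy e => by
    have := finite_of_le (inf_le_left.trans (hYQ.trans r.QG) : Y ⊓ cmod S (zOf Q) ≤ G)
    refine (eq_of_le_of_card_ge (fun y hy => (mem_inf_cmod nU).2 ⟨hEY hy, fun s hs =>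
      v.zle (hE s hs y hy)⟩) (Nat.le_of_mul_le_mul_left ?_ (Fintype.card_pos (α := F)))).ge
      ((mem_inf_cmod nU).2 ⟨hy, (N₂.fixS y hy).1 (by rw [e]; rfl)⟩)
    rwa [← N₂.card_fixS fun _ => mem_inf_cmod nU, mul_comm, ← Nat.card_eq_fintype_card]
  have triv : ∀ x : G, (x : X) ∈ N₁.K → (x : X) ∈ N₂.K → ∀ a : W.A, x • a = a := fun x h1 h2 a => by
    obtain ⟨y, hy, rfl⟩ := W.surj a
    obtain ⟨m, hm, hxm⟩ := r.pprime (N₁.K_le_M r) N₁.norm_K h1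
    rw [← sub_eq_zero, ← dl_apply, hdl x y hy, W.ker _ (cY x y hy)]
    refine comm_mem_of_coprime (B := Y ⊓ cmod G (zOf Q)) (r.isPGroup_Q.to_le hYQ).to_inf_left hm
      ⟨norm_zOf G x.2, fun w hw => comm_mem_of_coprime r.isPGroup_Q.to_inf_left hm
        (N₁.mem_cmod_of_K r.QG h1) (((mem_inf_cmod nU).1 hw).2 x x.2) (hQY' _ hxm w hw.1)⟩
      ((mem_inf_cmod nU).2 ⟨cY x y hy, (N₂.ker _ (cY x y hy)).1 ?_⟩) (hQY' _ hxm y hy)
    rw [N₂.ψ_comm x hy, N₂.mem_K.1 h2, sl2_one_mulVec, sub_self]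
  have d2 : ∀ y ∈ E, dl z (dl z (W.π y)) = 0 := fun y hy => by
    rw [er y (hEY hy), commutatorElement_eq_one_iff_mul_comm.2 ((hE _ hzS y hy).2 _ hzS),
      addOn_one W.mul]
  have d3 : ∀ a : W.A, dl z (dl z (dl z a)) = 0 := fun a => by
    obtain ⟨y, hy, rfl⟩ := W.surj a
    rw [hdl _ y hy]
    exact d2 _ (hSY y hy)
  have hrZ := v.zle (hr y hyY)
  have hrY := hUY hrZ
  have nz : ∀ n : ℕ, n.Coprime p → n • dl z (dl z (W.π y)) ≠ 0 := fun n hn e => by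
    rw [er y hyY, ← addOn_pow W.mul hrY, W.ker _ (pow_mem hrY n)] at e
    exact hyE (hkey y hyY (mem_of_coprime_pow hn e.2 (v.pow_p hrZ)))
  have py : p • W.π y = 0 := by rw [← addOn_pow W.mul hyY, hyp, addOn_one W.mul]
  have pz : z ^ p = 1 := Subtype.ext hzp
  have p2 : p ≠ 2 := by
    rintro rfl
    refine nz 1 (by norm_num) ?_
    have e : z • z • W.π y = W.π y := by rw [← mul_smul, ← sq, pz, one_smul]
    rw [one_smul, dl_apply, dl_apply, smul_sub, e, show W.π y - z • W.π y - (z • W.π y - W.π y) =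
      2 • W.π y - z • (2 • W.π y) by rw [two_smul, smul_add]; abel, py, smul_zero, sub_zero]
  have c2 : Nat.Coprime 2 p := (Nat.coprime_primes Nat.prime_two hp.out).2 p2.symm
  have hK2 : N₂.K ≤ N₁.K := fun x hx => by
    obtain ⟨x, rfl⟩ : ∃ x' : G, (x' : X) = x := ⟨⟨x, N₂.K_le hx⟩, rfl⟩
    refine N₁.mem_K.2 ((eq_one_or_neg_one_of_conj fun B => ?_).resolve_right fun e => nz 2 c2 ?_)
    · obtain ⟨a, rfl⟩ := N₁.ρ_surj B
      rw [← map_mul, ← map_inv, ← map_mul]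
      exact N₁.lower_eq_zero_of_mem r (N₂.K_le_M r (conj_mem_of_mem_normalizer (N₂.norm_K a.2) hx))
    · have h1 := triv ⁅x, z⁆ (N₁.mem_K.2 (by
        rw [map_commutatorElement, e]; simp [commutatorElement_def]))
        (comm_mem_comm (commutator_mem_of_normalizer (N₂.norm_K z.2) hx))
      have h2 : ∀ a : W.A, x • dl z a = dl z (x • a) := fun a => by
        have := h1 (z • x • a)
        rw [dl_apply, dl_apply, smul_sub, ← this, commutatorElement_def]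
        simp [mul_smul]
      have h3 : dl z (dl z (x • W.π y)) = dl z (dl z (W.π y)) := by
        rw [smul_eq_add_dl x, map_add, map_add, hdl x y hyY, d2 _ (k2 _ (cY x y hyY) ?_), add_zero]
        rw [N₂.ψ_comm x hyY, N₂.mem_K.1 hx, sl2_one_mulVec, sub_self]
      have hrZ' := conj_mem_of_mem_normalizer (N₁.norm x.2) hrZ
      rw [← h2, ← h2, er y hyY, ← W.equiv x _ hrY] at h3
      rw [er y hyY, two_smul]
      nth_rewrite 1 [← h3]
      rw [← W.mul _ (hUY hrZ') _ hrY]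
      refine kerU _ (mul_mem hrZ' hrZ) ?_
      rw [N₁.ψ_mul _ hrZ' _ hrZ, N₁.equiv x _ hrZ, e, sl2_neg_one_mulVec, neg_add_cancel]
  have same : ∀ x x' : G, N₂.ρ x = N₂.ρ x' → ∀ a : W.A, x • a = x' • a := fun x x' e a => by
    have h1 : ((x * x'⁻¹ : G) : X) ∈ N₂.K := N₂.mem_K.2 (by rw [map_mul, map_inv, e, mul_inv_cancel])
    have := triv _ (hK2 h1) h1 (x' • a)
    rwa [mul_smul, inv_smul_smul] at this
  by_contra p3
  obtain ⟨c, hc'⟩ := N₂.up_mem z hzS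
  have c0 := N₂.ne_zero r hzS hzQ hc'
  obtain ⟨n, hn⟩ := N₂.ρ_surj (wn c c0)
  have hn2 : N₂.ρ (n * n) = -1 := by rw [map_mul, hn, wn_sq]
  have s1 := six_smul_dl_dl (z := z) (n := n) (fun a => by
    rw [← same (z * (n * z * n⁻¹) * z) n (by simp only [map_mul, map_inv, hn, hc', wn_braid]) a]
    simp only [mul_smul]) (fun a => by
      rw [← mul_smul, ← mul_smul, ← mul_smul n, ← mul_smul]
      exact same _ _ (by rw [map_mul, map_mul _ z, hn2]; simp) a) d3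
    (a := W.π y - n • n • W.π y) (by
      have := same (n * n * (n * n)) 1 (by rw [map_mul, hn2]; simp) (W.π y)
      simp only [mul_smul, one_smul] at this
      rw [smul_sub, smul_sub, this, neg_sub])
  have hy2 := conj_mem_of_mem_normalizer (nY (n * n).2) hyY
  have s2 := d2 _ (k2 _ (mul_mem hyY hy2) (by
    rw [N₂.ψ_mul _ hyY _ hy2, N₂.equiv _ _ hyY, hn2, sl2_neg_one_mulVec, add_neg_cancel]))
  rw [W.mul _ hyY _ hy2, W.equiv _ _ hyY, mul_smul, map_add, map_add] at s2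
  rw [map_sub, map_sub, eq_neg_of_add_eq_zero_right s2] at s1
  refine nz 12 (Nat.Coprime.mul_left (Nat.Coprime.mul_left c2 c2)
    ((Nat.coprime_primes Nat.prime_three hp.out).2 (Ne.symm p3))) ?_
  rw [← s1]; module

end Cfsg.Agent.H69
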