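import Cfsg.Agent.H69.GN3

/-!
The two vertex theorem behind the Glauberman–Niles theorem.
-/

set_option autoImplicit false

namespace Cfsg.Agent.H69

open Subgroup
open scoped commutatorElement

universe u

variable {X : Type u} [Group X] {p qa qb : ℕ} {S Ga Qa Ma Gb Qb Mb : Subgroup X} [Fact p.Prime]

/-- The product of three centres. -/
def Tri (g : X) (Qa Qb : Subgroup X) : Subgroup X := zOf (cj g Qa) ⊔ (zOf Qa ⊔ zOf Qb)

namespace NF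

variable (n : NF p qa qb S Ga Qa Ma Gb Qb Mb) {g h : X}
include n

theorem symm : NF p qb qa S Gb Qb Mb Ga Qa Ma :=
  ⟨n.b, n.a, n.le', by rw [sup_comm]; exact n.not_flat⟩

omit [Fact p.Prime] in
theorem tri_le (hg : g ∈ Gb) : Tri g Qa Qb ≤ Qb :=
  sup_le (n.cj_mem hg).le (sup_le n.le inf_le_left)

theorem tri_cd (hg : g ∈ Gb) : CD S (Tri g Qa Qb) := by
  have := n.a.finS
  rw [Tri, sup_left_comm]; exact n.a.cdV.sup (n.cdU hg)

omit [Fact p.Prime] in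
theorem mem_tri (hg : g ∈ Gb) {x : X} (hx : x ∈ Tri g Qa Qb) :
    ∃ u ∈ zOf (cj g Qa), ∃ r ∈ zOf Qa ⊔ zOf Qb, u * r = x :=
  (mem_sup_of_le_normalizer (((n.cj_mem hg).le.trans n.b.r.QS).trans
    (n.a.norm_sup n.b.toV0))).1 hx

theorem tri_inf (hg : g ∈ Gb) (hM : g ∉ Mb) : Tri g Qa Qb ⊓ Qa ≤ zOf Qa ⊔ zOf Qb := fun x hx => by
  obtain ⟨u, hu, r, hr, rfl⟩ := n.mem_tri hg hx.1
  have h1 : u ∈ Qa := by
    simpa using Qa.mul_mem hx.2 (Qa.inv_mem ((sup_le inf_le_left n.le' : _ ≤ Qa) hr))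
  exact mul_mem (mem_sup_right ((n.cj_mem hg).b.zle (n.lemN' hg hM hu h1))) hr

theorem sup_inf (hg : g ∈ Gb) (hh : h ∈ Ga) (hM' : h ∉ Ma) :
    (Tri g Qa Qb ⊔ Tri h Qb Qa) ⊓ Qb = Tri g Qa Qb := by
  have := n.a.finS
  refine le_antisymm (fun x hx => ?_) (le_inf le_sup_left (n.tri_le hg))
  obtain ⟨a, ha, b, hb, rfl⟩ := (n.tri_cd hg).mem_sup (n.symm.tri_cd hh) hx.1
  have h1 : b ∈ Qb := by simpa using Qb.mul_mem (Qb.inv_mem (n.tri_le hg ha)) hx.2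
  exact mul_mem ha (mem_sup_right (sup_comm (zOf Qb) _ ▸ n.symm.tri_inf hh hM' ⟨hb, h1⟩))

theorem sup_inf_inf (hg : g ∈ Gb) (hM : g ∉ Mb) (hh : h ∈ Ga) (hM' : h ∉ Ma) :
    (Tri g Qa Qb ⊔ Tri h Qb Qa) ⊓ (Qa ⊓ Qb) ≤ zOf Qa ⊔ zOf Qb := fun _ hx =>
  n.tri_inf hg hM ⟨(n.sup_inf hg hh hM').le ⟨hx.1, hx.2.2⟩, hx.2.1⟩

theorem le_sup (hg : g ∈ Gb) (hM : g ∉ Mb) (hh : h ∈ Ga) (hM' : h ∉ Ma) :
    S ≤ (Tri g Qa Qb ⊔ Tri h Qb Qa) ⊔
      S ⊓ centralizer ((Tri g Qa Qb ⊔ Tri h Qb Qa : Subgroup X) : Set X) := by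
  have := n.a.finS
  have hP := (n.tri_cd hg).sup (n.symm.tri_cd hh)
  refine (hP.sup hP.cent).ge_of_cent le_rfl ?_
  rw [centralizer_sup', inf_inf_distrib_left, hP.cc]
  intro x hx
  obtain ⟨u, hu, v, hv, rfl⟩ := n.a.mem_sup n.b.toV0 (n.sup_inf_inf hg hM hh hM' ⟨hx.2,
    (n.a.cent_sup n.b.toV0).le ⟨hx.1.1, fun y hy => hx.1.2 y (mem_sup_left (mem_sup_right hy))⟩⟩)
  obtain ⟨y, hy, hy'⟩ := SetLike.not_le_iff_exists.1 (n.lemN hg hM)
  obtain ⟨z, hz, hz'⟩ := SetLike.not_le_iff_exists.1 (n.symm.lemN hh hM')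
  have hyb := (n.cj_mem hg).le hy
  have hza := (n.symm.cj_mem hh).le hz
  have h1 := hx.1.2 y (mem_sup_left (mem_sup_left hy))
  have h2 := hx.1.2 z (mem_sup_right (mem_sup_left hz))
  refine (mul_mem (n.a.free' (n.b.r.QS hyb) hy' hu ?_) (n.b.free' (n.a.r.QS hza) hz' hv ?_)).2
  · rwa [mul_assoc, ← hv.2 y hyb, ← mul_assoc, ← mul_assoc, mul_left_inj] at h1
  · rwa [← mul_assoc, hu.2 z hza, mul_assoc, mul_assoc, mul_right_inj] at h2

theorem norm_tri' (hg : g ∈ Gb) (hM : g ∉ Mb) : S ≤ normalizer (Tri g Qa Qb : Set X) := by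
  obtain ⟨h, hh, hM'⟩ := n.a.r.exists_not_mem
  rw [← n.sup_inf hg hh hM']
  exact le_normalizer_inf ((n.le_sup hg hM hh hM').trans (sup_le le_normalizer
    (le_normalizer_of_le_centralizer (le_centralizer_iff.1 inf_le_right))))
    (n.b.r.syl.le.trans n.b.r.Qn)

theorem norm_tri (hg : g ∈ Gb) (hM : g ∉ Mb) : Gb ≤ normalizer (Tri g Qa Qb : Set X) := by
  have := (n.cj_mem hg).norm_tri' (Gb.inv_mem hg) (RankOne.inv_not_mem_cj hM)
  rw [Tri, cj_inv_cj, sup_left_comm] at this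
  exact n.b.r.gen_sup hg hM (n.norm_tri' hg hM) this

theorem three : p = 3 := by
  obtain ⟨g, hg, hM⟩ := n.b.r.exists_not_mem
  obtain ⟨h, hh, hM'⟩ := n.a.r.exists_not_mem
  have m := n.symm
  obtain ⟨z, hz, hz'⟩ := SetLike.not_le_iff_exists.1 (n.lemN hg hM)
  obtain ⟨y, hy, hy'⟩ := SetLike.not_le_iff_exists.1 (m.lemN hh hM')
  have hzb := (n.cj_mem hg).le hz
  have hzS := n.b.r.QS hzb
  have nY := m.norm_tri hh hM'
  have nC : Ga ≤ normalizer (centralizer (Ga : Set X) : Set X) :=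
    le_normalizer.trans (normalizer_le_normalizer_centralizer _)
  have hYG := (m.tri_le hh).trans n.a.r.QG
  have hb : ∀ y ∈ Tri h Qb Qa, ⁅z, y⁆ ∈ Tri h Qb Qa ⊓ Qb := fun y hy =>
    ⟨commutator_mem_of_normalizer (nY (n.a.r.syl.le hzS)) hy, comm_mem_comm
      (commutator_mem_of_normalizer (n.b.r.Qn (n.b.r.syl.le (n.a.r.QS (m.tri_le hh hy)))) hzb)⟩
  refine n.a.cubic nY (m.tri_le hh) le_sup_right le_sup_right (fun s hs y hy => ?_)
    (fun s hs y hy => n.b.quad2 n.a.toV0 hs hy) hzS hz' ((n.cj_mem hg).a.elV hz)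
    (fun y hy => m.tri_inf hh hM' (hb y hy)) (fun y hy e => m.tri_inf hh hM' ⟨hy, ?_⟩) m.nf
    (mem_sup_left hy) (fun e => hy' ((sup_le inf_le_left n.le : _ ≤ Qb) e))
    ((m.cj_mem hh).a.elV hy)
  · obtain ⟨u, hu, r, hr, rfl⟩ := m.mem_tri hh hy
    obtain ⟨a, ha, b, hb, rfl⟩ := n.b.mem_sup n.a.toV0 hr
    refine comm_mul_mem (nC (hYG (mem_sup_left hu))) (m.lemB' hh hs hu).2 ?_
    rw [comm_mul_of_comm (hb.2 s hs)]
    exact m.lemB (n.a.r.QS hs) ha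
  · have hzZ : z ∉ zOf (cj g S) := fun e => hz' (n.le' ((n.cj_mem hg).b.zle e))
    by_contra e'
    refine n.key hg hM (n.a.r.QS (m.tri_le hh hy)) e' hz hz hzZ hzZ ?_
    have := conj_mem_of_mem_normalizer' (nC (hYG (hb y hy).1)) (inv_mem e)
    rw [← commutatorElement_inv z y]
    convert this using 1
    rw [commutatorElement_def z ⁅z, y⁆, commutatorElement_def z ⁅z, y⁆⁻¹]
    group

theorem small : ∃ N, Small p S N ∧ zOf S ⊓ N ≤ centralizer (Gb : Set X) := by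
  obtain ⟨g, hg, hM⟩ := n.b.r.exists_not_mem
  obtain ⟨h, hh, hM'⟩ := n.a.r.exists_not_mem
  have := n.a.finS
  have m := n.symm
  have hP := (n.tri_cd hg).sup (m.tri_cd hh)
  obtain ⟨y, hy, hy'⟩ := SetLike.not_le_iff_exists.1 (m.lemN hh hM')
  have hC := le_centralizer_iff.1 (inf_le_right : S ⊓ centralizer
    ((Tri g Qa Qb ⊔ Tri h Qb Qa : Subgroup X) : Set X) ≤ _)
  have hV : zOf Qb ≤ Tri g Qa Qb := le_sup_right.trans le_sup_right
  refine ⟨_, small_of_prod (E := zOf Qa ⊔ zOf Qb) (n.le_sup hg hM hh hM') hC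
    (le_sup_right.trans le_sup_left) hP.1 (((le_inf (sup_le inf_le_left n.le')
      (sup_le n.le inf_le_left)).trans (n.a.cent_sup n.b.toV0).ge).trans inf_le_right)
    (fun x hx => ?_) ((le_inf Phi_le ((Phi_mono hP.1).trans (le_inf n.a.phi n.b.phi))).trans
      (n.sup_inf_inf hg hM hh hM')) (fun s hs x hx => n.a.quad2 n.b.toV0 hs hx)
    (fun e => absurd n.three e) fun e => absurd n.three e.ne',
    n.b.phi_central (T := Qb ⊓ centralizer (Tri g Qa Qb : Set X)) (le_normalizer_inf n.b.r.Qn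
      ((n.norm_tri hg hM).trans (normalizer_le_normalizer_centralizer _))) ?_
      ((inf_le_inf_left _ (centralizer_le (hV.trans le_sup_left))).trans n.b.cent.le)
      (n.a.r.QS ((m.cj_mem hh).le hy)) hy' (hC (mem_sup_right (mem_sup_left hy)))⟩
  · obtain ⟨u, hu, v, hv, rfl⟩ := n.a.mem_sup n.b.toV0 hx
    rw [(show Commute u v from hv.2 u (n.le hu)).mul_pow, n.a.elV hu, n.b.elV hv, mul_one]
  · rw [sup_comm, ← n.b.centQ, ← hP.cent_inf n.b.cdQ, n.sup_inf hg hh hM']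
    exact le_antisymm (inf_le_inf_right _ n.b.r.QS) (le_inf
      ((inf_le_inf_left _ (centralizer_le hV)).trans n.b.cent.le) inf_le_right)

end NF

theorem two_vertex (a : Vx p qa Ga S Qa Ma) (b : Vx p qb Gb S Qb Mb) :
    (zOf Qa ≤ Qb ∧ Gb ≤ normalizer ((zOf Qa ⊔ zOf Qb : Subgroup X) : Set X)) ∨
      ∃ N, Small p S N ∧ zOf S ⊓ N ≤ centralizer (Gb : Set X) := by
  by_cases h : zOf Qa ≤ Qb
  · exact or_iff_not_imp_left.2 fun e => NF.small ⟨a, b, h, fun e' => e ⟨h, e'⟩⟩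
  · exact Or.inr (a.b1 b h)

end Cfsg.Agent.H69
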