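import Cfsg.Agent.H69.GN1

/-!
Minimal centrally large subgroups in the pushing up situation.
-/

set_option autoImplicit false

namespace Cfsg.Agent.H69

open Subgroup
open scoped commutatorElement

universe u

variable {X : Type u} [Group X] {p q : ℕ} {G S Q M R R' : Subgroup X}

/-- `R` is centrally large in `S`. -/
def CL (S R : Subgroup X) : Prop := CD S R ∧ S ⊓ centralizer (R : Set X) ≤ R

/-- `R` is a minimal centrally large subgroup of `S`. -/
def MCL (S R : Subgroup X) : Prop := CL S R ∧ ∀ R' ≤ R, CL S R' → R' = R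

/-- Minimal centrally large subgroups with largest `Ω₁ Z`. -/
def MX (p : ℕ) (S R : Subgroup X) : Prop := MCL S R ∧ ∀ R', MCL S R' →
  Nat.card (omegaOne p (zOf R')) ≤ Nat.card (omegaOne p (zOf R))

/-- The join of the minimal centrally large subgroups. -/
def SMcl (S : Subgroup X) : Subgroup X := ⨆ R, ⨆ _ : MCL S R, R

/-- The subgroup `S_Φ`. -/
def SPhi (p : ℕ) (S : Subgroup X) : Subgroup X := ⨆ R, ⨆ _ : MX p S R, Phi p R

section map

variable {Y : Type*} [Group Y] {ι : X →* Y} (hι : Function.Injective ι)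
include hι

theorem cl_map : CL (S.map ι) (R.map ι) ↔ CL S R := by
  rw [CL, CL, cd_map hι, ← map_inf_centralizer hι, map_le_map_inj hι]

theorem mcl_map : MCL (S.map ι) (R.map ι) ↔ MCL S R := by
  refine and_congr (cl_map hι) ⟨fun h R' h1 h2 => map_injective hι
    (h _ (map_mono h1) ((cl_map hι).2 h2)), fun h R' h1 h2 => ?_⟩
  obtain ⟨R', rfl⟩ := exists_map_eq h1
  rw [h R' ((map_le_map_inj hι).1 h1) ((cl_map hι).1 h2)]

theorem map_omegaOne (R : Subgroup X) : (omegaOne p R).map ι = omegaOne p (R.map ι) := by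
  rw [omegaOne, MonoidHom.map_closure, omegaOne]
  congr 1
  ext x
  constructor
  · rintro ⟨y, hy, rfl⟩
    exact ⟨mem_map_of_mem ι hy.1, by rw [← map_pow, hy.2, map_one]⟩
  · rintro ⟨⟨y, hy, rfl⟩, e⟩
    exact ⟨y, ⟨hy, by rwa [← map_pow, map_eq_one_iff ι hι] at e⟩, rfl⟩

theorem card_omega_map (R : Subgroup X) :
    Nat.card (omegaOne p (zOf (R.map ι))) = Nat.card (omegaOne p (zOf R)) := by
  rw [← map_zOf hι, ← map_omegaOne hι, card_map_of_injective hι]

theorem mx_map : MX p (S.map ι) (R.map ι) ↔ MX p S R := by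
  refine and_congr (mcl_map hι) ⟨fun h R' h1 => ?_, fun h R' h1 => ?_⟩
  · simpa only [card_omega_map hι] using h _ ((mcl_map hι).2 h1)
  · obtain ⟨R', rfl⟩ := exists_map_eq h1.1.1.1
    simpa only [card_omega_map hι] using h _ ((mcl_map hι).1 h1)

theorem map_SMcl : (SMcl S).map ι = SMcl (S.map ι) := by
  refine le_antisymm (map_le_iff_le_comap.2 (iSup₂_le fun R h => map_le_iff_le_comap.1
    (le_iSup₂_of_le _ ((mcl_map hι).2 h) le_rfl))) (iSup₂_le fun R h => ?_)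
  obtain ⟨R, rfl⟩ := exists_map_eq h.1.1.1
  exact map_mono (le_iSup₂_of_le _ ((mcl_map hι).1 h) le_rfl)

theorem map_SPhi : (SPhi p S).map ι = SPhi p (S.map ι) := by
  refine le_antisymm (map_le_iff_le_comap.2 (iSup₂_le fun R h => map_le_iff_le_comap.1
    (le_iSup₂_of_le _ ((mx_map hι).2 h) (map_Phi ι).le))) (iSup₂_le fun R h => ?_)
  obtain ⟨R, rfl⟩ := exists_map_eq h.1.1.1.1
  rw [← map_Phi]
  exact map_mono (le_iSup₂_of_le _ ((mx_map hι).1 h) le_rfl)

end map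

section top

variable {P : Type*} [Group P] [Finite P] {R : Subgroup P}

theorem cl_top : CL ⊤ R ↔ IsCentrallyLarge R := by
  rw [CL, cd_top, top_inf_eq, H72.isCentrallyLarge_iff]

theorem mcl_top : MCL ⊤ R ↔ IsMinimalCentrallyLarge R := by
  simp only [MCL, IsMinimalCentrallyLarge, cl_top]

theorem smcl_top : SMcl ⊤ = minimalCentrallyLargeJoin P := by
  simp only [SMcl, mcl_top, minimalCentrallyLargeJoin, sSup_eq_iSup, Set.mem_ofPred_eq]

theorem mx_top : MX p ⊤ R ↔ IsMinimalCentrallyLarge R ∧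
    Nat.card (omegaOneCenter p R) = maxOmegaCenterOfMinimalCL p P := by
  have hb : BddAbove {k : ℕ | ∃ Q : Subgroup P, IsMinimalCentrallyLarge Q ∧
      Nat.card (omegaOneCenter p Q) = k} :=
    (H72.bddAbove_measure fun Q : Subgroup P => Nat.card (omegaOneCenter p Q)).mono
      (by rintro _ ⟨Q, _, e⟩; exact ⟨Q, e⟩)
  simp only [MX, mcl_top]
  refine and_congr_right fun h => ⟨fun h' => le_antisymm (le_csSup hb ⟨R, h, rfl⟩)
    (csSup_le ⟨_, R, h, rfl⟩ ?_), fun h' R' h1 => (le_csSup hb ⟨R', h1, rfl⟩).trans h'.ge⟩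
  rintro _ ⟨R', h1, rfl⟩
  exact h' R' h1

theorem exists_mx : ∃ R : Subgroup P, MX p ⊤ R := by
  obtain ⟨R, hR, h⟩ := Set.exists_max_image {R : Subgroup P | MCL ⊤ R}
    (fun R => Nat.card (omegaOne p (zOf R))) (Set.toFinite _)
    (H72.exists_minimalCL.imp fun _ h => mcl_top.2 h)
  exact ⟨R, hR, h⟩

theorem sphi_top [Fact p.Prime] (hP : IsPGroup p P) : SPhi p ⊤ = frattiniOfMinimalCLJoin p P := by
  simp only [SPhi, mx_top, frattiniOfMinimalCLJoin, iSup_subtype,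
    map_frattini_eq (hP.to_subgroup _)]

omit [Finite P] in
theorem map_top_equiv (φ : P ≃* P) : (⊤ : Subgroup P).map φ.toMonoidHom = ⊤ :=
  map_top_of_surjective _ φ.surjective

omit [Finite P] in
theorem smcl_char : (SMcl (⊤ : Subgroup P)).Characteristic :=
  characteristic_iff_map_eq.2 fun φ => by rw [map_SMcl φ.injective, map_top_equiv]

omit [Finite P] in
theorem sphi_char : (SPhi p (⊤ : Subgroup P)).Characteristic :=
  characteristic_iff_map_eq.2 fun φ => by rw [map_SPhi φ.injective, map_top_equiv]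

theorem mcl_comm_char (h : IsMinimalCentrallyLarge R) : (⁅R, R⁆).Characteristic :=
  characteristic_iff_map_eq.2 fun φ => by
    rw [map_commutator]
    refine H72.mcl_commutator_eq (mcl_top.1 ?_) h
    rw [← map_top_equiv φ]
    exact (mcl_map φ.injective).2 (mcl_top.2 h)

theorem exists_elem_of_sphi (h : SPhi p (⊤ : Subgroup P) = ⊥) :
    ∃ R : Subgroup P, IsMinimalCentrallyLarge R ∧ IsElementaryAbelian p R := by
  obtain ⟨R, hR⟩ := exists_mx (p := p) (P := P)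
  have := Phi_le_iff.1 ((le_iSup₂_of_le R hR le_rfl : Phi p R ≤ SPhi p ⊤).trans h.le)
  exact ⟨R, mcl_top.1 hR.1, commutator_self_eq_bot_iff.1 (le_bot_iff.1 this.1), this.2⟩

end top

section rel

variable [Finite S]

theorem cl_subtype {R : Subgroup S} : CL S (R.map S.subtype) ↔ IsCentrallyLarge R := by
  rw [← cl_top, ← cl_map S.subtype_injective, map_top_subtype]

theorem mcl_subtype {R : Subgroup S} : MCL S (R.map S.subtype) ↔ IsMinimalCentrallyLarge R := by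
  rw [← mcl_top, ← mcl_map S.subtype_injective, map_top_subtype]

theorem CL.exists (h : CL S R) : ∃ R₀ : Subgroup S, R₀.map S.subtype = R ∧ IsCentrallyLarge R₀ :=
  ⟨_, map_subgroupOf_eq_of_le h.1.1, cl_subtype.1 (by rwa [map_subgroupOf_eq_of_le h.1.1])⟩

theorem MCL.exists (h : MCL S R) :
    ∃ R₀ : Subgroup S, R₀.map S.subtype = R ∧ IsMinimalCentrallyLarge R₀ :=
  ⟨_, map_subgroupOf_eq_of_le h.1.1.1, mcl_subtype.1 (by rwa [map_subgroupOf_eq_of_le h.1.1.1])⟩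

theorem CL.exists_mcl (h : CL S R) : ∃ R' ≤ R, MCL S R' := by
  obtain ⟨R, rfl, hR⟩ := h.exists
  obtain ⟨R', h1, h2⟩ := H72.exists_minimalCL_le hR
  exact ⟨_, map_mono h2, mcl_subtype.2 h1⟩

theorem MCL.eq_sup (h : MCL S R) (h' : CL S R') : R ⊓ R' ⊔ S ⊓ centralizer (R : Set X) = R := by
  obtain ⟨R, rfl, hR⟩ := h.exists
  obtain ⟨R', rfl, hR'⟩ := h'.exists
  rw [← map_subtype_centralizer, ← Subgroup.map_inf _ _ _ S.subtype_injective, ← Subgroup.map_sup,
    H72.mcl_eq_sup hR hR']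

theorem MCL.comm_eq (h : MCL S R) (h' : MCL S R') : ⁅R, R⁆ = ⁅R', R'⁆ := by
  obtain ⟨R, rfl, hR⟩ := h.exists
  obtain ⟨R', rfl, hR'⟩ := h'.exists
  rw [← map_commutator, ← map_commutator, H72.mcl_commutator_eq hR hR']

theorem MCL.of_card (h : MCL S R) (h' : CL S R') (e : Nat.card (S ⊓ centralizer (R : Set X) :
    Subgroup X) ≤ Nat.card (S ⊓ centralizer (R' : Set X) : Subgroup X)) : MCL S R' := by
  obtain ⟨R₁, h1, h2⟩ := h'.exists_mcl
  have h3 : Nat.card (S ⊓ centralizer (R₁ : Set X) : Subgroup X) =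
      Nat.card (S ⊓ centralizer (R : Set X) : Subgroup X) := by
    obtain ⟨R, rfl, hR⟩ := h.exists
    obtain ⟨R₁, rfl, hR₁⟩ := h2.exists
    rw [← map_subtype_centralizer, ← map_subtype_centralizer,
      card_map_of_injective S.subtype_injective, card_map_of_injective S.subtype_injective,
      (H72.mcl_card_eq hR hR₁).2]
  have := finite_of_le (inf_le_left : S ⊓ centralizer (R₁ : Set X) ≤ S)
  have h4 := eq_of_le_of_card_ge (inf_le_inf_left S (centralizer_le h1)) (h3.le.trans e)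
  rwa [← h'.1.cc, h4, h2.1.1.cc]

end rel

namespace V0

variable [Fact p.Prime] (v : V0 p q G S Q M)
include v

theorem clQ : CL S Q := ⟨v.cdQ, v.centQ.le.trans inf_le_left⟩

theorem cl_transfer {g : X} (hg : g ∈ G) (h : CL (H69.cj g S) R) (hQ : R ≤ Q) : CL S R := by
  have hV : zOf Q ≤ R := (le_inf (v.cj_mem hg).VS (inf_le_right.trans (centralizer_le hQ))).trans h.2
  exact ⟨v.transfer' hg h.1 hV hQ, fun x hx => h.2 ⟨(v.cj_mem hg).r.QS
    (v.cent.le ⟨hx.1, centralizer_le hV hx.2⟩), hx.2⟩⟩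

theorem mcl_transfer {g : X} (hg : g ∈ G) (h : MCL (H69.cj g S) R) (hQ : R ≤ Q) : MCL S R :=
  ⟨v.cl_transfer hg h.1 hQ, fun R' h1 h2 => h.2 R' h1 ((v.cj_mem hg).cl_transfer (G.inv_mem hg)
    (by rwa [cj_inv_cj]) (h1.trans hQ))⟩

theorem mcl_cj {g : X} (hg : g ∈ G) (h : MCL S R) (hQ : R ≤ Q) : MCL S (H69.cj g R) :=
  v.mcl_transfer hg ((mcl_map (MulAut.conj g).injective).2 h)
    (cj_le_of_mem_normalizer (v.r.Qn hg) hQ)

theorem cent_not_le (h : MCL S R) (hQ : ¬ R ≤ Q) : ¬ S ⊓ centralizer (R : Set X) ≤ Q := fun e =>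
  have := v.finS
  hQ ((h.eq_sup v.clQ).ge.trans (sup_le inf_le_right e))

theorem mcl_cases (h : MCL S R) : zOf S ⊓ ⁅R, R⁆ ≤ centralizer (G : Set X) ∨
    G ≤ normalizer (SMcl S : Set X) := by
  have := v.finS
  refine or_iff_not_imp_right.2 fun e => ?_
  obtain ⟨R₁, h1, h2⟩ : ∃ R₁, MCL S R₁ ∧ ¬ R₁ ≤ Q := by
    by_contra e'
    push Not at e'
    exact e (le_normalizer_of_cj_le fun g hg => cj_le_iff.2 (iSup₂_le fun R hR => cj_le_iff.1
      (le_iSup₂_of_le _ (v.mcl_cj hg hR (e' R hR)) le_rfl)))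
  obtain ⟨R₀, h3, h4⟩ := v.clQ.exists_mcl
  obtain ⟨s, hs, hsQ⟩ := SetLike.not_le_iff_exists.1 (v.cent_not_le h1 h2)
  refine (inf_le_inf_right _ v.zle).trans (v.le_central inf_le_left (le_normalizer_inf v.r.norm_zOf
    fun g hg => ?_) hs.1 hsQ fun y hy => hs.2 y ?_)
  · rw [← cj_eq_self_iff, h.comm_eq h4, cj_commutator, (v.mcl_cj hg h4 h3).comm_eq h4]
  · exact commutator_le_self R₁ ((h.comm_eq h1).le hy.2)

theorem le_omega_sup : zOf Q ≤ omegaOne p (zOf Q) ⊔ zOf S := fun x hx => by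
  obtain ⟨F, _, _, -, ⟨N⟩⟩ := v.nat
  obtain ⟨s, hs, hsQ⟩ := v.r.exists_S
  obtain ⟨y, hy, hy'⟩ := SetLike.not_le_iff_exists.1 v.not_le
  have c := v.zle (v.quad hs hy)
  obtain ⟨u, hu, e⟩ := N.irred (omegaOne_le _) (v.r.norm_zOf.trans
    (normalizer_le_normalizer_omegaOne _)) (mem_omegaOne_of c (by
      rw [commutatorElement_def, (Commute.symm (zOf_comm _ (inv_mem hy) _
        (conj_mem_of_mem_normalizer (v.r.norm_zOf (v.r.syl.le hs)) hy))).mul_pow, conj_pow,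
        v.pow_p hy s (v.r.syl.le hs)]
      simp)) (fun e => hy' (v.free hs hsQ hy ((N.ker_iff c).1 e))) (N.ψ x)
  have hu' := omegaOne_le _ hu
  have h1 := mul_mem hx (inv_mem hu')
  have h2 := v.zG ⟨v.r.QG h1.1, (N.ker_iff h1).1 (by rw [addOn_div N.ψ_mul hx hu', e, sub_self])⟩
  simpa using mul_mem (mem_sup_right h2) (mem_sup_left hu : u ∈ omegaOne p (zOf Q) ⊔ zOf S)

theorem star [Finite X] (h : MX p S R) (hQ : ¬ R ≤ Q) :
    MX p S (R ⊓ Q ⊔ zOf Q) ∧ Phi p R ≤ Phi p (R ⊓ Q ⊔ zOf Q) := by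
  have := v.fin
  have hR := h.1.1
  obtain ⟨s, hs, hsQ⟩ := SetLike.not_le_iff_exists.1 (v.cent_not_le h.1 hQ)
  have hD := (hR.1.inf v.cdQ).sup v.cdV
  have zR : zOf R = S ⊓ centralizer (R : Set X) :=
    le_antisymm (inf_le_inf_right _ hR.1.1) (le_inf hR.2 inf_le_right)
  have c1 : zOf R ⊓ Q ⊔ zOf Q = S ⊓ centralizer ((R ⊓ Q ⊔ zOf Q : Subgroup X) : Set X) := by
    rw [centralizer_sup', inf_inf_distrib_left, hR.1.cent_inf v.cdQ, v.centQ, v.cent, ← zR,
      sup_comm, sup_comm (zOf R)]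
    refine le_antisymm (sup_le (le_inf le_sup_left inf_le_left) (inf_le_inf_right _ le_sup_right))
      fun x hx => ?_
    obtain ⟨a, ha, b, hb, rfl⟩ := v.cdV.mem_sup (zR ▸ hR.1.cent) hx.1
    exact mul_mem_sup ha ⟨hb, by simpa using Q.mul_mem (Q.inv_mem ha.1) hx.2⟩
  have hL : CL S (R ⊓ Q ⊔ zOf Q) :=
    ⟨hD, c1.ge.trans (sup_le_sup_right (inf_le_inf_right _ inf_le_left) _)⟩
  have zL : zOf R ⊓ Q ⊔ zOf Q ≤ zOf (R ⊓ Q ⊔ zOf Q) := c1.le.trans (le_inf hL.2 inf_le_right)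
  have hz : ∀ x ∈ zOf R, x ∈ zOf Q → x ∈ zOf S := fun x hx hx' =>
    v.free' hs.1 hsQ hx' (hx.2 s (hR.2 hs))
  have cnt : ∀ A B C : Subgroup X, A ≤ zOf R → B ≤ zOf Q → A ⊓ Q ⊔ B ≤ C →
      q * Nat.card (B ⊓ zOf S : Subgroup X) ≤ Nat.card B →
      q * Nat.card (A ⊓ Q : Subgroup X) ≤ Nat.card C := fun A B C h1 h2 h3 h4 => by
    apply Nat.le_of_mul_le_mul_right _ (Nat.card_pos : 0 < Nat.card (B ⊓ zOf S : Subgroup X))
    calc _ = Nat.card (A ⊓ Q : Subgroup X) * (q * Nat.card (B ⊓ zOf S : Subgroup X)) := by ring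
      _ ≤ Nat.card (A ⊓ Q : Subgroup X) * Nat.card B := Nat.mul_le_mul_left _ h4
      _ ≤ _ := (H21.card_mul_card_le _ _).trans (Nat.mul_le_mul (card_le_of_le h3)
        (card_le_of_le fun x hx => mem_inf.2 ⟨hx.2, hz x (h1 hx.1.1) (h2 hx.2)⟩))
  have idx : ∀ A ≤ zOf R, Nat.card A ≤ q * Nat.card (A ⊓ Q : Subgroup X) := fun A hA =>
    v.r.relIndex ▸ card_le_mul_inf (hA.trans (inf_le_left.trans hR.1.1))
  have hM : MCL S (R ⊓ Q ⊔ zOf Q) := h.1.of_card hL (zR ▸ (idx _ le_rfl).trans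
    (cnt _ _ _ le_rfl le_rfl c1.le (by rw [inf_eq_right.2 v.zle, v.zcard])))
  have k1 := cnt (omegaOne p (zOf R)) (omegaOne p (zOf Q)) (omegaOne p (zOf (R ⊓ Q ⊔ zOf Q)))
    (omegaOne_le _) (omegaOne_le _) (sup_le (fun x hx => mem_omegaOne_of (zL (mem_sup_left
      ⟨(mem_omegaOne_zOf.1 hx.1).1, hx.2⟩)) (mem_omegaOne_zOf.1 hx.1).2)
      (omegaOne_mono (le_sup_right.trans zL))) (by
      apply Nat.le_of_mul_le_mul_right _ (Nat.card_pos : 0 < Nat.card (zOf S))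
      rw [← H21.card_sup_mul_card_inf' (((omegaOne_le _).trans v.VS).trans (norm_zOf S)),
        mul_right_comm, ← v.zcard]
      exact Nat.mul_le_mul_right _ (card_le_of_le v.le_omega_sup))
  refine ⟨⟨hM, fun R' h' => (h.2 R' h').trans ((idx _ (omegaOne_le _)).trans k1)⟩, ?_⟩
  have hO : omegaOne p (zOf R) ≤ R := (omegaOne_le _).trans inf_le_left
  have k2 : omegaOne p (zOf R) ⊔ Q = S := by
    refine eq_of_le_of_card_ge (sup_le (hO.trans hR.1.1) v.r.QS) ?_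
    apply Nat.le_of_mul_le_mul_right _
      (Nat.card_pos : 0 < Nat.card (omegaOne p (zOf R) ⊓ Q : Subgroup X))
    rw [v.r.card, mul_right_comm]
    exact (Nat.mul_le_mul_right _ (k1.trans (h.2 _ hM))).trans (H21.card_mul_card_le _ _)
  have hc : omegaOne p (zOf R) ≤ centralizer (R : Set X) := (omegaOne_le _).trans inf_le_right
  refine (Phi_le_of_elem (hc.trans (centralizer_le inf_le_left)) (hc.trans (centralizer_le hO))
    (fun x hx => (mem_omegaOne_zOf.1 hx).2) fun x hx => ?_).trans (Phi_mono le_sup_left)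
  obtain ⟨a, ha, b, hb, rfl⟩ := (mem_sup_of_le_normalizer (((hO.trans hR.1.1).trans
    v.r.syl.le).trans v.r.Qn)).1 (k2.ge (hR.1.1 hx))
  exact mul_mem_sup ha ⟨by simpa using R.mul_mem (R.inv_mem (hO ha)) hx, hb⟩

theorem norm_SPhi [Finite X] : G ≤ normalizer (SPhi p S : Set X) := by
  refine le_normalizer_of_cj_le fun g hg => cj_le_iff.2 (iSup₂_le fun R hR => cj_le_iff.1 ?_)
  obtain ⟨R', h1, h2, h3⟩ : ∃ R', MX p S R' ∧ R' ≤ Q ∧ Phi p R ≤ Phi p R' := by
    by_cases e : R ≤ Q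
    · exact ⟨R, hR, e, le_rfl⟩
    · exact ⟨_, (v.star hR e).1, sup_le inf_le_right inf_le_left, (v.star hR e).2⟩
  refine (cj_mono h3).trans (le_iSup₂_of_le (H69.cj g R') ⟨v.mcl_cj hg h1.1 h2, fun R₁ h => ?_⟩
    (map_Phi _).le)
  exact (h1.2 R₁ h).trans (card_omega_map (MulAut.conj g).injective R').ge

end V0

end Cfsg.Agent.H69
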