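import Cfsg.Agent.H69.GN4
import Cfsg.Agent.H69.GN5
import Cfsg.Agent.H69.Baumann
import Mathlib.GroupTheory.PushoutI

/-!
The Glauberman–Niles theorem.
-/

set_option autoImplicit false

namespace Cfsg.Agent.H69

open Subgroup
open scoped commutatorElement Pointwise

universe u

/-- A family of two types. -/
def Two (G₁ G₂ : Type u) : Bool → Type u
  | false => G₁
  | true => G₂

instance twoGroup {G₁ G₂ : Type u} [i₁ : Group G₁] [i₂ : Group G₂] : ∀ b, Group (Two G₁ G₂ b)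
  | false => i₁
  | true => i₂

/-- A family of two homomorphisms. -/
def twoHom {S G₁ G₂ : Type u} [Group S] [Group G₁] [Group G₂] (τ₁ : S →* G₁) (τ₂ : S →* G₂) :
    ∀ b, S →* Two G₁ G₂ b
  | false => τ₁
  | true => τ₂

theorem exists_amalgam {S G₁ G₂ : Type u} [Group S] [Group G₁] [Group G₂] {τ₁ : S →* G₁}
    {τ₂ : S →* G₂} (h₁ : Function.Injective τ₁) (h₂ : Function.Injective τ₂) :
    ∃ (X : Type u) (_ : Group X) (ι₁ : G₁ →* X) (ι₂ : G₂ →* X), Function.Injective ι₁ ∧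
      Function.Injective ι₂ ∧ ∀ H : Subgroup S, (H.map τ₁).map ι₁ = (H.map τ₂).map ι₂ := by
  have hφ : ∀ b, Function.Injective (twoHom τ₁ τ₂ b) := by intro b; cases b; exacts [h₁, h₂]
  refine ⟨Monoid.PushoutI (twoHom τ₁ τ₂), inferInstance, Monoid.PushoutI.of (φ := twoHom τ₁ τ₂) false,
    Monoid.PushoutI.of (φ := twoHom τ₁ τ₂) true, Monoid.PushoutI.of_injective hφ false,
    Monoid.PushoutI.of_injective hφ true, fun H => ?_⟩
  exact (map_map _ _ _).trans ((congrArg H.map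
    ((Monoid.PushoutI.of_comp_eq_base (φ := twoHom τ₁ τ₂) false).trans
      (Monoid.PushoutI.of_comp_eq_base (φ := twoHom τ₁ τ₂) true).symm)).trans (map_map _ _ _).symm)

/-- The subgroup `S₀` of the Glauberman–Niles theorem. -/
def S0 (p : ℕ) {X : Type*} [Group X] (S : Subgroup X) : Subgroup X :=
  Phi p (Phi p S) ⊔ (⁅⁅Phi p S, S⁆, S⁆ ⊔ ((⨆ _ : p ≠ 3, ⁅Phi p S, S⁆) ⊔ ⨆ _ : 3 < p, pows p S))

theorem S0_le_iff {p : ℕ} {X : Type*} [Group X] {S N : Subgroup X} : S0 p S ≤ N ↔ Small p S N := by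
  simp only [S0, Small, sup_le_iff, iSup_le_iff]

theorem map_S0 {p : ℕ} {X Y : Type*} [Group X] [Group Y] (f : X →* Y) (S : Subgroup X) :
    (S0 p S).map f = S0 p (S.map f) := by
  simp only [S0, Subgroup.map_sup, Subgroup.map_iSup, map_Phi, map_commutator, map_pows]

/-- An embedding of `S` as a Sylow subgroup of a group in the pushing up situation. -/
def PE (p : ℕ) {S G : Type*} [Group S] [Group G] (τ : S →* G) : Prop :=
  Function.Injective τ ∧ ∃ q Q M, RankOne p q ⊤ ((⊤ : Subgroup S).map τ) Q M ∧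
    ⊤ ⊓ centralizer (Q : Set G) ≤ Q ∧ ∃ (F : Type) (_ : Field F) (_ : Fintype F), Fintype.card F = q

variable {p : ℕ} [hp : Fact p.Prime]

theorem pe_of_situation {S G : Type*} [Group S] [Group G] [Finite G] {τ : S →* G}
    (hτ : Function.Injective τ) (h : IsPushingUpSituation p τ.range) : PE p τ := by
  obtain ⟨-, ⟨P, hP⟩, hc, hM, K, _, F, _, _, n, hF, he⟩ := h
  rw [← hP] at hM
  obtain ⟨M, r⟩ := rankOne_of_psl' P hM K (Nat.one_le_iff_ne_zero.2 fun e => by
    rw [e, pow_zero] at hF; exact Fintype.one_lt_card.ne' hF) hF he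
  rw [hP, MonoidHom.range_eq_map] at r
  exact ⟨hτ, _, _, M, r, inf_le_right.trans hc, F, inferInstance, _, rfl⟩

variable {S : Type*} [Group S] [Finite S]

/-- The centre of the Thompson subgroup. -/
abbrev ZJ (S : Type*) [Group S] : Subgroup S :=
  thompsonSubgroupA S ⊓ centralizer (thompsonSubgroupA S : Set S)

theorem zj_top : H23.zj 0 (⊤ : Subgroup S) = ZJ S := by
  rw [← H23.centerThompsonAOf_eq, centerThompsonAOf, H23.thompsonSubgroupAOf_eq,
    H23.maxAb_zero_top]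
  rfl

theorem zj_char : (ZJ S).Characteristic := characteristic_iff_map_eq.2 fun φ => by
  rw [← zj_top, ← H23.zj_map φ.injective, map_top_equiv]

theorem cl_top_of (h : centralizer (ZJ S : Set S) = ⊤) : IsCentrallyLarge (⊤ : Subgroup S) := by
  obtain ⟨R, hR⟩ := H72.exists_isCentrallyLarge (P := S)
  have := H72.cl_sup_thompson hR
  rwa [top_le_iff.1 (h.ge.trans (H72.jTilde_le_sup hR))] at this

omit [Finite S] in
theorem zOf_top : zOf (⊤ : Subgroup S) = center S := by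
  rw [zOf, top_inf_eq, coe_top, centralizer_univ]

omit [Finite S] in
theorem normal_map_of_central {G : Type*} [Group G] {τ : S →* G} (hτ : Function.Injective τ)
    {H : Subgroup S} (h : H ≤ center S)
    (e : zOf ((⊤ : Subgroup S).map τ) ≤ centralizer ((⊤ : Subgroup G) : Set G)) :
    (H.map τ).Normal :=
  normal_of_le_centralizer_top ((map_mono (h.trans zOf_top.ge)).trans ((map_zOf hτ ⊤).le.trans e))

omit hp in
theorem PE.v0 {G : Type*} [Group G] [Finite G] {τ : S →* G} (h : PE p τ)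
    (hJ : centralizer (ZJ S : Set S) = ⊤)
    (e : ¬ zOf ((⊤ : Subgroup S).map τ) ≤ centralizer ((⊤ : Subgroup G) : Set G)) :
    ∃ q Q M, V0 p q ⊤ ((⊤ : Subgroup S).map τ) Q M := by
  obtain ⟨hτ, q, Q, M, r, hc, hF⟩ := h
  refine ⟨q, Q, M, inferInstance, r, hc, e, (cd_map hτ).2 (cd_top.2 (H72.cl_cd (cl_top_of hJ))), hF,
    by_contra fun e' => ?_⟩
  push Not at e'
  have := r.baumann_normal hc e e'
  rw [H23.zj_map hτ, ← map_inf_centralizer hτ, zj_top, hJ, inf_idem] at this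
  exact r.ne ((le_inf le_rfl le_rfl).trans (r.normal_inf_le r.SM le_normalizer_of_normal))

omit [Finite S] in
theorem char_subgroupOf {H K : Subgroup S} (h : H.Characteristic) (e : K = ⊤) :
    (H.subgroupOf K).Characteristic := by
  subst e
  exact characteristic_iff_le_comap.2 fun φ x hx =>
    characteristic_iff_le_comap.1 h (topEquiv.symm.trans (φ.trans topEquiv)) hx

theorem maxCentralProduct_of_cl {H R : Subgroup S} (hR : IsCentrallyLarge R) (h : R ≤ H) :
    maxCentralProduct H = maxCentralProduct S := by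
  have e : ∀ K : Subgroup H, Nat.card K * Nat.card (zOf K) =
      Nat.card (K.map H.subtype) * Nat.card (zOf (K.map H.subtype)) := fun K => by
    rw [← map_zOf H.subtype_injective, card_map_of_injective H.subtype_injective,
      card_map_of_injective H.subtype_injective]
  apply le_antisymm
  · obtain ⟨K, hK⟩ := H72.exists_isCentrallyLarge (P := H)
    rw [← hK, H72.card_center_eq, e]
    exact H72.le_maxCentralProduct _
  · rw [← hR, H72.card_center_eq, ← map_subgroupOf_eq_of_le h, ← e]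
    exact H72.le_maxCentralProduct _

/-- A Glauberman–Niles pair. -/
def GNPair (p : ℕ) {S : Type u} [Group S] (S₁ S₂ : Subgroup S) : Prop :=
  S₁ ≠ ⊥ ∧ S₂ ≠ ⊥ ∧ S₁.Characteristic ∧ S₂.Characteristic ∧ S₁ ≤ center S ∧
    S₂ ≤ centralizer (ZJ S : Set S) ∧ (S₂.subgroupOf (centralizer (ZJ S : Set S))).Characteristic ∧
    ∀ (G : Type u) [Group G] [Finite G] (τ : S →* G), PE p τ →
      (S₁.map τ).Normal ∨ (S₂.map τ).Normal

variable {S : Type u} [Group S] [Finite S]

omit hp in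
theorem pair_of_top (hJ : centralizer (ZJ S : Set S) = ⊤) {S₁ S₂ : Subgroup S} (h1 : S₁ ≠ ⊥)
    (h2 : S₂ ≠ ⊥) (c1 : S₁.Characteristic) (c2 : S₂.Characteristic) (h3 : S₁ ≤ center S)
    (h : ∀ (G : Type u) [Group G] [Finite G] (τ : S →* G) (q : ℕ) (Q M : Subgroup G),
      Function.Injective τ → V0 p q ⊤ ((⊤ : Subgroup S).map τ) Q M →
      ¬ S₁.map τ ≤ centralizer ((⊤ : Subgroup G) : Set G) →
      ⊤ ≤ normalizer ((S₂.map τ : Subgroup G) : Set G)) : GNPair p S₁ S₂ :=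
  ⟨h1, h2, c1, c2, h3, hJ ▸ le_top, char_subgroupOf c2 hJ, fun G _ _ τ hτ =>
    or_iff_not_imp_left.2 fun e =>
      let ⟨q, Q, M, v⟩ := hτ.v0 hJ fun e' => e (normal_map_of_central hτ.1 h3 e')
      normalizer_eq_top_iff.1 (top_le_iff.1
        (h G τ q Q M hτ.1 v fun e' => e (normal_of_le_centralizer_top e')))⟩

theorem inf_center_ne_bot (hS : IsPGroup p S) {N : Subgroup S} (c : N.Characteristic) (h : N ≠ ⊥) :
    center S ⊓ N ≠ ⊥ := by
  have := inf_centralizer_ne_bot (T := ⊤) (hS.to_subgroup _) (hS.to_subgroup N)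
    le_normalizer_of_normal h
  rwa [coe_top, centralizer_univ, inf_comm] at this

theorem pair_baumann (hS : IsPGroup p S) (h : ⁅ZJ S, (⊤ : Subgroup S)⁆ ≠ ⊥) :
    GNPair p (center S ⊓ ⁅ZJ S, (⊤ : Subgroup S)⁆) (centralizer (ZJ S : Set S)) := by
  have := zj_char (S := S)
  have h1 := inf_center_ne_bot hS inferInstance h
  refine ⟨h1, fun e => h1 (le_bot_iff.1 (inf_le_left.trans ((center_le_centralizer _).trans e.le))),
    inferInstance, inferInstance, inf_le_left, le_rfl, by rw [subgroupOf_self]; infer_instance,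
    fun G _ _ τ ⟨hτ, q, Q, M, r, hc, F, _, _, hF⟩ => or_iff_not_imp_left.2 fun e => ?_⟩
  have hn := fun e' => e (normal_map_of_central hτ inf_le_left e')
  by_cases hA : ∀ A ∈ H23.maxAb 0 ((⊤ : Subgroup S).map τ), A ≤ Q
  · have := r.baumann_normal hc hn hA
    rwa [H23.zj_map hτ, ← map_inf_centralizer hτ, zj_top, top_inf_eq] at this
  push Not at hA
  obtain ⟨A, hA, hAQ⟩ := hA
  obtain ⟨N⟩ := r.natSec_of_maxAb hc hn hA hAQ F hF
  obtain ⟨Y, y1, y2, y3, y4, y5⟩ := N.baumann r hF hc hA hAQ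
  refine absurd (normal_of_le_centralizer_top (le_trans ?_ y3)) e
  rw [Subgroup.map_inf _ _ _ hτ, ← zOf_top, map_zOf hτ, inf_comm, map_commutator, ← zj_top,
    ← H23.zj_map hτ]
  refine inf_le_inf_right _ (commutator_le.2 fun a ha s hs => ?_)
  have nY := y5.trans (sup_le ((le_normalClosure.trans y4).trans (centralizer_le_normalizer _)) y2)
  obtain ⟨y, hy, z, hz, rfl⟩ := (mem_sup_of_le_normalizer' (inf_le_left.trans nY)).1 (y1 ha)
  refine comm_mem_comm ?_
  rw [comm_mul_of_comm (hz.2 s hs)]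
  exact commutator_mem_of_normalizer (nY hs) hy

omit hp in
theorem ne_bot_of_cl [Nontrivial S] {R : Subgroup S} (h : IsCentrallyLarge R) : R ≠ ⊥ := fun e => by
  have := H72.cl_centralizer_le h
  rw [e, coe_bot, centralizer_eq_top_iff_subset.2 (by simp)] at this
  exact top_ne_bot (le_bot_iff.1 this)

theorem pair_mcl [Nontrivial S] (hS : IsPGroup p S) (hJ : centralizer (ZJ S : Set S) = ⊤)
    {R : Subgroup S} (hR : IsMinimalCentrallyLarge R) (h : ⁅R, R⁆ ≠ ⊥) :
    GNPair p (center S ⊓ ⁅R, R⁆) (SMcl ⊤) := by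
  have := mcl_comm_char hR
  refine pair_of_top hJ (inf_center_ne_bot hS this h)
    (ne_bot_of_cl (smcl_top (P := S) ▸ H72.cl_minimalCentrallyLargeJoin)) inferInstance smcl_char
    inf_le_left fun G _ _ τ q Q M hτ v e => ?_
  rw [Subgroup.map_inf _ _ _ hτ, ← zOf_top, map_zOf hτ, map_commutator] at e
  rw [map_SMcl hτ]
  exact (v.mcl_cases ((mcl_map hτ).2 (mcl_top.2 hR))).resolve_left e

theorem pair_phi [Nontrivial S] (hS : IsPGroup p S) (hJ : centralizer (ZJ S : Set S) = ⊤)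
    (h : SPhi p (⊤ : Subgroup S) ≠ ⊥) : GNPair p (center S) (SPhi p ⊤) :=
  pair_of_top hJ hS.bot_lt_center.ne' h inferInstance sphi_char le_rfl
    fun G _ _ τ q Q M hτ v _ => by rw [map_SPhi hτ]; exact v.norm_SPhi

theorem pair_pow [Nontrivial S] (hJ : centralizer (ZJ S : Set S) = ⊤)
    (h : pows p (center S) ≠ ⊥) : GNPair p (pows p (center S)) ⊤ := by
  refine pair_of_top hJ h top_ne_bot (characteristic_iff_map_eq.2 fun φ => by
    rw [map_pows, characteristic_iff_map_eq.1 inferInstance φ]) inferInstance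
    (pows_le_iff.2 fun x hx => pow_mem hx p) fun G _ _ τ q Q M hτ v e => absurd ?_ e
  rw [map_pows, ← zOf_top, map_zOf hτ]
  exact pows_le_iff.2 fun x hx => v.pow_p (v.zle hx)

omit hp in
theorem pair_comm [Nontrivial S] (hJ : centralizer (ZJ S : Set S) = ⊤) (h : IsMulCommutative S) :
    GNPair p (⊤ : Subgroup S) ⊤ := by
  have e := center_eq_top (G := S)
  refine pair_of_top hJ top_ne_bot top_ne_bot inferInstance inferInstance e.ge
    fun G _ _ τ q Q M hτ v _ => absurd (le_trans ?_ (v.zle.trans inf_le_left)) v.r.ne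
  rw [← map_zOf hτ, zOf_top, e]

theorem pair_main (hS : IsPGroup p S) (hJ : centralizer (ZJ S : Set S) = ⊤)
    (hA : ∀ A ∈ maxAbelianSubgroups S, IsCentralizerLarge A) (hZ : ∀ z ∈ center S, z ^ p = 1)
    (h : S0 p (⊤ : Subgroup S) ≠ ⊥) :
    ∃ S₂, IsCentrallyLarge S₂ ∧ GNPair p (center S ⊓ S0 p (⊤ : Subgroup S)) S₂ := by
  have c0 : (S0 p (⊤ : Subgroup S)).Characteristic :=
    characteristic_iff_map_eq.2 fun φ => by rw [map_S0, map_top_equiv]
  have h1 := inf_center_ne_bot hS c0 h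
  have : Nontrivial S := (nontrivial_iff (G := S)).1 ⟨_, _, h⟩
  set S₁ := center S ⊓ S0 p (⊤ : Subgroup S) with hS₁
  let 𝒱 : Set (Subgroup S) := {V | ∃ (G : Type u) (_ : Group G) (τ : S →* G) (q : ℕ)
    (Q M : Subgroup G), Function.Injective τ ∧ Vx p q ⊤ ((⊤ : Subgroup S).map τ) Q M ∧
      ¬ S₁.map τ ≤ centralizer ((⊤ : Subgroup G) : Set G) ∧ V.map τ = zOf Q}
  have pair : ∀ V ∈ 𝒱, ∀ (G : Type u) [Group G] (τ : S →* G) (q : ℕ) (Q M : Subgroup G),
      Function.Injective τ → Vx p q ⊤ ((⊤ : Subgroup S).map τ) Q M →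
      ¬ S₁.map τ ≤ centralizer ((⊤ : Subgroup G) : Set G) →
      V.map τ ≤ Q ∧ ⊤ ≤ normalizer ((V.map τ ⊔ zOf Q : Subgroup G) : Set G) := by
    rintro V ⟨H, _, σ, q', Q', M', hσ, w, -, hV⟩ G _ τ q Q M hτ v e
    obtain ⟨X, _, ι₁, ι₂, h₁, h₂, hι⟩ := exists_amalgam hσ hτ
    have a := w.map h₁
    rw [hι] at a
    rcases two_vertex a (v.map h₂) with ⟨b1, b2⟩ | ⟨N, b1, b2⟩
    · rw [← map_zOf h₁, ← hV, hι] at b1 b2
      rw [← map_zOf h₂, ← Subgroup.map_sup, map_le_normalizer_map h₂] at b2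
      exact ⟨(map_le_map_inj h₂).1 b1, b2⟩
    · refine absurd (fun x hx => (mem_centralizer_map h₂).1 (b2 ?_)) e
      have := mem_map_of_mem ι₂ hx
      rw [hS₁, Subgroup.map_inf _ _ _ hτ, Subgroup.map_inf _ _ _ h₂, ← zOf_top, map_zOf hτ,
        map_zOf h₂, map_S0, map_S0] at this
      exact ⟨this.1, S0_le_iff.2 b1 this.2⟩
  have hW : IsCentralizerLarge (center S ⊔ sSup 𝒱) := H72.sup_sSup_induction _ _ (by
      simpa [centralizer_univ] using H72.cd_centralizer (H72.cl_cd (cl_top_of hJ))) (by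
    rintro Y hY V ⟨G, _, τ, q, Q, M, hτ, v, -, hV⟩
    exact H72.cd_sup hY (cd_top.1 ((cd_map hτ).1 (hV ▸ v.cdV))))
  have hWa : center S ⊔ sSup 𝒱 ≤ centralizer ((center S ⊔ sSup 𝒱 : Subgroup S) : Set S) := by
    refine sup_le (center_le_centralizer _) (sSup_le fun V hV => le_centralizer_iff.1
      (sup_le (center_le_centralizer _) (sSup_le ?_)))
    rintro V' ⟨G, _, τ, q, Q, M, hτ, v, e, hV'⟩ x hx
    exact (mem_centralizer_map hτ).1 (centralizer_le (pair V hV G τ q Q M hτ v e).1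
      (hV' ▸ mem_map_of_mem τ hx : τ x ∈ zOf Q).2)
  have hL : IsCentrallyLarge (centralizer ((center S ⊔ sSup 𝒱 : Subgroup S) : Set S)) :=
    H72.isCentrallyLarge_iff.2 ⟨H72.cd_centralizer hW,
      (H72.cd_centralizer_centralizer hW).le.trans hWa⟩
  have cW : (sSup 𝒱).Characteristic := characteristic_iff_le_comap.2 fun φ => sSup_le (by
    rintro V ⟨G, _, τ, q, Q, M, hτ, v, e, hV⟩
    have k : ∀ H : Subgroup S, H.Characteristic → H.map (τ.comp φ.symm.toMonoidHom) = H.map τ :=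
      fun H hH => by rw [← map_map, characteristic_iff_map_eq.1 hH]
    refine map_le_iff_le_comap.1 (le_sSup ⟨G, _, τ.comp φ.symm.toMonoidHom, q, Q, M,
      hτ.comp φ.symm.injective, by rwa [k ⊤ inferInstance], by rwa [k S₁ inferInstance], ?_⟩)
    rw [← hV, map_map]
    congr 1
    ext x; simp)
  refine ⟨_, hL, pair_of_top hJ h1 (ne_bot_of_cl hL) inferInstance inferInstance inf_le_left
    fun G _ _ τ q Q M hτ v e => ?_⟩
  have v' : Vx p q ⊤ ((⊤ : Subgroup S).map τ) Q M := ⟨v, by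
      rw [← map_zOf hτ, zOf_top]
      rintro _ ⟨z, hz, rfl⟩
      rw [← map_pow, hZ z hz, map_one], by
    obtain ⟨A, h2, h3⟩ := v.mx
    obtain ⟨A, rfl⟩ := exists_map_eq h2.1
    exact ⟨_, (cd_map hτ).2 (cd_top.2 (hA A (H23.maxAb_zero_top (G := S) ▸
      (H23.map_mem_maxAb_iff hτ).1 h2))), le_centralizer_iff_isMulCommutative.2 h2.2.1, h3⟩⟩
  obtain ⟨V, hV⟩ := exists_map_eq v.VS
  have hV' : zOf Q ≤ (sSup 𝒱).map τ := hV ▸ map_mono (le_sSup ⟨G, _, τ, q, Q, M, hτ, v', e, hV⟩)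
  have nW : ⊤ ≤ normalizer (((center S ⊔ sSup 𝒱).map τ : Subgroup G) : Set G) := by
    rw [Subgroup.map_sup, sup_eq_right.2 (le_trans (by rw [← zOf_top, map_zOf hτ]; exact v.zle) hV')]
    refine le_normalizer_of_cj_le fun g hg => cj_le_iff.2 (map_le_iff_le_comap.2 (sSup_le
      fun V' h2 => map_le_iff_le_comap.1 (cj_le_iff.1 ?_)))
    exact (cj_le_of_mem_normalizer ((pair V' h2 G τ q Q M hτ v' e).2 hg) le_sup_left).trans
      (sup_le (map_mono (le_sSup h2)) hV')
  rw [← top_inf_eq (centralizer _), map_inf_centralizer hτ, ← inf_eq_right.2 ((inf_le_inf_left _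
    (centralizer_le (hV'.trans (map_mono le_sup_right)))).trans v.cent.le), ← inf_assoc,
    inf_eq_left.2 v.r.QS]
  exact le_normalizer_inf v.r.Qn (nW.trans (normalizer_le_normalizer_centralizer _))

/-- The exceptional class of the Glauberman–Niles theorem. -/
def GNExc (p : ℕ) (S : Type*) [Group S] : Prop :=
  centralizer (ZJ S : Set S) = ⊤ ∧ ¬ IsMulCommutative S ∧ (∀ z ∈ center S, z ^ p = 1) ∧
    (∀ A ∈ maxAbelianSubgroups S, IsCentralizerLarge A) ∧ thompsonSubgroupA S = ⊤ ∧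
    Small p (⊤ : Subgroup S) ⊥

theorem gn_master [Nontrivial S] (hS : IsPGroup p S) : GNExc p S ∨ ∃ S₁ S₂ : Subgroup S,
    GNPair p S₁ S₂ ∧ maxCentralProduct S₂ = maxCentralProduct (centralizer (ZJ S : Set S)) := by
  refine or_iff_not_imp_right.2 fun e => ?_
  push Not at e
  have hJ : centralizer (ZJ S : Set S) = ⊤ := top_le_iff.1 (le_centralizer_iff.1
    (commutator_eq_bot_iff_le_centralizer.1 (by_contra fun h => e _ _ (pair_baumann hS h) rfl)))
  have e' : ∀ S₁ S₂ : Subgroup S, GNPair p S₁ S₂ → ¬ IsCentrallyLarge S₂ := fun S₁ S₂ h1 h2 =>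
    e _ _ h1 ((maxCentralProduct_of_cl h2 le_rfl).trans (maxCentralProduct_of_cl h2 h1.2.2.2.2.2.1).symm)
  obtain ⟨R, hR⟩ := H72.exists_minimalCL (P := S)
  have h1 : IsMulCommutative R := commutator_self_eq_bot_iff.1 (by_contra fun h =>
    e' _ _ (pair_mcl hS hJ hR h) (smcl_top (P := S) ▸ H72.cl_minimalCentrallyLargeJoin))
  have hA : ∀ A ∈ maxAbelianSubgroups S, IsCentralizerLarge A := fun A hA =>
    H72.cl_cd ((H72.mcl_iff_maxAb hR h1 A).2 hA).1
  have hZ : ∀ z ∈ center S, z ^ p = 1 := pows_le_iff.1 (le_bot_iff.2 (by_contra fun h =>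
    e' _ _ (pair_pow hJ h) (cl_top_of hJ)))
  refine ⟨hJ, fun h => e' _ _ (pair_comm hJ h) (cl_top_of hJ), hZ, hA,
    top_le_iff.1 ((hJ.ge.trans (H72.jTilde_le_sup hR.1)).trans (sup_le
      (le_sSup ((H72.mcl_iff_maxAb hR h1 R).1 hR)) le_rfl)),
    S0_le_iff.1 (le_bot_iff.2 (by_contra fun h => ?_))⟩
  obtain ⟨S₂, h2, h3⟩ := pair_main hS hJ hA hZ h
  exact e' _ _ h3 h2

theorem frattini_eq_Phi (hS : IsPGroup p S) : frattini S = Phi p (⊤ : Subgroup S) :=
  le_antisymm ((H3.frattini_le_iff hS).2 ⟨le_sup_left, fun _ => mem_sup_right (pow_mem_pows trivial)⟩)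
    (Phi_le_iff.2 (((H3.frattini_le_iff hS).1 le_rfl).imp_right fun h x _ => h x))

theorem GNExc.out [Nontrivial S] (hS : IsPGroup p S) (h : GNExc p S) :
    IsElementaryAbelian p (center S) ∧ IsElementaryAbelian p (frattini S) ∧
    (p = 2 → frattini S ≤ center S) ∧ (p = 3 → frattini S ≤ Subgroup.upperCentralSeries S 2) ∧
    (3 < p → frattini S ≤ center S ∧ Monoid.exponent S = p) ∧
    ∀ A ∈ maxAbelianSubgroups S, ∀ B ∈ maxAbelianSubgroups S, ∀ Q : Subgroup S,
      Nat.card A ^ 2 = Nat.card S * Nat.card (center S) ∧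
      Nat.card Q * Nat.card (center Q) ≤ Nat.card S * Nat.card (center S) ∧
      ((A ⊔ B : Subgroup S) : Set S) = (A : Set S) * (B : Set S) ∧
      A ⊔ B = centralizer ((A ⊓ B : Subgroup S) : Set S) := by
  obtain ⟨hJ, -, hZ, hA, -, s1, s2, s3, s4⟩ := h
  rw [← frattini_eq_Phi hS] at s1 s2 s3
  have c : ∀ H : Subgroup S, ⁅H, ⊤⁆ ≤ ⊥ → H ≤ center S := fun H h => by
    simpa [centralizer_univ] using commutator_eq_bot_iff_le_centralizer.1 (le_bot_iff.1 h)
  have hT := H72.cl_cd (cl_top_of hJ)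
  rw [IsCentralizerLarge, card_top, coe_top, centralizer_univ] at hT
  refine ⟨⟨inferInstance, hZ⟩, ⟨commutator_self_eq_bot_iff.1 (le_bot_iff.1 (Phi_le_iff.1 s1).1),
    (Phi_le_iff.1 s1).2⟩, fun e => c _ (s3 (by omega)), fun _ x hx => ?_,
    fun e => ⟨c _ (s3 (by omega)), ?_⟩, fun A h1 B h2 Q => ⟨?_, ?_, H72.cd_coe_sup (hA A h1) (hA B h2),
      ?_⟩⟩
  · refine Subgroup.mem_upperCentralSeries_succ_iff.2 fun y => ?_
    rw [Subgroup.upperCentralSeries_one]
    exact c _ s2 (commutator_mem_commutator hx (mem_top y))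
  · exact (Monoid.exponent_eq_prime_iff hp.out).2 fun x hx =>
      orderOf_eq_prime (pows_le_iff.1 (s4 e) x trivial) hx
  · have := hA A h1
    rwa [IsCentralizerLarge, H72.maxAb_centralizer h1, ← sq, ← hT] at this
  · rw [hT, ← H72.maxCentralProduct_eq, H72.card_center_eq]
    exact H72.le_maxCentralProduct Q
  · rw [H72.cd_centralizer_inf (hA A h1) (hA B h2), H72.maxAb_centralizer h1,
      H72.maxAb_centralizer h2]

end Cfsg.Agent.H69
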