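import Cfsg.Agent.S1874
import Cfsg.Agent.H69.Cores
import Cfsg.Agent.H69.KM1

/-! Klinger–Mason, part 2: rank bounds in a group of local characteristic `p`. -/

set_option autoImplicit false

namespace Cfsg.Agent.KM69
open Subgroup Cfsg H59 S1874

variable {G : Type*} [Group G] [Finite G] {p : ℕ} [hp : Fact p.Prime]

theorem grow1 (hp2 : p ≠ 2)
    (locp : ∀ T : Subgroup G, IsPGroup p T → T ≠ ⊥ → H69.CharPOf p (normalizer (T : Set G)))
    {B W : Subgroup G} (hB : IsElementaryAbelian p B) (hB1 : B ≠ ⊥) (hW : IsElementaryAbelian 2 W)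
    (hc : W ≤ centralizer (B : Set G)) {v : G} (hv : v ∈ W) (hv1 : v ≠ 1) :
    ∃ W₀ ≤ W, W₀.relIndex W = 2 ∧ ∃ x, orderOf x = p ∧ v * x * v⁻¹ = x⁻¹ ∧
      IsElementaryAbelian p (B ⊔ zpowers x) ∧ p * Nat.card B ≤ Nat.card ↥(B ⊔ zpowers x) ∧
      W₀ ≤ centralizer ((B ⊔ zpowers x : Subgroup G) : Set G) := by
  haveI := hB.1
  haveI := hW.1
  have hBp := H21.IsElementaryAbelian.isPGroup hB
  have hvo : orderOf v = 2 := orderOf_eq_prime (hW.2 v hv) hv1
  have hQ := H69.isPGroup_pCoreOf (p := p) (normalizer (B : Set G))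
  have hQn := H69.le_normalizer_pCoreOf (p := p) (normalizer (B : Set G))
  have hch := locp B hBp hB1
  unfold H69.CharPOf at hch
  set Q := pCoreOf p (normalizer (B : Set G))
  have hWN := hc.trans (centralizer_le_normalizer _)
  have h1 : ¬ Q ⊓ centralizer (B : Set G) ≤ C1 v := fun h =>
    not_two_dvd hp2 hQ (hvo ▸ Subgroup.orderOf_dvd_natCard _ (hch ⟨hWN hv,
      zpowers_le.mp (S0028.result p B (zpowers v) Q hBp
      (by rw [Nat.card_zpowers, hvo]; exact (Nat.coprime_primes Nat.prime_two hp.out).mpr hp2.symm)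
      hQ (le_centralizer_iff.mp (zpowers_le.mpr (hc hv)))
      (le_normalizer.trans hQn) (zpowers_le.mpr (hQn (hWN hv)))
      (by rwa [H44.centralizer_zpowers_eq]))⟩))
  have hWn : W ≤ normalizer ((Q ⊓ centralizer (B : Set G) : Subgroup G) : Set G) :=
    H21.le_normalizer_inf (hWN.trans hQn) (hc.trans le_normalizer)
  have h2 : ¬ _ := fun h => h1 (H46.le_of_forall_hyperplane hW
    (fun h0 => hv1 (by rwa [h0, mem_bot] at hv)) (not_two_dvd hp2 hQ.to_inf_left) hWn h)
  push Not at h2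
  obtain ⟨W₀, h3, h4, h2⟩ := h2
  obtain ⟨x, hx, hxo, e⟩ := exists_inverted hQ.to_inf_left.to_inf_left (hW.2 v hv)
    (zpowers_le.mp (H21.le_normalizer_inf (zpowers_le.mpr (hWn hv)) ((zpowers_le.mpr hv).trans
      ((H21.le_centralizer_of_le_comm le_rfl h3).trans le_normalizer)))) h2
  obtain ⟨g1, g2⟩ := grow hp2 hB hxo hx.1.2 (le_C1.mpr (hc hv)) e
  refine ⟨W₀, h3, h4, x, hxo, e, g1, g2, ?_⟩
  rw [H21.centralizer_sup]
  exact le_inf (h3.trans hc) (le_centralizer_iff.mp (zpowers_le.mpr hx.2))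

omit hp [Finite G] in
theorem half {W₀ W : Subgroup G} (h : W₀ ≤ W) (h2 : W₀.relIndex W = 2) :
    Nat.card W₀ * 2 = Nat.card W := h2 ▸ H21.card_mul_relIndex_of_le h

omit [Finite G] in
theorem hyp_ne_bot {A B : Subgroup G} (h : A ≤ B) (h2 : A.relIndex B = p)
    (hB : p ^ 2 ≤ Nat.card B) : A ≠ ⊥ := fun h0 => by
  have h1 := H21.card_mul_relIndex_of_le h
  rw [h2, h0, card_bot] at h1
  have := hp.out.two_le
  nlinarith

omit [Finite G] in
theorem not_dvd_of_two (hp2 : p ≠ 2) {X : Subgroup G} [Finite X] (hX : IsPGroup 2 X) :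
    ¬ p ∣ Nat.card X := fun h0 => by
  obtain ⟨k, hk⟩ := IsPGroup.iff_card.mp hX
  rw [hk] at h0
  exact hp2 ((Nat.prime_dvd_prime_iff_eq hp.out Nat.prime_two).mp (hp.out.dvd_of_dvd_pow h0))

theorem step1 (hp2 : p ≠ 2)
    (locp : ∀ T : Subgroup G, IsPGroup p T → T ≠ ⊥ → H69.CharPOf p (normalizer (T : Set G)))
    {B T : Subgroup G} (hB : IsElementaryAbelian p B) (hB2 : p ^ 2 ≤ Nat.card B)
    (hT : IsPGroup 2 T) (hT1 : T ≠ ⊥) (hn : B ≤ normalizer (T : Set G)) :
    ∃ (w : G) (B' : Subgroup G), orderOf w = 2 ∧ IsElementaryAbelian p B' ∧ B' ≤ C1 w ∧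
      Nat.card B ≤ Nat.card B' := by
  haveI := hB.1
  set V := omegaOne 2 (H69.zOf T)
  have hV : IsElementaryAbelian 2 V := H21.isElementaryAbelian_omegaOne 2 _
  have hV1 : V ≠ ⊥ := H69.omegaOne_zOf_ne_bot hT hT1
  have hV2 := H21.IsElementaryAbelian.isPGroup hV
  have hBV : B ≤ normalizer (V : Set G) := hn.trans ((H69.normalizer_le_normalizer_zOf T).trans
    (H21.normalizer_le_normalizer_omegaOne 2 _))
  have hB1 : B ≠ ⊥ := fun h => by
    rw [h, card_bot] at hB2
    have := hp.out.two_le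
    nlinarith
  have h2 : ¬ _ := fun h => hV1 (eq_bot_iff.mpr
    (H46.le_of_forall_hyperplane hB hB1 (not_dvd_of_two hp2 hV2) hBV h))
  push Not at h2
  obtain ⟨A, hAB, hi, h2⟩ := h2
  set U := V ⊓ centralizer (A : Set G)
  have hU : IsElementaryAbelian 2 U := H21.isElementaryAbelian_of_le hV inf_le_left
  have hU2 := H21.IsElementaryAbelian.isPGroup hU
  by_cases h0 : U ⊓ centralizer (B : Set G) = ⊥
  · have hBU : B ≤ normalizer (U : Set G) := H21.le_normalizer_inf hBV
      ((H21.le_centralizer_of_le_comm le_rfl hAB).trans le_normalizer)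
    have d1 := dvd_card_sub (H21.IsElementaryAbelian.isPGroup hB) hBU
    rw [h0, card_bot] at d1
    have d2 : Nat.card U ≠ 1 := fun h => h2 (card_eq_one.mp h).le
    have d3 := H21.card_pos' U
    have d4 := Nat.le_of_dvd (by omega) d1
    have d5 := hp.out.two_le
    obtain ⟨v, hv, hvo⟩ := exists_invol hU (by omega)
    obtain ⟨W₀, g1, g2, x, -, -, g3, g4, g5⟩ := grow1 hp2 locp
      (H21.isElementaryAbelian_of_le hB hAB) (hyp_ne_bot hAB hi hB2) hU inf_le_right hv
      (fun h => by rw [h, orderOf_one] at hvo; omega)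
    have d6 := half g1 g2
    obtain ⟨w, hw, hwo⟩ := exists_invol (H21.isElementaryAbelian_of_le hU g1) (by omega)
    refine ⟨w, _, hwo, g3, le_C1.mpr (g5 hw), le_trans (le_of_eq ?_) g4⟩
    rw [← H21.card_mul_relIndex_of_le hAB, hi, mul_comm]
  · obtain ⟨w, hw, -, hwo⟩ := exists_orderOf_eq_centralizer (R := ⊥) IsPGroup.of_bot
      hU2.to_inf_left h0 bot_le
    exact ⟨w, B, hwo, hB, le_C1.mpr hw.2, le_rfl⟩

/-- The minimal configuration. -/
structure Hyp (p N : ℕ) (G : Type*) [Group G] : Prop where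
  p2 : p ≠ 2
  locp : ∀ T : Subgroup G, IsPGroup p T → T ≠ ⊥ → H69.CharPOf p (normalizer (T : Set G))
  loc2 : ∀ T : Subgroup G, IsPGroup 2 T → T ≠ ⊥ → H69.CharPOf 2 (normalizer (T : Set G))
  max : ∀ (w : G) (B : Subgroup G), orderOf w = 2 → IsElementaryAbelian p B → B ≤ C1 w →
    Nat.card B ≤ N
  big : p ^ 3 ≤ N

/-- A good pair. -/
structure Good (p N : ℕ) {G : Type*} [Group G] (z : G) (B : Subgroup G) : Prop where
  ord : orderOf z = 2
  ea : IsElementaryAbelian p B
  le : B ≤ C1 z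
  card : N ≤ Nat.card B

variable {N : ℕ}

omit [Finite G] in
theorem Hyp.ne_bot (h : Hyp p N G) {A : Subgroup G} (hA : N ≤ p ^ 2 * Nat.card A) : A ≠ ⊥ :=
  fun h0 => by
    rw [h0, card_bot, mul_one] at hA
    have := Nat.pow_lt_pow_right hp.out.one_lt (by norm_num : 2 < 3)
    have := h.big
    omega

theorem Hyp.no_four (h : Hyp p N G) {B W : Subgroup G} (hB : IsElementaryAbelian p B)
    (hn : N ≤ Nat.card B) (hW : IsElementaryAbelian 2 W) (hc : W ≤ centralizer (B : Set G)) :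
    Nat.card W < 4 := by
  by_contra! h4
  have d5 := hp.out.two_le
  obtain ⟨v, hv, hvo⟩ := exists_invol hW (by omega)
  obtain ⟨W₀, g1, g2, x, -, -, g3, g4, g5⟩ := grow1 h.p2 h.locp hB
    (h.ne_bot (hn.trans (Nat.le_mul_of_pos_left _ (by positivity)))) hW hc hv
    (fun h => by rw [h, orderOf_one] at hvo; omega)
  have d6 := half g1 g2
  obtain ⟨w, hw, hwo⟩ := exists_invol (H21.isElementaryAbelian_of_le hW g1) (by omega)
  have := h.max w _ hwo g3 (le_C1.mpr (g5 hw))
  have := H21.card_pos' B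
  nlinarith

theorem Hyp.no_eight (h : Hyp p N G) {A W : Subgroup G} (hA : IsElementaryAbelian p A)
    (hn : N ≤ p * Nat.card A) (hW : IsElementaryAbelian 2 W) (hc : W ≤ centralizer (A : Set G)) :
    Nat.card W < 8 := by
  by_contra! h8
  have d5 := hp.out.two_le
  obtain ⟨v, hv, hvo⟩ := exists_invol hW (by omega)
  obtain ⟨W₀, g1, g2, x, -, -, g3, g4, g5⟩ := grow1 h.p2 h.locp hA
    (h.ne_bot (hn.trans (Nat.mul_le_mul_right _ (by nlinarith)))) hW hc hv
    (fun h => by rw [h, orderOf_one] at hvo; omega)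
  have d6 := half g1 g2
  have := h.no_four g3 (hn.trans g4) (H21.isElementaryAbelian_of_le hW g1) g5
  omega

/-- A good involution inside an elementary abelian group of order `8`. -/
theorem Hyp.exists_good (h : Hyp p N G) {A W : Subgroup G} (hA : IsElementaryAbelian p A)
    (hn : N ≤ p ^ 2 * Nat.card A) (hW : IsElementaryAbelian 2 W) (h8 : 8 ≤ Nat.card W)
    (hc : W ≤ centralizer (A : Set G)) {z : G} (hz : z ∈ W) (hz1 : z ≠ 1) :
    ∃ t ∈ W, ∃ B', Good p N t B' ∧ ∃ x ∈ B', orderOf x = p ∧ z * x * z⁻¹ = x⁻¹ := by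
  obtain ⟨W₀, g1, g2, x, hxo, e, g3, g4, g5⟩ := grow1 h.p2 h.locp hA (h.ne_bot hn) hW hc hz hz1
  have d6 := half g1 g2
  have hW₀ := H21.isElementaryAbelian_of_le hW g1
  obtain ⟨v, hv, hvo⟩ := exists_invol hW₀ (by omega)
  obtain ⟨W₁, k1, k2, y, -, -, k3, k4, k5⟩ := grow1 h.p2 h.locp g3
    (fun h0 => h.ne_bot hn (eq_bot_iff.mpr (le_sup_left.trans h0.le))) hW₀ g5 hv
    (fun h => by rw [h, orderOf_one] at hvo; omega)
  have d7 := half k1 k2
  obtain ⟨t, ht, hto⟩ := exists_invol (H21.isElementaryAbelian_of_le hW₀ k1) (by omega)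
  refine ⟨t, g1 (k1 ht), _, ⟨hto, k3, le_C1.mpr (k5 ht), hn.trans (le_trans ?_ k4)⟩, x,
    mem_sup_left (mem_sup_right (mem_zpowers x)), hxo, e⟩
  rw [sq, mul_assoc]
  exact Nat.mul_le_mul_left _ g4

variable {z : G} {B : Subgroup G}

omit [Finite G] in
theorem Good.ne_bot (h : Hyp p N G) (g : Good p N z B) : B ≠ ⊥ :=
  h.ne_bot (g.card.trans (Nat.le_mul_of_pos_left _ (pow_pos hp.out.pos _)))

omit [Finite G] hp in
theorem Good.sq (g : Good p N z B) : z ^ 2 = 1 := g.ord ▸ pow_orderOf_eq_one z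

omit [Finite G] hp in
theorem Good.ne_one (g : Good p N z B) : z ≠ 1 := fun h => by
  have := g.ord
  rw [h, orderOf_one] at this
  omega

omit [Finite G] hp in
theorem Good.mem_zpowers (g : Good p N z B) {y : G} (hy : y ∈ zpowers z) : y = 1 ∨ y = z := by
  obtain ⟨k, rfl⟩ := hy
  have h2 : z ^ (2 : ℤ) = 1 := by exact_mod_cast g.sq
  rcases Int.even_or_odd' k with ⟨m, rfl | rfl⟩
  · left; simp only; rw [zpow_mul, h2, one_zpow]
  · right; simp only; rw [zpow_add, zpow_mul, h2, one_zpow, one_mul, zpow_one]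

theorem Good.elem (h : Hyp p N G) (g : Good p N z B) {V : Subgroup G}
    (hV : IsElementaryAbelian 2 V) (hz : V ≤ C1 z) (hn : B ≤ normalizer (V : Set G)) :
    ∀ y ∈ V, y = 1 ∨ y = z := by
  haveI := g.ea.1
  have hBp := H21.IsElementaryAbelian.isPGroup g.ea
  have hZ := H21.isElementaryAbelian_zpowers g.sq
  have hzB : zpowers z ≤ centralizer (B : Set G) := zpowers_le.mpr (le_C1.mp g.le)
  have hX : IsElementaryAbelian 2 (V ⊔ zpowers z) := H21.isElementaryAbelian_sup hV hZ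
    (by rwa [H44.centralizer_zpowers_eq])
  have hX2 := H21.IsElementaryAbelian.isPGroup hX
  have hXn : B ≤ normalizer ((V ⊔ zpowers z : Subgroup G) : Set G) :=
    H21.le_normalizer_sup hn (H21.le_normalizer_of_le_centralizer (le_centralizer_iff.mp hzB))
  have hc2 : Nat.card (zpowers z) = 2 := by rw [Nat.card_zpowers, g.ord]
  have h1 : V ⊔ zpowers z ≤ centralizer (B : Set G) := by
    refine H46.le_of_forall_hyperplane g.ea (g.ne_bot h) (not_dvd_of_two h.p2 hX2) hXn
      fun A hAB hi => ?_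
    by_contra h2
    set U := (V ⊔ zpowers z) ⊓ centralizer (A : Set G)
    have hU : IsElementaryAbelian 2 U := H21.isElementaryAbelian_of_le hX inf_le_left
    have hU2 := H21.IsElementaryAbelian.isPGroup hU
    have hBU : B ≤ normalizer (U : Set G) := H21.le_normalizer_inf hXn
      ((H21.le_centralizer_of_le_comm le_rfl hAB).trans le_normalizer)
    have hU8 := h.no_eight (H21.isElementaryAbelian_of_le g.ea hAB)
      (by rw [mul_comm, ← hi, H21.card_mul_relIndex_of_le hAB]; exact g.card) hU inf_le_right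
    have d1 := dvd_card_sub hBp hBU
    have d2 : Nat.card ↥(U ⊓ centralizer (B : Set G)) < Nat.card U :=
      H21.card_lt_of_lt (lt_of_le_of_ne inf_le_left fun h => h2 (inf_eq_left.mp h))
    have d3 := card_cases hU2 hU8
    have d4 := card_cases (hU2.to_inf_left (K := centralizer (B : Set G))) (d2.trans hU8)
    have d7 : 2 ≤ Nat.card ↥(U ⊓ centralizer (B : Set G)) := hc2 ▸ card_le_of_le
      (le_inf (le_inf le_sup_right (hzB.trans (H21.centralizer_anti hAB))) hzB)
    have d5 := Nat.le_of_dvd (by omega) d1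
    have d6 := hp.out.two_le
    have := h.p2
    omega
  have d1 := h.no_four g.ea g.card hX h1
  have d2 := card_cases hX2 (by omega)
  have d3 := H21.eq_of_le_of_card_le (le_sup_right : zpowers z ≤ V ⊔ zpowers z) (by omega)
  exact fun y hy => g.mem_zpowers (d3 ▸ mem_sup_left hy)

theorem Good.abel (h : Hyp p N G) (g : Good p N z B) {X : Subgroup G} [IsMulCommutative X]
    (hX : IsPGroup 2 X) (hz : X ≤ C1 z) (hn : B ≤ normalizer (X : Set G)) :
    X ≤ centralizer (B : Set G) := by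
  have h1 := g.elem h (H21.isElementaryAbelian_omegaOne 2 X) ((H21.omegaOne_le 2 X).trans hz)
    (hn.trans (H21.normalizer_le_normalizer_omegaOne 2 X))
  have hco : p.Coprime 2 := (Nat.coprime_primes hp.out Nat.prime_two).mpr h.p2
  have key : ∀ k : ℕ, ∀ x ∈ X, x ^ 2 ^ k = 1 → x ∈ centralizer (B : Set G) := by
    intro k
    induction k with
    | zero => intro x _ hx; rw [pow_zero, pow_one] at hx; rw [hx]; exact one_mem _
    | succ k ih =>
      intro x hx hk b hb
      have h2 := ih (x ^ 2) (pow_mem hx 2) (by rw [← pow_mul, ← pow_succ']; exact hk) b hb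
      have h3 := H21.conj_mem_of_mem_normalizer (hn hb) hx
      have h4 : (x⁻¹ * (b * x * b⁻¹)) ^ 2 = 1 := by
        rw [Commute.mul_pow (H21.mul_comm_of_mem (inv_mem hx) h3), conj_pow, h2]; group
      refine chain (k := 1) hco (g.ea.2 b hb) ?_ h4
      rcases h1 _ (H21.mem_omegaOne (mul_mem (inv_mem hx) h3) h4) with e | e <;> rw [e]
      · exact Commute.one_left b
      · exact (mem_C1.mp (g.le hb)).symm
  intro x hx
  obtain ⟨k, hk⟩ := hX ⟨x, hx⟩
  exact key k x hx (congrArg Subtype.val hk)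

end Cfsg.Agent.KM69
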