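import Cfsg.Agent.H69.Atom
import Cfsg.Agent.H72.CSS
import Cfsg.Agent.H72.Bm

/-! Automorphic images of the module inside a `2`-group: the pushing-up configuration. -/

set_option autoImplicit false
set_option linter.unusedSectionVars false

namespace Cfsg.Agent.PU69

open Subgroup Cfsg.Agent.H70 Cfsg.Agent.H92 Cfsg.Agent.H72 Multiplicative
open Cfsg.Agent.H69 (fixA dl fixA_anti fixA_sup)
open scoped commutatorElement

variable {P : Type*} [Group P]

/-- Image under an automorphism. -/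
def am (β : MulAut P) (U : Subgroup P) : Subgroup P := U.map β.toMonoidHom

theorem mem_am {β : MulAut P} {U : Subgroup P} {x : P} : x ∈ am β U ↔ β⁻¹ x ∈ U :=
  mem_map_equiv

theorem apply_mem_am {β : MulAut P} {U : Subgroup P} {x : P} : β x ∈ am β U ↔ x ∈ U := by
  rw [mem_am, MulAut.inv_apply_self]

theorem am_mul (β γ : MulAut P) (U : Subgroup P) : am (β * γ) U = am β (am γ U) := by
  ext x; simp only [mem_am, mul_inv_rev, MulAut.mul_apply]

theorem am_one (U : Subgroup P) : am 1 U = U := by ext x; simp [mem_am]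

theorem am_inv_am (β : MulAut P) (U : Subgroup P) : am β⁻¹ (am β U) = U := by
  rw [← am_mul, inv_mul_cancel, am_one]

theorem am_am_inv (β : MulAut P) (U : Subgroup P) : am β (am β⁻¹ U) = U := by
  rw [← am_mul, mul_inv_cancel, am_one]

theorem am_inf (β : MulAut P) (U U' : Subgroup P) : am β (U ⊓ U') = am β U ⊓ am β U' :=
  map_inf_eq _ _ _ β.injective

theorem am_cent (β : MulAut P) (U : Subgroup P) :
    am β (centralizer (U : Set P)) = centralizer (am β U : Set P) := by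
  have := map_inf_cent_inj (f := β.toMonoidHom) β.injective ⊤ U
  rwa [top_inf_eq, map_top_of_surjective _ β.surjective, top_inf_eq] at this

theorem card_am (β : MulAut P) (U : Subgroup P) : Nat.card (am β U) = Nat.card U :=
  card_map_of_injective β.injective

theorem am_mono (β : MulAut P) {U U' : Subgroup P} (h : U ≤ U') : am β U ≤ am β U' := map_mono h

theorem am_le_cent (β : MulAut P) {U U' : Subgroup P} (h : U ≤ centralizer (U' : Set P)) :
    am β U ≤ centralizer (am β U' : Set P) := am_cent β U' ▸ am_mono β h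

theorem am_sq (β : MulAut P) {U : Subgroup P} (h : ∀ x ∈ U, x * x = 1) {x : P} (hx : x ∈ am β U) :
    x * x = 1 := β⁻¹.injective (by rw [map_mul, h _ (mem_am.1 hx), map_one])

theorem am_inv_le {β : MulAut P} {U : Subgroup P} (h : am β⁻¹ U ≤ centralizer (U : Set P)) :
    am β U ≤ centralizer (U : Set P) := by
  have := am_le_cent β h
  rw [am_am_inv] at this
  exact cent_comm.1 this

variable {Γ : Type*} [Group Γ] {W : Type*} [AddCommGroup W] [DistribMulAction Γ W]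

/-- `P` acts on `V ≅ W` through a subgroup of `T`; squares of the kernel lie in `D`. -/
structure St (T M : Subgroup Γ) (V D : Subgroup P) (ρ : P →* Γ) (ι : Multiplicative W →* P) :
    Prop where
  ff : FF W 2 T M
  br : Br V (MonoidHom.id P) ρ ι
  le : ∀ x, ρ x ∈ T
  sq : ∀ q, ρ q = 1 → q * q ∈ D
  fx : ∀ w, ι (ofAdd w) ∈ D → w ∈ fixA W (pResidualOf 2 (⊤ : Subgroup Γ))

variable {T M B H : Subgroup Γ} {V D X Y : Subgroup P} {ρ : P →* Γ} {ι : Multiplicative W →* P}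

namespace St

theorem ker (s : St T M V D ρ ι) : ρ.ker = centralizer (V : Set P) := s.br.ker_eq s.ff.faith

theorem map_le (s : St T M V D ρ ι) (X : Subgroup P) : X.map ρ ≤ T := by
  rintro _ ⟨x, -, rfl⟩; exact s.le x

theorem vsq (s : St T M V D ρ ι) {v : P} (hv : v ∈ V) : v * v = 1 := by
  obtain ⟨w, rfl⟩ := s.br.ex hv
  rw [← map_mul, ← ofAdd_add, ← two_nsmul, s.ff.hV, ofAdd_zero, map_one]

theorem vcomm (s : St T M V D ρ ι) : V ≤ centralizer (V : Set P) := fun v hv u hu => by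
  obtain ⟨w, rfl⟩ := s.br.ex hv
  obtain ⟨w', rfl⟩ := s.br.ex hu
  rw [← map_mul ι, ← map_mul ι, mul_comm]

theorem normal (s : St T M V D ρ ι) : V.Normal := ⟨fun v hv g => by
  obtain ⟨w, rfl⟩ := s.br.ex hv
  exact (s.br.eqv g w) ▸ s.br.mem _⟩

theorem rho_iota (s : St T M V D ρ ι) (w : W) : ρ (ι (ofAdd w)) = 1 :=
  s.ker.ge (s.vcomm (s.br.mem w))

theorem cm (s : St T M V D ρ ι) {q r : P} (hq : ρ q = 1) (hr : ρ r = 1) : ⁅q, r⁆ ∈ D := by
  rw [show ⁅q, r⁆ = (q * r) * (q * r) * ((r⁻¹ * q⁻¹ * r) * (r⁻¹ * q⁻¹ * r)) * (r⁻¹ * r⁻¹) by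
    rw [commutatorElement_def]; group]
  exact mul_mem (mul_mem (s.sq _ (by simp [hq, hr])) (s.sq _ (by simp [hq, hr])))
    (s.sq _ (by simp [hr]))

theorem mem_cent (s : St T M V D ρ ι) {w : W} :
    ι (ofAdd w) ∈ centralizer (X : Set P) ↔ w ∈ fixA W (X.map ρ) := by
  rw [s.br.mem_fix, Subgroup.map_id]

theorem dl_mem (s : St T M V D ρ ι) (a : At W 2 T B H) {x : P} {w : W}
    (h : ⁅x, ι (ofAdd w)⁆ ∈ D) : dl (ρ x) w ∈ fixA W H :=
  a.res_le s.ff.hV (s.fx _ (by rw [s.br.dl_eq]; exact h))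

variable [Finite P] [Finite Γ] [Finite W]

theorem card_fix (s : St T M V D ρ ι) (X : Subgroup P) :
    Nat.card (fixA W (X.map ρ)) = Nat.card (V ⊓ centralizer (X : Set P) : Subgroup P) := by
  rw [← s.br.fixI, s.br.card_toG]

theorem ms_le (s : St T M V D ρ ι) (hc : X.map ρ ≤ centralizer (X.map ρ : Set Γ)) :
    Nat.card (X.map ρ) * Nat.card (V ⊓ centralizer (X : Set P) : Subgroup P) ≤ Nat.card V := by
  rw [← s.card_fix, s.br.card]
  exact s.ff.ms_le (s.ff.syl.pgroup.to_le (s.map_le X)) hc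

theorem am_comm (s : St T M V D ρ ι) (β : MulAut P) :
    (am β V).map ρ ≤ centralizer ((am β V).map ρ : Set Γ) :=
  map_le_cent_map ρ (am_le_cent β s.vcomm)

/-- Every automorphic image of `V` is an offender. -/
theorem off (s : St T M V D ρ ι) (β : MulAut P) : Nat.card W ≤ ms W ((am β V).map ρ) := by
  have h1 := s.ms_le (s.am_comm β⁻¹)
  have h2 := card_map_mul_card_inf ρ (am β⁻¹ V)
  have h3 := card_map_mul_card_inf ρ (am β V)
  rw [card_am, s.ker] at h2 h3
  rw [← h2] at h1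
  have h4 := Nat.le_of_mul_le_mul_left h1 Nat.card_pos
  rw [← card_am β, ← card_am β (am β⁻¹ V ⊓ _), am_inf, am_inf, am_cent, am_cent, am_am_inv] at h4
  rw [ms, s.card_fix, ← s.br.card, ← h3]
  exact Nat.mul_le_mul_left _ h4

theorem am_le_J (s : St T M V D ρ ι) (β : MulAut P) : (am β V).map ρ ≤ sSup (ats W 2 T) :=
  le_J s.ff (s.map_le _) (s.am_comm β) (s.off β)

theorem lemT (s : St T M V D ρ ι) (a : At W 2 T B H) (h1 : B ≤ Y.map ρ)
    (h2 : Y.map ρ ≤ sSup (ats W 2 T)) (h : ∀ y ∈ Y, ∃ w : W, ∃ d ∈ centralizer (X : Set P),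
      y = ι (ofAdd w) * d ∧ dl (ρ y) w ∈ fixA W H) :
    Y ≤ centralizer ((X ⊓ B.comap ρ : Subgroup P) : Set P) := by
  have k : ∀ y ∈ Y, ρ y ∉ relK W (fixA W H) →
      y ∈ centralizer ((X ⊓ B.comap ρ : Subgroup P) : Set P) := fun y hy e => by
    obtain ⟨w, d, hd, rfl, h3⟩ := h y hy
    exact mul_mem (s.mem_cent.2 (fixA_anti (map_le_iff_le_comap.2 inf_le_right)
      (a.fix_of s.ff (h2 (mem_map_of_mem ρ hy)) e h3))) (cent_anti inf_le_left hd)
  obtain ⟨_, hb, hb'⟩ := SetLike.not_le_iff_exists.1 fun e => a.not_le (h1.trans e)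
  obtain ⟨y, hy, rfl⟩ := hb
  intro x hx
  by_cases e : ρ x ∈ relK W (fixA W H)
  · exact (mul_mem_cancel_left (k y hy hb')).1 (k _ (mul_mem hy hx) fun e' =>
      hb' ((mul_mem_cancel_right e).1 (by rwa [map_mul] at e')))
  · exact k x hx e

omit [Finite P] [Finite Γ] [Finite W] in
theorem cent_of_ats (h1 : Y.map ρ ≤ sSup (ats W 2 (Y.map ρ)))
    (h2 : Y ⊓ ρ.ker ≤ centralizer (X : Set P))
    (h3 : ∀ B ∈ ats W 2 (Y.map ρ), X ≤ centralizer ((Y ⊓ B.comap ρ : Subgroup P) : Set P)) :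
    Y ≤ centralizer (X : Set P) := fun y hy => by
  have : sSup (ats W 2 (Y.map ρ)) ≤ (Y ⊓ centralizer (X : Set P)).map ρ :=
    sSup_le fun B hB b hb => by
      obtain ⟨z, hz, rfl⟩ := hB.2 hb
      exact ⟨z, ⟨hz, cent_comm.1 (h3 B hB) (mem_inf.2 ⟨hz, hb⟩)⟩, rfl⟩
  obtain ⟨z, hz, e⟩ := this (h1 (mem_map_of_mem ρ hy))
  rw [SetLike.mem_coe, mem_inf] at hz
  exact (mul_mem_cancel_left (inv_mem hz.2)).1 (h2 (mem_inf.2 ⟨mul_mem (inv_mem hz.1) hy,
    by rw [MonoidHom.mem_ker, map_mul, map_inv, e, inv_mul_cancel]⟩))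

section Full

variable (s : St T M V D ρ ι) (hT : ∀ t ∈ T, ∃ x, ρ x = t) {β γ δ : MulAut P}
include s hT

theorem full (h : ¬ am β V ≤ centralizer (V : Set P)) : (am β V).map ρ = sSup (ats W 2 T) := by
  have := s.normal
  have : (am β V).Normal := this.map _ β.surjective
  refine le_antisymm (s.am_le_J β) (J_le s.ff (s.map_le _) (s.am_comm β) (s.off β)
    (fun e => h (s.ker ▸ (Subgroup.map_eq_bot_iff _).1 e)) fun t ht => ?_)
  obtain ⟨x, rfl⟩ := hT t ht
  exact norm_map ρ (norm_of_normal (L := ⊤)) (mem_map_of_mem ρ (mem_top x))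

theorem tr (h : ¬ am γ V ≤ centralizer (V : Set P)) {x : P} (hx : x ∈ am β V) :
    ∃ w : W, ∃ d ∈ centralizer (am γ V : Set P), x = ι (ofAdd w) * d := by
  have h1 := s.am_le_J (γ⁻¹ * β)
  rw [← s.full hT (β := γ⁻¹) fun e => h (am_inv_le e), am_mul] at h1
  obtain ⟨u, hu, e⟩ := h1 (mem_map_of_mem ρ (apply_mem_am.2 hx))
  obtain ⟨w, hw⟩ := s.br.ex (mem_am.1 hu)
  refine ⟨w, (ι (ofAdd w))⁻¹ * x, ?_, by group⟩
  rw [← am_cent, mem_am, ← s.ker, MonoidHom.mem_ker, hw, inv_inv, map_mul, map_inv,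
    MulAut.inv_apply_self, map_mul, map_inv, e, inv_mul_cancel]

theorem claim1 (h1 : ¬ am β V ≤ centralizer (V : Set P))
    (h2 : ¬ am γ V ≤ centralizer (V : Set P)) : am γ V ≤ centralizer (am β V : Set P) := by
  have k : ∀ B ∈ ats W 2 ((am γ V).map ρ),
      am β V ≤ centralizer ((am γ V ⊓ B.comap ρ : Subgroup P) : Set P) := fun B hB => by
    obtain ⟨H, a⟩ := exists_at s.ff ⟨hB.1, hB.2.trans (s.map_le _)⟩
    refine s.lemT a (by rw [s.full hT h1]; exact le_sSup a.mem) (s.am_le_J β) fun x hx => ?_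
    obtain ⟨w, d, hd, e⟩ := s.tr hT h2 hx
    refine ⟨w, d, hd, e, ?_⟩
    obtain ⟨y, hy, e'⟩ := (s.full hT h2).ge (s.am_le_J β (mem_map_of_mem ρ hx))
    have y2 := am_sq γ (fun _ => s.vsq) hy
    have x2 := am_sq β (fun _ => s.vsq) hx
    have v2 := s.vsq (s.br.mem w)
    have r : ρ (y⁻¹ * d) = 1 := by
      rw [map_mul, map_inv, e', e, map_mul, s.rho_iota, one_mul, inv_mul_cancel]
    have c1 := s.ker.le r _ (s.br.mem w)
    have c2 := mul_mem (inv_mem (am_le_cent γ s.vcomm hy)) hd y hy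
    have := D.inv_mem (s.sq _ r)
    rw [← e']
    refine s.dl_mem a ?_
    rw [e, ← mul_inv_cancel_left y d] at x2
    generalize y⁻¹ * d = c at *
    generalize ι (ofAdd w) = v at *
    have i1 := eq_inv_of_mul_eq_one_left y2
    have i2 := eq_inv_of_mul_eq_one_left v2
    have : y * v * y * v * (c * c) = 1 := by
      calc y * v * y * v * (c * c) = y * v * y * (v * c) * c := by group
        _ = y * v * (y * c) * v * c := by rw [c1]; group
        _ = y * v * c * (y * v * c) := by rw [c2]; group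
        _ = v⁻¹ * (v * (y * c) * (v * (y * c))) * v := by
            rw [mul_assoc y v c, c1, ← mul_assoc y c v]; group
        _ = 1 := by rw [x2]; group
    rwa [commutatorElement_def, ← i1, ← i2, eq_inv_of_mul_eq_one_left this]
  obtain ⟨B, hB, hB', -⟩ := exists_inD (s.ff.syl.pgroup.to_le (s.map_le _)) (s.am_comm γ)
    (fun e => h2 (s.ker ▸ (Subgroup.map_eq_bot_iff _).1 e)) (s.off γ)
  exact cent_of_ats (le_ats s.ff (s.map_le _) (s.am_comm γ) (s.off γ))
    ((inf_le_inf_left _ (ker_le_comap ρ B)).trans (cent_comm.1 (k B ⟨hB', hB⟩))) k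

theorem claim2 (h1 : ¬ am β V ≤ centralizer (V : Set P))
    (h2 : ¬ am γ V ≤ centralizer (V : Set P)) (h3 : am δ V ≤ centralizer (am γ V : Set P)) :
    am δ V ≤ centralizer (am β V : Set P) := by
  by_cases h4 : am δ V ≤ centralizer (V : Set P)
  swap
  · exact s.claim1 hT h1 h4
  intro u hu
  obtain ⟨w, d, hd, e⟩ := s.tr hT h1 hu
  rw [e]
  refine mul_mem (s.mem_cent.2 ?_) hd
  rw [s.full hT h1, H69.mem_fixA']
  refine sSup_le fun B hB => H69.mem_fixA'.1 ?_
  obtain ⟨H, a⟩ := exists_at s.ff hB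
  obtain ⟨b, hb, b1⟩ := (bot_or_exists_ne_one B).resolve_left hB.1.ne
  obtain ⟨x, hx, rfl⟩ := (s.full hT h1).ge (le_sSup hB hb)
  refine a.fix_of_dl hb b1 (s.dl_mem a ?_)
  obtain ⟨y, hy, e'⟩ := (s.full hT h2).ge (le_sSup hB hb)
  have c := s.cm (q := x * y⁻¹) (r := u) (by rw [map_mul, map_inv, e', mul_inv_cancel])
    (s.ker.ge (h4 hu))
  have c1 := h3 hu y hy
  have c2 := hd x hx
  rwa [show ⁅x * y⁻¹, u⁆ = ⁅x, ι (ofAdd w)⁆ by
    calc ⁅x * y⁻¹, u⁆ = x * y⁻¹ * (u * y) * x⁻¹ * u⁻¹ := by rw [commutatorElement_def]; group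
      _ = x * u * x⁻¹ * u⁻¹ := by rw [← c1]; group
      _ = x * ι (ofAdd w) * x⁻¹ * (x * d) * x⁻¹ * d⁻¹ * (ι (ofAdd w))⁻¹ := by rw [e]; group
      _ = _ := by rw [c2, commutatorElement_def]; group] at c

/-- Automorphisms of odd order cannot push up. -/
theorem odd_le {n : ℕ} (hn : Odd n) (h : β ^ n = 1) : am β V ≤ centralizer (V : Set P) := by
  by_contra h1
  have k : ∀ m : ℕ, am (β ^ (2 * m)) V ≤ centralizer (V : Set P) := fun m => by
    induction m with
    | zero => rw [mul_zero, pow_zero, am_one]; exact s.vcomm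
    | succ m ih =>
      have a := am_le_cent β ih
      rw [← am_mul] at a
      have b := am_le_cent β (s.claim2 hT (β := β⁻¹) (fun e => h1 (am_inv_le e)) h1 a)
      rwa [am_am_inv, ← am_mul, ← pow_succ', ← pow_succ'] at b
  obtain ⟨m, rfl⟩ := hn
  have := k (m + 1)
  rw [show 2 * (m + 1) = 2 * m + 1 + 1 by ring, pow_succ, h, one_mul] at this
  exact h1 this

end Full

end St

end Cfsg.Agent.PU69
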