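import Cfsg.Agent.H69.PU1
import Cfsg.Agent.H72.Card

/-! The pushing-up configuration with an elementary abelian kernel: a parity argument. -/

set_option autoImplicit false
set_option linter.unusedSectionVars false

namespace Cfsg.Agent.PU69

open Subgroup Cfsg.Agent.H70 Cfsg.Agent.H92 Cfsg.Agent.H72 Multiplicative
open Cfsg.Agent.H69 (fixA dl fixA_anti fixA_sup card_mul_card_le)
open scoped commutatorElement

variable {P : Type*} [Group P] {Γ : Type*} [Group Γ] {W : Type*} [AddCommGroup W]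
  [DistribMulAction Γ W] {T M B H : Subgroup Γ} {V D X Y : Subgroup P} {ρ : P →* Γ}
  {ι : Multiplicative W →* P}

theorem comm_of_sq {U : Subgroup P} (h : ∀ x ∈ U, x * x = 1) : U ≤ centralizer (U : Set P) :=
  fun x hx y hy => by
    have := h _ (mul_mem hy hx)
    rw [eq_inv_of_mul_eq_one_left this, mul_inv_rev, ← eq_inv_of_mul_eq_one_left (h x hx),
      ← eq_inv_of_mul_eq_one_left (h y hy)]

theorem map_inf_comap' (X : Subgroup P) (C : Subgroup Γ) :
    (X ⊓ C.comap ρ).map ρ = X.map ρ ⊓ C := by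
  ext c
  exact ⟨fun ⟨x, hx, e⟩ => ⟨⟨x, hx.1, e⟩, e ▸ hx.2⟩,
    fun ⟨⟨x, hx, e⟩, h⟩ => ⟨x, ⟨hx, show ρ x ∈ C from e ▸ h⟩, e⟩⟩

variable [Finite P] [Finite Γ] [Finite W]

namespace St

variable (s : St T M V D ρ ι) (hU : ∀ q ∈ ρ.ker, q * q = 1) {β γ : MulAut P}
include s hU

theorem cent_ker : centralizer (ρ.ker : Set P) = ρ.ker :=
  le_antisymm ((cent_anti (s.vcomm.trans s.ker.ge)).trans s.ker.ge) (comm_of_sq hU)

theorem cent_am (β : MulAut P) : centralizer (am β ρ.ker : Set P) = am β ρ.ker := by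
  rw [← am_cent, s.cent_ker hU]

theorem amU_comm (β : MulAut P) :
    (am β ρ.ker).map ρ ≤ centralizer ((am β ρ.ker).map ρ : Set Γ) :=
  map_le_cent_map ρ (s.cent_am hU β).ge

omit hU in
theorem card_le_ker (Z : Subgroup P) : Nat.card V * Nat.card (ρ.ker ⊓ Z : Subgroup P) ≤
    Nat.card ρ.ker * Nat.card (V ⊓ Z : Subgroup P) := by
  have hV : V ≤ ρ.ker := s.vcomm.trans s.ker.ge
  have := card_mul_card_le V (ρ.ker ⊓ Z)
  rw [← inf_assoc, inf_eq_left.2 hV] at this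
  exact this.trans (Nat.mul_le_mul_right _ (card_le_of_le (sup_le hV inf_le_left)))

omit hU in
theorem m1 (hc : X.map ρ ≤ centralizer (X.map ρ : Set Γ)) : Nat.card (X.map ρ) *
    Nat.card (ρ.ker ⊓ centralizer (X : Set P) : Subgroup P) ≤ Nat.card ρ.ker := by
  have h1 := s.card_le_ker (centralizer (X : Set P))
  have h2 := s.ms_le hc
  refine Nat.le_of_mul_le_mul_left ?_ (Nat.card_pos (α := V))
  nlinarith

omit s hU in
theorem card_amU (β : MulAut P) : Nat.card ((am β ρ.ker).map ρ) *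
    Nat.card (ρ.ker ⊓ am β ρ.ker : Subgroup P) = Nat.card ρ.ker := by
  rw [inf_comm, card_map_mul_card_inf, card_am]

theorem offU (β : MulAut P) : ms W ((am β ρ.ker).map ρ) = Nat.card W := by
  have h1 := s.card_le_ker (am β ρ.ker)
  have h2 := card_amU (ρ := ρ) β
  have h3 := s.ms_le (s.amU_comm hU β)
  rw [ms, s.card_fix, ← s.br.card]
  refine le_antisymm h3 (Nat.le_of_mul_le_mul_left ?_ (Nat.card_pos (α := ρ.ker)))
  rw [s.cent_am hU]
  nlinarith

theorem decomp (β : MulAut P) {u : P} (hu : u ∈ ρ.ker) :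
    ∃ w : W, ∃ d ∈ am β ρ.ker, u = ι (ofAdd w) * d := by
  have hV : V ≤ ρ.ker := s.vcomm.trans s.ker.ge
  have h2 := card_amU (ρ := ρ) β
  have h3 := s.ms_le (s.amU_comm hU β)
  rw [s.cent_am hU] at h3
  obtain ⟨v, hv, d, hd, rfl⟩ := exists_mul_of_card_le (Y := ρ.ker ⊓ am β ρ.ker) hV inf_le_left
    (by rw [← inf_assoc, inf_eq_left.2 hV]; nlinarith) hu
  obtain ⟨w, rfl⟩ := s.br.ex hv
  exact ⟨w, d, hd.2, rfl⟩

theorem amU_le_J (β : MulAut P) : (am β ρ.ker).map ρ ≤ sSup (ats W 2 T) :=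
  le_J s.ff (s.map_le _) (s.amU_comm hU β) (s.offU hU β).ge

omit hU in
theorem comm_of_le_J {C : Subgroup Γ} (h : C ≤ sSup (ats W 2 T)) : C ≤ centralizer (C : Set Γ) :=
  h.trans ((sSup_comm s.ff).trans (cent_anti h))

theorem off_inf (β γ : MulAut P) :
    ms W ((am β ρ.ker).map ρ ⊓ (am γ ρ.ker).map ρ) = Nat.card W :=
  (ms_sup_inf (s.offU hU β) (s.offU hU γ)
    (s.ff.ms_le (s.ff.syl.pgroup.to_le (sup_le (s.map_le _) (s.map_le _)))
      (s.comm_of_le_J (sup_le (s.amU_le_J hU β) (s.amU_le_J hU γ))))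
    (s.ff.ms_le (s.ff.syl.pgroup.to_le (inf_le_left.trans (s.map_le _)))
      (s.comm_of_le_J (inf_le_left.trans (s.amU_le_J hU β))))).2.1

theorem dist (β γ : MulAut P) : Nat.card (am β ρ.ker ⊓ am γ ρ.ker : Subgroup P) *
    (Nat.card ((am β ρ.ker).map ρ) * Nat.card ((am γ ρ.ker).map ρ)) = Nat.card ρ.ker *
      Nat.card ((am β ρ.ker).map ρ ⊓ (am γ ρ.ker).map ρ : Subgroup Γ) ^ 2 := by
  have cX := s.cent_am hU β
  have cY := s.cent_am hU γ
  have jX := s.amU_le_J hU β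
  have jY := s.amU_le_J hU γ
  have nX := card_amU (ρ := ρ) β
  have nY := card_amU (ρ := ρ) γ
  have o := s.off_inf hU β γ
  have dc := fun u => s.decomp hU β (u := u)
  have sX := fun x => am_sq β hU (x := x)
  have sY := fun x => am_sq γ hU (x := x)
  generalize am β ρ.ker = X at *
  generalize am γ ρ.ker = Y at *
  have cU := comm_of_sq hU
  have eX := map_inf_comap' (ρ := ρ) X (Y.map ρ)
  have eY := (map_inf_comap' (ρ := ρ) Y (X.map ρ)).trans (inf_comm _ _)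
  have jC := inf_le_left.trans jX (a := X.map ρ ⊓ Y.map ρ)
  have sw : ∀ {A A' : Subgroup P}, centralizer (A : Set P) = A → ρ.ker ⊓ A ≤
      centralizer ((A' ⊓ (A.map ρ).comap ρ : Subgroup P) : Set P) := fun {A A'} hA =>
    cent_comm.1 (inf_le_right.trans ((comap_map_eq ρ A).le.trans (sup_le
      (hA.ge.trans (cent_anti inf_le_right)) (cU.trans (cent_anti inf_le_left)))))
  have a1 := s.m1 (X := X ⊔ Y) (by rw [Subgroup.map_sup]; exact s.comm_of_le_J (sup_le jX jY))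
  rw [Subgroup.map_sup, cent_sup, cX, cY] at a1
  have a2 := H21.card_sup_mul_card_inf (X := X.map ρ) (Y := Y.map ρ)
    (norm_of_cent (jY.trans ((sSup_comm s.ff).trans (cent_anti jX))))
  have a3 := s.m1 (X := X ⊓ (Y.map ρ).comap ρ) (by rw [eX]; exact s.comm_of_le_J jC)
  rw [eX] at a3
  have l1 : ρ.ker ⊓ X ≤ ρ.ker ⊓ centralizer ((X ⊓ (Y.map ρ).comap ρ : Subgroup P) : Set P) :=
    inf_le_inf_left _ (cX.ge.trans (cent_anti inf_le_left))
  have l2 := le_inf inf_le_left (sw (A' := X) cY)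
  have a4 := (card_mul_card_le (ρ.ker ⊓ X) (ρ.ker ⊓ Y)).trans
    (Nat.mul_le_mul_right _ (card_le_of_le (sup_le l1 l2)))
  rw [← inf_inf_distrib_left] at a4
  have key : X ⊓ (Y.map ρ).comap ρ ≤ centralizer ((Y ⊓ (X.map ρ).comap ρ : Subgroup P) : Set P) := by
    refine cent_of_ats (W := W) (by
      rw [eX]; exact le_ats s.ff (inf_le_left.trans (s.map_le _)) (s.comm_of_le_J jC) o.ge)
      ((le_inf inf_le_right (inf_le_left.trans inf_le_left)).trans (sw cX)) fun B hB => ?_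
    rw [eX] at hB
    obtain ⟨H, a⟩ := exists_at s.ff ⟨hB.1, hB.2.trans (inf_le_left.trans (s.map_le _))⟩
    refine s.lemT a (eY ▸ hB.2) (eY ▸ jC) fun y hy => ?_
    obtain ⟨x, hx, e⟩ := hy.2
    obtain ⟨w, d, hd, e'⟩ := dc (y * x⁻¹) (by
      rw [MonoidHom.mem_ker, map_mul, map_inv, e, mul_inv_cancel])
    have e2 : y = ι (ofAdd w) * (d * x) := by rw [← mul_assoc, ← e', inv_mul_cancel_right]
    refine ⟨w, d * x, cent_anti inf_le_left (cX.ge (mul_mem hd hx)), e2, ?_⟩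
    have y2 := sY y hy.1
    have d2 := eq_inv_of_mul_eq_one_left (sX _ (mul_mem hd hx))
    have v2 := eq_inv_of_mul_eq_one_left (s.vsq (s.br.mem w))
    rw [e2, map_mul, s.rho_iota, one_mul]
    refine s.dl_mem a ?_
    rw [e2] at y2
    rw [commutatorElement_def, ← d2, ← v2, mul_assoc, mul_assoc, ← mul_assoc (ι _),
      mul_eq_one_comm.1 (by rw [← y2]; group)]
    exact one_mem D
  have p1 := Nat.card_pos (α := (X.map ρ ⊓ Y.map ρ : Subgroup Γ))
  have p2 := Nat.card_pos (α := ρ.ker)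
  have p3 := Nat.mul_pos (Nat.card_pos (α := X.map ρ)) (Nat.card_pos (α := Y.map ρ))
  have b1 : Nat.card (ρ.ker ⊓ (X ⊓ Y) : Subgroup P) * (Nat.card (X.map ρ) * Nat.card (Y.map ρ)) ≤
      Nat.card ρ.ker * Nat.card (X.map ρ ⊓ Y.map ρ : Subgroup Γ) := by rw [← a2]; nlinarith
  have b0 : Nat.card (ρ.ker ⊓ X : Subgroup P) * Nat.card (ρ.ker ⊓ Y : Subgroup P) *
      (Nat.card (X.map ρ) * Nat.card (Y.map ρ)) = Nat.card ρ.ker * Nat.card ρ.ker := by
    conv_rhs => rw [← nX]; arg 2; rw [nX, ← nY]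
    ring
  have b2 := b1.antisymm (Nat.le_of_mul_le_mul_left (by
    have := Nat.mul_le_mul_right (Nat.card (X.map ρ) * Nat.card (Y.map ρ)) a4
    rw [b0] at this
    have := Nat.mul_le_mul_right (Nat.card (X.map ρ ⊓ Y.map ρ : Subgroup Γ)) this
    have := Nat.mul_le_mul_right (Nat.card (ρ.ker ⊓ (X ⊓ Y) : Subgroup P) *
      (Nat.card (X.map ρ) * Nat.card (Y.map ρ))) a3
    nlinarith) p2)
  have b3 : (X ⊓ Y).map ρ = X.map ρ ⊓ Y.map ρ := by
    refine le_antisymm (map_inf_le _ _ _) fun c hc => ?_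
    obtain ⟨x, hx, e⟩ := eX.ge hc
    obtain ⟨y, hy, e'⟩ := eY.ge hc
    obtain ⟨a, ha, b, hb, e2⟩ := exists_mul_of_card_le l1 l2 (z := x⁻¹ * y) (by
      rw [← inf_inf_distrib_left]
      refine Nat.le_of_mul_le_mul_right ?_ (Nat.mul_pos p3 p1)
      have := Nat.mul_le_mul a3 b1
      nlinarith) (mem_inf.2 ⟨by rw [MonoidHom.mem_ker, map_mul, map_inv, e, e', inv_mul_cancel],
        mul_mem (inv_mem (cent_anti inf_le_left (cX.ge hx.1))) (cent_comm.1 key hy)⟩)
    refine ⟨x * a, ⟨mul_mem hx.1 ha.2, ?_⟩, by rw [map_mul, e, ha.1, mul_one]⟩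
    rw [show x * a = y * b⁻¹ by rw [eq_mul_inv_iff_mul_eq, mul_assoc, e2, mul_inv_cancel_left]]
    exact Y.mul_mem hy.1 (Y.inv_mem hb.2)
  rw [← card_map_mul_card_inf ρ (X ⊓ Y), b3, inf_comm (X ⊓ Y), mul_assoc, b2]
  ring

/-- A group of automorphisms in which the stabiliser of the kernel has odd index fixes it. -/
theorem ker_fixed {A : Type*} [Group A] [Finite A] (φ : A →* MulAut P) (N : Subgroup A)
    (h1 : ¬ 2 ∣ N.index) (h2 : ∀ n ∈ N, am (φ n) ρ.ker = ρ.ker)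
    (h3 : ∀ t ∈ T, ∃ τ : A, ∀ x, ρ (φ τ x) = t * ρ x * t⁻¹) (g : A) :
    am (φ g) ρ.ker = ρ.ker := by
  classical
  have := Fintype.ofFinite A
  obtain ⟨q, q1, hq⟩ := exists_q s.ff
  let I : A → Set (Subgroup Γ) := fun g => ats W 2 ((am (φ g) ρ.ker).map ρ)
  have c1 := fun g => gen s.ff hq (s.map_le _) (s.amU_comm hU (φ g)) (s.offU hU _).ge
  have c2 := fun g h => (gen s.ff hq (inf_le_left.trans (s.map_le _))
    (s.comm_of_le_J (inf_le_left.trans (s.amU_le_J hU _))) (s.off_inf hU (φ g) (φ h)).ge).2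
  have c3 : ∀ h, (I g).ncard + (I h).ncard = 2 * (I g ∩ I h).ncard + (I (g⁻¹ * h)).ncard := by
    intro h
    have d1 := s.dist hU (φ g) (φ h)
    have d2 := card_amU (ρ := ρ) (φ (g⁻¹ * h))
    rw [← card_am (φ g) (_ ⊓ _), am_inf, ← am_mul, ← map_mul, mul_inv_cancel_left, (c1 _).2] at d2
    rw [mul_comm] at d2
    rw [c2, (c1 _).2, (c1 _).2, ← d2, ats_inf, mul_assoc, ← pow_add, ← pow_mul, ← pow_add] at d1
    have := Nat.pow_right_injective q1 (Nat.eq_of_mul_eq_mul_left Nat.card_pos d1)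
    change (I g).ncard + (I h).ncard = (I (g⁻¹ * h)).ncard + (I g ∩ I h).ncard * 2 at this
    omega
  suffices I g = ∅ by
    refine eq_of_le_of_card_ge ((Subgroup.map_eq_bot_iff _).1 (le_bot_iff.1 ((c1 g).1.trans ?_)))
      (card_am _ _).ge
    exact (congrArg sSup this).trans_le sSup_empty.le
  by_contra e
  obtain ⟨B, hB⟩ := Set.nonempty_iff_ne_empty.2 e
  have c4 : ∀ C ∈ (Set.toFinite (I g)).toFinset, (Finset.univ.filter fun h => C ∈ I h).card =
      (Finset.univ.filter fun h => B ∈ I h).card := fun C hC => by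
    rw [Set.Finite.mem_toFinset] at hC
    obtain ⟨t, ht, rfl⟩ := exists_cj_eq s.ff ⟨hB.1, hB.2.trans (s.map_le _)⟩
      ⟨hC.1, hC.2.trans (s.map_le _)⟩
    obtain ⟨τ, hτ⟩ := h3 t ht
    refine (Finset.card_equiv (Equiv.mulLeft τ) fun h => ?_).symm
    have : (am (φ (τ * h)) ρ.ker).map ρ = H70.cj t ((am (φ h) ρ.ker).map ρ) := by
      rw [map_mul, am_mul, am, map_map, H70.cj, map_map]
      exact congrArg (Subgroup.map · _) (MonoidHom.ext hτ)
    simp only [Finset.mem_filter, Finset.mem_univ, true_and, Equiv.coe_mulLeft, I, ats, this,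
      Set.mem_ofPred_eq, H70.cj_le_cj_iff, hB.1, hC.1]
  have c5 : ∑ h, (I g ∩ I h).ncard =
      (I g).ncard * (Finset.univ.filter fun h => B ∈ I h).card := by
    rw [Set.ncard_eq_toFinset_card (I g), ← smul_eq_mul, ← Finset.sum_const,
      ← Finset.sum_congr rfl c4]
    simp only [Finset.card_filter]
    rw [Finset.sum_comm]
    refine Finset.sum_congr rfl fun h _ => ?_
    rw [← Finset.card_filter, Set.ncard_eq_toFinset_card _ (Set.toFinite _)]
    congr 1; ext; simp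
  have c6 := Finset.sum_congr rfl fun h (_ : h ∈ Finset.univ) => c3 h
  have c0 : ∑ h, (I (g⁻¹ * h)).ncard = ∑ h, (I h).ncard :=
    Equiv.sum_comp (Equiv.mulLeft g⁻¹) fun h => (I h).ncard
  rw [Finset.sum_add_distrib, Finset.sum_add_distrib, ← Finset.mul_sum, c5, c0, Finset.sum_const, Finset.card_univ,
    smul_eq_mul, add_left_inj, mul_comm, mul_left_comm] at c6
  have c7 := Nat.eq_of_mul_eq_mul_left ((Set.ncard_pos (Set.toFinite _)).2 ⟨B, hB⟩) c6
  have c8 : {h | B ∈ I h} = QuotientGroup.mk ⁻¹' (QuotientGroup.mk (s := N) '' {h | B ∈ I h}) := by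
    refine Set.Subset.antisymm (Set.subset_preimage_image _ _) ?_
    rintro h ⟨k, hk, e⟩
    have := h2 _ (QuotientGroup.eq.1 e)
    rw [← mul_inv_cancel_left k h]
    simp only [I, Set.mem_ofPred_eq] at hk ⊢
    rwa [map_mul φ k, am_mul, this]
  have c9 := QuotientGroup.card_preimage_mk N (QuotientGroup.mk '' {h | B ∈ I h})
  rw [← c8, Nat.card_eq_fintype_card, Fintype.card_subtype] at c9
  rw [← Nat.card_eq_fintype_card, ← N.card_mul_index] at c7
  exact h1 ⟨_, Nat.eq_of_mul_eq_mul_left (Nat.card_pos (α := N))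
    (c7.trans ((congrArg (2 * ·) c9).trans (mul_left_comm _ _ _)))⟩

end St

end Cfsg.Agent.PU69
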