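import Cfsg.Agent.H69.PU1
import Cfsg.Agent.H69.Chr
import Cfsg.Agent.H72.Exc
import Cfsg.Agent.H61.FFMove
import Cfsg.Agent.S2979

/-! Pushing up a `2`-minimal group over a normal subgroup `R` of a Sylow subgroup. -/

set_option autoImplicit false
set_option linter.unusedSectionVars false

namespace Cfsg.Agent.PU69

open Subgroup Cfsg.Agent.H70 Cfsg.Agent.H92 Cfsg.Agent.H72 Multiplicative
open Cfsg.Agent.H69 (fixA dl fixA_anti)
open scoped commutatorElement

theorem char_comap {A B : Type*} [Group A] [Group B] (e : A ≃* B) {C : Subgroup B}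
    (h : C.Characteristic) : (C.comap e.toMonoidHom).Characteristic :=
  characteristic_iff_le_comap.2 fun φ x hx => by
    simpa using characteristic_iff_le_comap.1 h ((e.symm.trans φ).trans e) hx

variable {G : Type*} [Group G]

theorem norm_of_char {C R : Subgroup G} (h1 : C ≤ R) (h : (C.subgroupOf R).Characteristic) :
    normalizer (R : Set G) ≤ normalizer (C : Set G) := le_norm_iff_cj.2 fun g hg =>
  H70.cj_le_iff.2 fun x hx =>
    characteristic_iff_le_comap.1 h (R.normalizerMonoidHom ⟨g, hg⟩) (x := ⟨x, h1 hx⟩) hx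

/-- The hypotheses of the pushing-up problem. -/
structure Hyp (T M R : Subgroup G) : Prop where
  ch : IsChar 2 (⊤ : Subgroup G)
  syl : SylIn 2 T ⊤
  min : MinOver T ⊤ M
  le : R ≤ T
  norm : T ≤ normalizer (R : Set G)
  rs : SylIn 2 R (pResidualOf 2 ⊤ ⊔ R)
  ne : R ≠ ⊥
  nc : ∀ C ≤ R, C ≠ ⊥ → (C.subgroupOf R).Characteristic → ¬ ⊤ ≤ normalizer (C : Set G)

variable [Finite G] {T M R : Subgroup G}

namespace Hyp

variable (h : Hyp T M R)
include h

theorem normL : ⊤ ≤ normalizer ((pResidualOf 2 ⊤ ⊔ R : Subgroup G) : Set G) :=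
  (pRes_sup_sylIn h.syl).ge.trans (sup_le (norm_of_le le_sup_left)
    (norm_sup (le_top.trans (le_norm_pRes _)) h.norm))

theorem core_eq : pCoreOf 2 (pResidualOf 2 ⊤ ⊔ R) = pCore 2 G ⊓ R := by
  have a := pCoreOf_eq_inf_of_norm (p := 2) le_top h.normL
  rw [H70.pCoreOf_top] at a
  exact le_antisymm (le_inf (a.le.trans inf_le_left) (pCoreOf_le_sylIn h.rs))
    ((inf_le_inf_left _ le_sup_right).trans a.ge)

theorem normQ : ⊤ ≤ normalizer ((pCore 2 G ⊓ R : Subgroup G) : Set G) :=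
  h.core_eq ▸ norm_pCoreOf h.normL

theorem normV : ⊤ ≤ normalizer ((oz 2 (pCore 2 G) ⊓ R : Subgroup G) : Set G) := by
  have := norm_inf (norm_oz (p := 2) (norm_of_normal (A := pCore 2 G))) h.normQ
  rwa [← inf_assoc, inf_eq_left.2 (oz_le _)] at this

theorem commO : ⁅pCore 2 G, pResidualOf 2 ⊤⁆ ≤ pCore 2 G ⊓ R := by
  rw [← h.core_eq, pCoreOf_eq_inf_of_norm le_top h.normL, H70.pCoreOf_top]
  exact le_inf (commutator_le_left_of_norm norm_of_normal)
    ((commutator_le_right_of_norm (le_top.trans (le_norm_pRes _))).trans le_sup_left)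

theorem not_le : ¬ pResidualOf 2 ⊤ ≤ M := fun e =>
  h.min.lt.not_ge ((pRes_sup_sylIn h.syl).ge.trans (sup_le e h.min.le))

theorem core_le : pCore 2 G ≤ T := H70.pCoreOf_top.ge.trans (pCoreOf_le_sylIn h.syl)

theorem exists_blk : ∃ B E : Subgroup G, ¬ E ≤ M ∧ Blk 2 B E ∧
    ⁅pCore 2 G ⊓ R, E⁆ ≤ pCoreOf 2 E ∧ pCoreOf 2 E ≤ pCore 2 G ⊓ R := by
  have c := h.ch.of_norm le_top h.normL
  have e0 := h.core_eq
  have k := h.not_le
  have l1 : pResidualOf 2 ⊤ ≤ pResidualOf 2 ⊤ ⊔ R := le_sup_left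
  have rs := h.rs
  generalize pResidualOf 2 ⊤ ⊔ R = L at *
  have c1 : cStarOf 2 (R.subgroupOf L) ≤ M.subgroupOf L := by
    refine (H69.Chr.cStar_le (H70.isPGroup_subgroupOf rs.pgroup) fun e => h.ne (by
      rw [← map_subtype_subgroupOf rs.le, e, Subgroup.map_bot])).trans (iSup_le fun C => ?_)
    obtain ⟨C, c1, c2, c3⟩ := C
    have a : C.map L.subtype ≤ R := map_subtype_le_iff.2 c1
    have b : ((C.map L.subtype).subgroupOf R).Characteristic := by
      convert char_comap (subgroupOfEquivOfLe rs.le).symm c3 using 1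
      ext x
      exact ⟨fun ⟨y, hy, e⟩ => by
        obtain rfl : y = ⟨x, rs.le x.2⟩ := Subtype.ext e
        exact hy, fun hx => ⟨_, hx, rfl⟩⟩
    rw [← map_subtype_le_iff, map_subtype_normalizer]
    exact inf_le_right.trans (h.min.uniq _ (h.norm.trans (norm_of_char a b)) (lt_top_iff_ne_top.2
      fun e => h.nc _ a (fun e => c2 (map_subtype_eq_bot_iff.1 e)) b e.ge))
  have c2 : ¬ ⊤ ≤ M.subgroupOf L := fun e => k fun x hx => e (mem_top (⟨x, l1 hx⟩ : L))
  obtain ⟨𝓑, b1, -, -, b4, -⟩ := S2979.result (isChar_iff.1 c) rs.toSylow fun e => c2 (e.ge.trans c1)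
  have : ∃ E ∈ 𝓑, ¬ E ≤ M.subgroupOf L := by
    by_contra! e
    exact c2 (b4.ge.trans (sup_le c1 (sSup_le e)))
  obtain ⟨E, hE, e⟩ := this
  have c' := isChar_top_iff.2 (isChar_iff.1 c)
  have k1 := (blk_iff.1 (b1 E hE)).1
  refine ⟨_, E.map L.subtype, fun e' => e (map_subtype_le_iff.1 e'),
    (blk_map L.subtype_injective).2 k1, ?_, ?_⟩
  · rw [← e0, ← map_subtype_pCoreOf, pCoreOf, ← map_commutator]
    exact map_mono (k1.comm_core_le (sylIn_top _))
  · rw [← e0, ← map_subtype_pCoreOf, ← H69.Chr.wb_eq k1]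
    exact map_mono ((wb_le_V0 c' (sylIn_top _) (b1 E hE)).trans (oz_le _))

theorem commV : ⁅pCore 2 G, pResidualOf 2 ⊤⁆ ≤ oz 2 (pCore 2 G) ⊓ R := by
  obtain ⟨B, E, e1, b, e2, e3⟩ := h.exists_blk
  obtain ⟨N, _, S, π, ψ, m⟩ := b.exists_bm
  have w := H69.Chr.wb_eq b
  have pO := H70.pCore_isPGroup (p := 2) (G := G)
  have a0 : E ≤ pResidualOf 2 ⊤ := b.res ▸ pRes_mono le_top
  have a1 : pCore 2 G ≤ normalizer (E : Set G) := norm_of_commutator_le (by
    rw [commutator_comm, ← comm_comm_eq_of_pRes_eq b.res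
      (pO.to_le (commutator_le_left_of_norm norm_of_normal)) norm_of_normal]
    exact (commutator_mono ((commutator_mono le_rfl a0).trans h.commO) le_rfl).trans
      (e2.trans (H70.pCoreOf_le _)))
  have a2 := (m.irr ⁅Wb 2 E, pCore 2 G⁆ ((commutator_le_left_of_norm (norm_wb a1)).trans wb_le_oz)
    (norm_commutator (norm_wb le_normalizer) norm_of_normal)).resolve_right fun e =>
      m.ne ((eq_bot_of_le_comm wb_pg pO (norm_wb a1) e).le.trans bot_le)
  have a3 : Wb 2 E ≤ oz 2 (pCore 2 G) ⊓ R := le_inf (le_oz wb_elem (w.le.trans (e3.trans inf_le_left))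
    (cent_comm.1 (m.cw a1 (by rwa [commutator_comm])))) (w.le.trans (e3.trans inf_le_right))
  have a4 := comm_ncl_le h.normQ h.normV (le_top.trans h.normV)
    ((commutator_comm _ _).le.trans (e2.trans (w.ge.trans a3)))
  have a5 := (h.min.pRes_le_or h.syl.pgroup le_top (le_norm_ncl E ⊤)).resolve_right
    fun e => e1 ((le_ncl _ _).trans e)
  rw [← comm_pRes_pRes pO norm_of_normal, commutator_comm]
  exact (commutator_mono a5 h.commO).trans a4

theorem cent_eq : centralizer ((oz 2 (pCore 2 G) ⊓ R : Subgroup G) : Set G) = pCore 2 G := by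
  refine le_antisymm (H70.le_pCore (normal_of_top_le_norm (norm_centralizer h.normV))
    (isPGroup_of_pRes_le ?_ H70.pCore_isPGroup)) ((le_cent_oz _).trans (cent_anti inf_le_left))
  have := pRes_le_cent_of_step (IsElementaryAbelian_isPGroup (oz_isElem _)).to_inf_left
    ((commutator_mono le_rfl (inf_le_left (b := centralizer _))).trans h.commV) inf_le_right
  rw [pRes_eq_of_le inf_le_right (le_inf (pRes_mono le_top) (pRes_le _))] at this
  have c := h.ch
  rw [IsChar, H70.pCoreOf_top, top_inf_eq] at c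
  exact this.trans c

theorem inf_cent_le {U : Subgroup G} (h1 : U ≤ pCore 2 G) (h2 : ⊤ ≤ normalizer (U : Set G))
    (h3 : ¬ pResidualOf 2 ⊤ ≤ centralizer (U : Set G)) :
    T ⊓ centralizer ((U ⊓ (oz 2 (pCore 2 G) ⊓ R) : Subgroup G) : Set G) ≤ pCore 2 G := by
  have a := norm_centralizer (norm_inf h2 h.normV)
  refine MinOver_inf_le_pCore h.syl h.min ((h.min.pRes_le_or h.syl.pgroup le_top a).resolve_left
    fun e => h3 ?_) a
  rw [← pRes_pRes]
  exact pRes_le_cent_of_step (H70.pCore_isPGroup.to_le h1).to_inf_left (le_inf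
    (commutator_le_left_of_norm (le_top.trans h2)) ((commutator_mono h1 le_rfl).trans h.commV)) e

end Hyp

theorem Hyp.exists_ff.{u} {G : Type u} [Group G] [Finite G] {T M R : Subgroup G} (h : Hyp T M R) :
    ∃ (Γ : Type u) (_ : Group Γ) (_ : Finite Γ) (W : Type u) (_ : AddCommGroup W) (_ : Finite W)
      (_ : DistribMulAction Γ W) (π : G →* Γ) (ι : Multiplicative W →* G), Function.Surjective π ∧
      FF W 2 (T.map π) (M.map π) ∧ Br (oz 2 (pCore 2 G) ⊓ R) (MonoidHom.id G) π ι := by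
  have hV : IsElementaryAbelian 2 (oz 2 (pCore 2 G) ⊓ R) := IsElem_of_le (oz_isElem _) inf_le_left
  obtain ⟨Γ, _, _, W, _, _, _, π, ι, hπ, hp, hf, b⟩ := exists_br_quot hV h.normV
  have k := (b.ker_eq hf).trans h.cent_eq
  have a1 : π.ker ≤ M := k.le.trans (h.core_le.trans h.min.le)
  have a2 : SylIn 2 (T.map π) ⊤ := map_top_of_surjective π hπ ▸ h.syl.map π
  have a3 := minOver_map_surj h.min π hπ a1
  have a4 := pCoreOf_top_eq_bot_of_minOver h.syl h.min π hπ a1 k.ge
  have : ∃ X ∈ H21.maxEAOf 2 R, ¬ X ≤ π.ker := by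
    by_contra! e
    have j := jt_eq_of_le (le_inf ((jt_le_iff.2 e).trans k.le) jt_le) inf_le_right
    refine h.nc (Jt 2 R) jt_le (fun e => oz_ne_bot h.rs.pgroup h.ne (le_bot_iff.1
      ((oz_le_ozJ.trans (oz_le _)).trans e.le))) ?_ (j ▸ norm_jt h.normQ)
    rw [thompsonSubgroupOf, subgroupOf_map_subtype']
    infer_instance
  obtain ⟨X, hX, e⟩ := this
  have a5 := H61.not_fix_le hp hf a2 a3 a4 ((IsElementaryAbelian_isPGroup hX.2.1).map π)
    (map_le_cent_map π (IsElem_le_cent hX.2.1)) (fun e' => e ((Subgroup.map_eq_bot_iff _).1 e'))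
    (b.card_le_ms hf hV inf_le_right hX)
  exact ⟨Γ, _, inferInstance, W, _, inferInstance, _, π, ι, hπ, ⟨hp, hf, a2, a3, a4, fun g hg =>
    a3.uniq _ (le_fixing.2 le_rfl) (lt_top_iff_ne_top.2 fun e' => a5 (le_fixing.1 e'.ge))
      ((mem_fixingSubgroup_iff _).2 hg)⟩, b⟩

variable {Γ : Type*} [Group Γ] [Finite Γ] {W : Type*} [AddCommGroup W] [Finite W]
  [DistribMulAction Γ W] {π : G →* Γ} {ι : Multiplicative W →* G} {P : Type*} [Group P] [Finite P]
  {j : P →* G}

theorem Hyp.exists_st (h : Hyp T M R) (hπ : Function.Surjective π)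
    (f : FF W 2 (T.map π) (M.map π)) (b : Br (oz 2 (pCore 2 G) ⊓ R) (MonoidHom.id G) π ι)
    (hj : Function.Injective j) (hr : j.range = R) : ∃ ι' : Multiplicative W →* P,
      St (T.map π) (M.map π) ((oz 2 (pCore 2 G) ⊓ R).comap j)
        ((centralizer ((pResidualOf 2 ⊤ : Subgroup G) : Set G)).comap j) (π.comp j) ι' := by
  have k := (b.ker_eq f.faith).trans h.cent_eq
  have a : ∀ w, ι w ∈ j.range := fun w => hr.ge (b.mem w.toAdd).2
  let ι' := (MonoidHom.ofInjective hj).symm.toMonoidHom.comp (ι.codRestrict _ a)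
  have e : ∀ w, j (ι' w) = ι w := fun w => MonoidHom.apply_ofInjective_symm hj _
  refine ⟨ι', f, ⟨fun x y e' => b.inj (by rw [← e, e', e]), le_antisymm ?_ fun x hx => ?_,
    fun x w => hj ?_⟩, fun x => mem_map_of_mem π (h.le (hr.le ⟨x, rfl⟩)), fun q hq y hy => ?_,
    fun w hw => ?_⟩
  · rintro _ ⟨w, rfl⟩
    rw [mem_comap, e]; exact b.mem w.toAdd
  · obtain ⟨w, hw⟩ := b.ex hx
    exact ⟨_, hj ((e _).trans hw)⟩
  · rw [e, map_mul, map_mul, map_inv, e]; exact b.eqv _ w
  · have q1 : j q ∈ pCore 2 G := k.le hq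
    have c := h.commV (commutator_mem_commutator q1 hy)
    have c1 := h.cent_eq.ge q1 _ c
    have c2 := (oz_isElem _).2 _ c.1
    rw [map_mul]
    generalize j q = x at *
    rw [eq_comm, ← commutatorElement_eq_one_iff_mul_comm, commutatorElement_mul_left_eq_conj_mul,
      ← c1, mul_inv_cancel_right, ← pow_two, c2]
  · have := (b.mem_fix _ w).2 (by rw [Subgroup.map_id, ← e]; exact hw)
    rwa [map_pRes, map_top_of_surjective π hπ] at this

end Cfsg.Agent.PU69
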