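import Cfsg.Agent.H69.PU3

/-! An element of odd order centralising the squares of an automorphic image of `O₂(G) ∩ R`. -/

set_option autoImplicit false
set_option linter.unusedSectionVars false

namespace Cfsg.Agent.PU69

open Subgroup Cfsg.Agent.H70 Cfsg.Agent.H92 Cfsg.Agent.H72 Multiplicative
open Cfsg.Agent.H69 (fixA dl fixA_anti)
open scoped commutatorElement

variable {G : Type*} [Group G] [Finite G] {T M R : Subgroup G} {Γ : Type*} [Group Γ] [Finite Γ]
  {W : Type*} [AddCommGroup W] [Finite W] [DistribMulAction Γ W] {π : G →* Γ}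
  {ι : Multiplicative W →* G} {P : Type*} [Group P] [Finite P] {j : P →* G}

omit [Finite Γ] in
theorem exists_lift (hπ : Function.Surjective π) {x : Γ} (h : x ^ 3 = 1) :
    ∃ l : G, (orderOf l).Coprime 2 ∧ π l = x := by
  obtain ⟨y, rfl⟩ := hπ x
  obtain ⟨k, hk⟩ := exists_pow_coprime (p := 2) y
  refine ⟨(y ^ 2 ^ k) ^ 2 ^ k, Nat.Coprime.coprime_dvd_left (orderOf_pow_dvd _) hk, ?_⟩
  have : 2 ^ k * 2 ^ k % 3 = 1 := by rw [← mul_pow, Nat.pow_mod]; simp
  rw [← pow_mul, map_pow, ← Nat.div_add_mod (2 ^ k * 2 ^ k) 3, this, pow_add, pow_mul, h, one_pow,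
    one_mul, pow_one]

theorem Hyp.exists_odd (h : Hyp T M R) (hπ : Function.Surjective π)
    (b : Br (oz 2 (pCore 2 G) ⊓ R) (MonoidHom.id G) π ι) {V D : Subgroup P}
    {ι' : Multiplicative W →* P} (s : St (T.map π) (M.map π) V D (π.comp j) ι') (β : MulAut P)
    {c : P} (h1 : c ∈ am β V) (h2 : π (j c) ≠ 1) : ∃ l : G,
      (∀ r ∈ am β (π.comp j).ker, j (r * r) * l = l * j (r * r)) ∧ ∀ k, ⁅j c, l⁆ ^ 2 ^ k ≠ 1 := by
  have k := (b.ker_eq s.ff.faith).trans h.cent_eq
  obtain ⟨B, H, a, a1, a2⟩ := exists_at_not s.ff (s.map_le _) (s.am_comm β) (s.off β)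
    (mem_map_of_mem _ h1) h2
  have dec : ∀ X : Subgroup P, X ≤ centralizer (am β V : Set P) → ∀ x ∈ X, ∃ y ∈ B,
      y⁻¹ * π (j x) ∈ relK W (fixA W H) ∧ y⁻¹ * π (j x) ∈ centralizer (H : Set Γ) ∧
        ∀ u ∈ cmA W H, (y⁻¹ * π (j x)) • u = u := fun X hX x hx => by
    have c1 := (map_le_cent_map (π.comp j) hX).trans (cent_anti a1)
    obtain ⟨y, hy, e⟩ := a.exists_mul s.ff (s.map_le X) c1 (mem_map_of_mem _ hx)
    exact ⟨y, hy, e, a.cent (mul_mem (le_normalizer (inv_mem (a.le hy)))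
      (a.norm ⟨s.le x, norm_of_cent c1 (mem_map_of_mem _ hx)⟩)) e⟩
  obtain ⟨y, hy, e1, e2, -⟩ := dec _ (am_le_cent β s.vcomm) c h1
  obtain ⟨x, hx, x1, x3, xy, -⟩ := a.three s.ff.hV hy fun e => a2 (by
    rwa [e, inv_one, one_mul] at e1)
  obtain ⟨l, ho, rfl⟩ := exists_lift hπ x3
  refine ⟨l, fun r hr => ?_, fun n e => x1 ?_⟩
  · rw [s.ker, am_cent] at hr
    obtain ⟨z, hz, -, e3, e4⟩ := dec _ le_rfl r hr
    obtain ⟨v, hv, rfl⟩ := a1 hz
    have r1 : r * r = v⁻¹ * r * (v⁻¹ * r) := by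
      have := hr v hv
      have v2 := am_sq β (fun _ => s.vsq) hv
      calc r * r = v⁻¹ * (v * r) * r := by group
        _ = v⁻¹ * r * (v * v) * (v⁻¹ * r) := by rw [this]; group
        _ = _ := by rw [v2, mul_one]
    rw [MonoidHom.comp_apply, ← map_inv, ← map_inv, ← map_mul, ← map_mul] at e3 e4
    have pT := s.ff.syl.pgroup.to_le (zpowers_le.2 (s.le (v⁻¹ * r)))
    rw [r1, map_mul]
    rw [MonoidHom.comp_apply] at pT
    generalize j (v⁻¹ * r) = t at *
    have pY : IsPGroup 2 ((zpowers (π t)).comap π) :=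
      pT.comap_of_ker_isPGroup π (k ▸ H70.pCore_isPGroup)
    have z1 : pResidualOf 2 (zpowers l) = zpowers l :=
      le_antisymm (pRes_le _) (zpowers_le.2 (mem_pRes (mem_zpowers l) ho))
    have z2 : (zpowers l).map π ≤ H := by rw [MonoidHom.map_zpowers]; exact zpowers_le.2 hx
    have c1 : ⁅(zpowers (π t)).comap π, zpowers l⁆ ≤ π.ker := by
      rw [← Subgroup.map_eq_bot_iff, map_commutator, comm_eq_bot_iff]
      exact (map_comap_le _ _).trans ((zpowers_le.2 e3).trans (cent_anti z2))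
    have c2 := comm_pRes_pRes pY (norm_of_commutator_le (c1.trans (ker_le_comap π _)))
    have c3 := comm_pRes_pRes (R := zpowers l) (H70.pCore_isPGroup (p := 2)) norm_of_normal
    rw [z1] at c2 c3
    have c4 := c2.ge.trans ((commutator_mono (c1.trans k.le) le_rfl).trans (c3.ge.trans
      (commutator_mono ((commutator_mono le_rfl (z1.ge.trans (pRes_mono le_top))).trans h.commV)
        le_rfl)))
    rw [← b.cmAI] at c4
    obtain ⟨w, hw, e⟩ := mem_toG.1 (c4 (commutator_mem_commutator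
      (mem_comap.2 (mem_zpowers (π t))) (mem_zpowers l)))
    have c5 := (b.smul_eq_iff t w).1 (e4 w (cmA_mono z2 hw))
    have c6 := (oz_isElem _).2 _ (b.mem w).1
    rw [e, MonoidHom.id_apply] at c5
    rw [e] at c6
    rw [← commutatorElement_eq_one_iff_mul_comm, commutatorElement_mul_left_eq_conj_mul, c5,
      mul_inv_cancel_right, ← pow_two, c6]
  · have e3 : π ⁅j c, l⁆ = π l := by
      have := e2 _ hx
      rw [map_commutatorElement, ← mul_inv_cancel_left y (π (j c))]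
      generalize y⁻¹ * π (j c) = t at *
      calc ⁅y * t, π l⁆ = y * (t * π l) * t⁻¹ * y⁻¹ * (π l)⁻¹ := by
            rw [commutatorElement_def]; group
        _ = y * π l * y⁻¹ * (π l)⁻¹ := by rw [← this]; group
        _ = (π l ^ 3)⁻¹ * π l := by rw [xy]; group
        _ = _ := by rw [x3, inv_one, one_mul]
    have := congrArg π e
    rw [map_pow, e3, map_one] at this
    exact mem_bot.1 (mem_of_pow_mem_coprime (Nat.Coprime.pow_left n (by norm_num : Nat.Coprime 2 3))
      this x3)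

end Cfsg.Agent.PU69
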