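import Cfsg.Agent.H69.QdOver

/-!
Pushing up for maximal `p`-local subgroups.
-/

set_option autoImplicit false

namespace Cfsg.Agent.H69

open Subgroup Matrix
open scoped commutatorElement

universe u

variable {H : Type u} [Group H] [Finite H] {p : ℕ} [hp : Fact p.Prime] {F : Type*} [Field F]
  [Fintype F]

theorem push_max (p3 : p ≠ 3) {G : Subgroup H} {S M : Subgroup G}
    (r : RankOne p (Fintype.card F) ⊤ S (pCoreOf p ⊤) M) (hc : CharPOf p (⊤ : Subgroup G))
    (hmax : ∀ R ≤ G, IsPGroup p R → R ≠ ⊥ → G ≤ normalizer (R : Set H) → normalizer (R : Set H) ≤ G)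
    (hN : ¬ normalizer ((S.map G.subtype : Subgroup H) : Set H) ≤ G) :
    (∃ T C, PUG p (Fintype.card F) ⊤ S M T C) ∧ pCoreOf p ⊤ ≤ Zv p (⊤ : Subgroup G) ∧
      (∃ B : Subgroup G, IsElementaryAbelian p B ∧ B ⊔ pCoreOf p ⊤ = S) ∧
      Nat.card (zOf (⊤ : Subgroup G)) ≤ Fintype.card F := by
  have hι := G.subtype_injective
  have r' := r.map hι
  rw [map_pCoreOf hι] at r'
  obtain ⟨A, hA⟩ : ∃ A, A = (⊤ : Subgroup G).map G.subtype := ⟨_, rfl⟩
  have hAG : A = G := by rw [hA, ← MonoidHom.range_eq_map, range_subtype]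
  have h := pu_of_base r' (hc.map hι) fun N h1 h2 h3 => by_contra fun e => hN (h3.trans
    (hmax N (h1.trans (map_subtype_le _)) (r'.syl.isPGroup.to_le h1) e (by rwa [← hA, hAG] at h2)))
  have hm : (⊤ : Subgroup G).map G.subtype ∈ {K | ∃ x, K = cj x ((⊤ : Subgroup G).map G.subtype)} :=
    ⟨1, (cj_one _).symm⟩
  obtain ⟨B, g⟩ := (h.main hm (fun _ ⟨x, e⟩ => ⟨x⁻¹, by rw [e, cj_inv_cj]⟩) r'.syl).resolve_right
    fun e => p3 e.1
  refine ⟨PUG.of_PU hι h hm r hc (g.out h), ?_⟩
  rw [← hA] at g h r'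
  have st : ∀ R ≤ A, IsPGroup p R → A ≤ normalizer (R : Set H) → B ≤ normalizer (R : Set H) →
      R = ⊥ := fun R h1 h2 h3 h4 => by_contra fun e => by
    rw [hAG] at h1 h3
    obtain ⟨x, hx⟩ := g.memB
    have e1 : B = A := eq_of_le_of_card_ge (h4.trans ((hmax R h1 h2 e h3).trans hAG.ge))
      (by rw [hx, card_cj])
    exact g.critA (e1 ▸ inf_le_left)
  have ab : pCoreOf p A ≤ Zv p A := le_inf le_rfl (commutator_eq_bot_iff_le_centralizer.1
    (st ((pCoreOf p A).lowerCentralSeries 1) ((lcs_le _ _).trans (pCoreOf_le _))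
      ((isPGroup_pCoreOf _).to_le (lcs_le _ _))
      ((le_normalizer_pCoreOf _).trans (normalizer_le_normalizer_lcs _ _)) (by
        rw [g.lcs_Q 0, inf_comm, ← g.symm.lcs_Q 0]
        exact (le_normalizer_pCoreOf _).trans (normalizer_le_normalizer_lcs _ _))))
  refine ⟨(map_le_map_inj hι).1 (by rwa [map_Zv hι, map_pCoreOf hι, ← hA]), ?_, ?_⟩
  · obtain ⟨B', hB'⟩ := exists_map_eq (g.symm.ZA)
    refine ⟨B', isElementaryAbelian_iff.2 ⟨fun a ha b hb => hι ?_, fun a ha => hι ?_⟩,
      map_injective hι ?_⟩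
    · rw [map_mul, map_mul]
      exact zOf_comm _ (hB'.le (mem_map_of_mem _ ha)) _ (hB'.le (mem_map_of_mem _ hb))
    · rw [map_pow, map_one]
      exact h.elem g.memB (hB'.le (mem_map_of_mem _ ha))
    · rw [Subgroup.map_sup, hB', map_pCoreOf hι, ← hA, g.supA]
  · rw [← card_map_of_injective hι, map_zOf hι, ← hA]
    have h1 := card_le_mul_inf (Q := zOf B) (h.zOf_G_le g.memA g.sylA)
    rw [st (zOf A ⊓ zOf B) (inf_le_left.trans inf_le_left) (g.sylA.isPGroup.to_le
      (inf_le_left.trans ((h.zOf_G_le g.memA g.sylA).trans inf_le_left)))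
      (le_normalizer_of_le_centralizer (inf_le_left.trans inf_le_right))
      (le_normalizer_of_le_centralizer (inf_le_right.trans inf_le_right)), card_bot, mul_one] at h1
    refine h1.trans (le_of_eq ?_)
    obtain ⟨N⟩ := h.natSec g.memB g.sylB
    obtain ⟨M', rB⟩ := h.r1 _ g.memB _ g.sylB
    have h2 := (N.zcard rB (h.charP _ g.memB)).symm.trans (N.zcardG rB (h.charP _ g.memB))
    rw [mul_assoc] at h2
    have h3 := ((zOf B).subgroupOf (zOf (S.map G.subtype))).card_mul_index
    rw [card_subgroupOf_of_le (h.zOf_G_le g.memB g.sylB),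
      Nat.eq_of_mul_eq_mul_left Fintype.card_pos h2, mul_comm] at h3
    exact Nat.eq_of_mul_eq_mul_right Nat.card_pos h3

/-- A group of order `p r |O_p(G)|` with `r ≠ p` prime and non-normal Sylow subgroup has rank one. -/
theorem rankOne_of_prime {G : Type*} [Group G] [Finite G] (S : Sylow p G) {r : ℕ} (hr : r.Prime)
    (hpr : r ≠ p) (h : (pCore p G).index = p * r) :
    RankOne p p ⊤ (S : Subgroup G) (pCore p G) S := by
  have QS := pCore_le_sylow S
  have h1 := relIndex_mul_index QS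
  have h2 : (pCore p G).relIndex S = p ∧ (S : Subgroup G).index = r := by
    have h3 : p ∣ (pCore p G).relIndex S :=
      ((Nat.Prime.dvd_mul hp.out).1 (h1 ▸ h ▸ dvd_mul_right p r)).resolve_right S.not_dvd_index
    obtain ⟨k, hk⟩ := S.isPGroup'.index ((pCore p G).subgroupOf S)
    change (pCore p G).relIndex S = _ at hk
    rw [hk] at h3 h1 ⊢
    obtain rfl | hk0 := k.eq_zero_or_pos
    · exact absurd (Nat.dvd_one.1 h3) hp.out.ne_one
    obtain ⟨k, rfl⟩ := Nat.exists_eq_add_of_lt hk0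
    rw [h, zero_add, pow_succ', mul_assoc] at h1
    have h4 := Nat.eq_of_mul_eq_mul_left hp.out.pos h1
    obtain rfl | hk0 := k.eq_zero_or_pos
    · simpa using h4
    · exact absurd ((Nat.prime_dvd_prime_iff_eq hp.out hr).1
        (h4 ▸ (dvd_pow_self p hk0.ne').mul_right _)) hpr.symm
  have pr : ∀ {G' : Type _} [Group G'] (A B : Subgroup G') (n : ℕ), n.Prime → A.index = n → A ≤ B →
      B = A ∨ B = ⊤ := fun A B n hn e hle => by
    rcases (Nat.dvd_prime hn).1 (e ▸ index_dvd_of_le hle) with e' | e'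
    · exact Or.inr (index_eq_one.1 e')
    · have := relIndex_mul_index hle
      rw [e, e'] at this
      exact Or.inl (le_antisymm (relIndex_eq_one.1 (Nat.eq_of_mul_eq_mul_right hn.pos
        (this.trans (one_mul n).symm))) hle)
  have ne : ¬ (S : Subgroup G) ≤ pCore p G := fun e => hp.out.ne_one (h2.1 ▸ relIndex_eq_one.2 e)
  have irr : ∀ T : Subgroup G, pCore p G ≤ T → T ≤ S → T = pCore p G ∨ T = S := fun T a b =>
    (pr _ (T.subgroupOf S) p hp.out h2.1 (comap_mono a)).imp (fun e => by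
      rwa [subgroupOf_inj, inf_eq_left.2 b, inf_eq_left.2 QS] at e)
      fun e => le_antisymm b (subgroupOf_eq_top.1 e)
  have nS : normalizer ((S : Subgroup G) : Set G) = S := (pr _ _ r hr h2.2 le_normalizer).resolve_right
    fun e => ne (le_pCore (normalizer_eq_top_iff.1 e) S.isPGroup')
  have cm : ⁅(S : Subgroup G), (S : Subgroup G)⁆ ≤ pCore p G := by
    have := isCyclic_of_prime_card
      (α := ↥(S : Subgroup G) ⧸ (pCore p G).subgroupOf (S : Subgroup G)) h2.1
    refine commutator_le.2 fun a ha b hb => ?_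
    have h3 : QuotientGroup.mk' ((pCore p G).subgroupOf (S : Subgroup G))
        ⁅(⟨a, ha⟩ : (S : Subgroup G)), (⟨b, hb⟩ : (S : Subgroup G))⁆ = 1 := by
      rw [map_commutatorElement, commutatorElement_eq_one_iff_mul_comm]
      exact mul_comm' _ _
    exact mem_subgroupOf.1 ((QuotientGroup.eq_one_iff _).1 h3)
  refine ⟨sylOf_top S, QS, le_normalizer_of_normal, ne, cm, ?_, le_rfl, le_top,
    fun e => hr.ne_one (h2.2 ▸ index_eq_one.2 (top_le_iff.1 e)),
    fun K a _ b => ((pr _ _ r hr h2.2 a).resolve_right fun e => b e.ge).le, fun g _ hg => ?_,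
    fun T a b _ => irr T a b, ?_⟩
  · have := ((pCore p G).subgroupOf S).card_mul_index
    rw [card_subgroupOf_of_le QS] at this
    rw [← this, mul_comm]
    exact congrArg (· * _) h2.1
  · refine ((irr _ (le_inf QS ((cj_eq_of_normal g _).ge.trans (cj_mono QS))) inf_le_left).resolve_right
      fun e => hg (nS.le (cj_eq_self_iff.1 ?_))).le
    exact (eq_of_le_of_card_ge (e.ge.trans inf_le_right) (card_cj _ _).le).symm
  · rw [nS, top_inf_eq]
    exact (commutator_mono cm le_rfl).trans (commutator_le_left _ _)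

end Cfsg.Agent.H69
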