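import Cfsg.Agent.H69.PushChief
import Cfsg.Agent.H85.Action
import Cfsg.Agent.S0051
import Cfsg.Agent.S0055

/-!
The group `Qd(F)` and a recognition theorem.
-/

set_option autoImplicit false

namespace Cfsg.Agent.H69

open Subgroup Matrix
open scoped commutatorElement

universe u

variable {F : Type*} [Field F]

theorem mem_qdOver {M : SpecialLinearGroup (Fin 3) F} :
    M ∈ qdOver F ↔ M.1 2 0 = 0 ∧ M.1 2 1 = 0 ∧ M.1 2 2 = 1 := by
  refine ⟨fun h => ?_, fun h => subset_closure h⟩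
  induction h using closure_induction with
  | mem M h => exact h
  | one => simp
  | mul A B _ _ hA hB =>
    simp [Matrix.mul_apply, Fin.sum_univ_three, hA.1, hA.2.1, hA.2.2,
      hB.1, hB.2.1, hB.2.2]
  | inv A _ hA =>
    have h1 : ∀ j, (A * A⁻¹).1 2 j = (A⁻¹).1 2 j := fun j => by
      change (A.1 * (A⁻¹).1) 2 j = _
      rw [Matrix.mul_apply, Fin.sum_univ_three, hA.1, hA.2.1, hA.2.2]
      simp only [zero_mul, one_mul, zero_add]
    rw [← h1, ← h1, ← h1, mul_inv_cancel]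
    simp

/-- The affine map with linear part `A` and translation part `c`. -/
def qdo (A : SL2 F) (c : Fin 2 → F) : qdOver F :=
  ⟨⟨!![A.1 0 0, A.1 0 1, c 0; A.1 1 0, A.1 1 1, c 1; 0, 0, 1], by
    rw [Matrix.det_fin_three]; simpa using sl2_det A⟩, mem_qdOver.2 (by simp)⟩

theorem qdo_mul (A B : SL2 F) (c d : Fin 2 → F) :
    qdo A c * qdo B d = qdo (A * B) (c + A.1 *ᵥ d) := by
  apply Subtype.ext
  apply Subtype.ext
  change !![_, _, _; _, _, _; 0, 0, 1] * !![_, _, _; _, _, _; 0, 0, 1] = !![_, _, _; _, _, _; 0, 0, 1]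
  simp only [sl2_mul_apply, Pi.add_apply, mulVec_two]
  simp only [Matrix.mul_fin_three]
  congr 1
  simp only [mul_zero, add_zero, mul_one, zero_mul, zero_add, add_comm]

theorem qdo_inj {A B : SL2 F} {c d : Fin 2 → F} : qdo A c = qdo B d ↔ A = B ∧ c = d := by
  refine ⟨fun e => ⟨sl2_ext (congrArg (fun M : qdOver F => M.1.1 0 0) e)
    (congrArg (fun M : qdOver F => M.1.1 0 1) e) (congrArg (fun M : qdOver F => M.1.1 1 0) e)
    (congrArg (fun M : qdOver F => M.1.1 1 1) e), ?_⟩, fun e => by rw [e.1, e.2]⟩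
  ext i
  fin_cases i
  · exact congrArg (fun M : qdOver F => M.1.1 0 2) e
  · exact congrArg (fun M : qdOver F => M.1.1 1 2) e

theorem qdo_one : qdo (1 : SL2 F) 0 = 1 := by
  have := qdo_mul (1 : SL2 F) 1 0 0
  rw [mul_one, mulVec_zero, add_zero] at this
  exact mul_eq_left.1 this

theorem exists_qdo (M : qdOver F) : ∃ A c, M = qdo A c := by
  have hM := mem_qdOver.1 M.2
  have hd := M.1.2
  rw [Matrix.det_fin_three, hM.1, hM.2.1, hM.2.2] at hd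
  refine ⟨⟨!![M.1.1 0 0, M.1.1 0 1; M.1.1 1 0, M.1.1 1 1], by
    rw [Matrix.det_fin_two_of]; simpa using hd⟩, ![M.1.1 0 2, M.1.1 1 2], Subtype.ext (Subtype.ext ?_)⟩
  ext i j
  fin_cases i <;> fin_cases j <;> simp [qdo, hM.1, hM.2.1, hM.2.2]

variable {G : Type u} [Group G] [Finite G] {p q : ℕ} [hp : Fact p.Prime] {S Q M : Subgroup G}

/-- Recognition of `Qd(F) × Z`. -/
theorem exists_qd_split (r : RankOne p q ⊤ S Q M) (N : NatSec F ⊤ S (zOf Q) ⊥) (hK : N.K = Q)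
    (hab : Q ≤ zOf Q) {B : Subgroup G} (hB : IsElementaryAbelian p B) (hs : B ⊔ Q = S)
    (D : SL2 F) (d1 : (zpowers D).Normal) (d2 : (orderOf D).Coprime p)
    (d3 : ∀ x, D.1 *ᵥ x = x → x = 0) : ∃ G₀ : Subgroup G,
      IsInternalDirectProduct G₀ (zOf ⊤) ⊤ ∧ Nonempty (G₀ ≃* qdOver F) := by
  have hQn : Q.Normal := normalizer_eq_top_iff.1 (top_le_iff.1 r.Qn)
  have hQc : IsMulCommutative Q := ⟨⟨fun a b => Subtype.ext ((hab b.2).2 a a.2)⟩⟩
  have hker : ∀ x, N.ρ₀ x = 1 ↔ x ∈ Q := fun x =>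
    (N.mem_K (g := ⟨x, trivial⟩)).symm.trans (SetLike.ext_iff.1 hK x)
  obtain ⟨k, hk⟩ := IsPGroup.iff_card.1 r.isPGroup_Q
  obtain ⟨b1, b2⟩ := isElementaryAbelian_iff.1 hB
  let _ : CommGroup B := { (inferInstance : Group B) with
    mul_comm := fun a b => Subtype.ext (b1 a a.2 b b.2) }
  obtain ⟨B₀, hB₀⟩ := H85.exists_isCompl_of_exponent hp.out
    (fun v : B => Subtype.ext (b2 v v.2)) (Q.subgroupOf B)
  obtain ⟨L, hL⟩ := S0051.result Q S r.QS (by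
      rw [hk, ← relIndex_top_right]
      exact ((Nat.Prime.coprime_iff_not_dvd hp.out).2 r.syl.not_dvd_relIndex).pow_left k)
    (B₀.map B.subtype) ((map_subtype_le _).trans (hs ▸ le_sup_left)) (by
      refine eq_bot_iff.2 ?_
      rintro _ ⟨⟨y, hy, rfl⟩, h2⟩
      have : y ∈ (⊥ : Subgroup B) := hB₀.disjoint.le_bot ⟨h2, hy⟩
      rw [mem_bot.1 this]; exact one_mem _) (by
      refine le_antisymm (sup_le r.QS ((map_subtype_le _).trans (hs ▸ le_sup_left)))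
        (hs ▸ sup_le (fun x hx => ?_) le_sup_left)
      obtain ⟨a, ha, b, hb, e⟩ := mem_sup.1 (hB₀.codisjoint.top_le (mem_top (⟨x, hx⟩ : B)))
      rw [show x = a * b from congrArg Subtype.val e.symm]
      exact mul_mem_sup ha (mem_map_of_mem _ hb))
  have dec : ∀ x : G, ∃ v ∈ Q, ∃ l ∈ L, v * l = x := fun x =>
    let ⟨⟨v, l⟩, e⟩ := hL.2 x; ⟨v, v.2, l, l.2, e⟩
  have dis : ∀ x ∈ Q, x ∈ L → x = 1 := fun x h1 h2 => mem_bot.1 (hL.disjoint.le_bot ⟨h1, h2⟩)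
  have inj : ∀ x ∈ L, ∀ y ∈ L, N.ρ₀ x = N.ρ₀ y → x = y := fun x hx y hy e =>
    mul_inv_eq_one.1 (dis _ ((hker _).1 (by rw [map_mul, map_inv, e, mul_inv_cancel]))
      (L.mul_mem hx (L.inv_mem hy)))
  have srj : ∀ A, ∃ l ∈ L, N.ρ₀ l = A := fun A => by
    obtain ⟨x, rfl⟩ := N.ρ₀_surj A
    obtain ⟨v, hv, l, hl, rfl⟩ := dec x
    exact ⟨l, hl, by rw [map_mul, (hker v).2 hv, one_mul]⟩
  obtain ⟨d, hd, rfl⟩ := srj D
  have nd : L ≤ normalizer (zpowers d : Set G) := le_normalizer_of_cj_le fun l hl => by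
    rw [cj_zpowers, zpowers_le]
    obtain ⟨j, hj⟩ := mem_zpowers_iff.1 (d1.conj_mem _ (mem_zpowers _) (N.ρ₀ l))
    exact mem_zpowers_iff.2 ⟨j, inj _ (L.zpow_mem hd j) _ (L.mul_mem (L.mul_mem hl hd) (L.inv_mem hl))
      (by rw [map_zpow, hj, map_mul, map_mul, map_inv])⟩
  obtain ⟨f1, f2⟩ := S0055.result (zpowers d) Q le_normalizer_of_normal (by
    rw [hk, Nat.card_zpowers]
    exact (d2.coprime_dvd_left (orderOf_dvd_of_pow_eq_one (inj _ (L.pow_mem hd _) _ L.one_mem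
      (by rw [map_pow, pow_orderOf_eq_one, map_one])))).pow_right k)
  have zQ : zOf (⊤ : Subgroup G) ≤ Q := fun z hz => hK.le (N.mem_K_of_comm (g := ⟨z, trivial⟩)
    fun v _ => by
      rw [commutatorElement_eq_one_iff_mul_comm.2 (hz.2 v trivial).symm, addOn_one N.ψ_mul])
  have e1 : Q ⊓ centralizer (zpowers d : Set G) = zOf ⊤ := le_antisymm (fun v hv =>
    ⟨trivial, (N.ker_iff (hab hv.1)).1 (d3 _ (by
      rw [← N.equiv₀ d (hab hv.1), hv.2 d (mem_zpowers d), mul_inv_cancel_right]))⟩)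
    fun z hz => ⟨zQ hz, fun y _ => hz.2 y trivial⟩
  rw [e1] at f1 f2
  have nV : L ≤ normalizer ((⁅Q, zpowers d⁆ : Subgroup G) : Set G) :=
    le_normalizer_commutator le_normalizer_of_normal nd
  have VQ : ⁅Q, zpowers d⁆ ≤ Q := commutator_le_left _ _
  have g1 : (⁅Q, zpowers d⁆ ⊔ L) ⊓ zOf ⊤ = ⊥ := eq_bot_iff.2 fun x hx => by
    obtain ⟨v, hv, l, hl, rfl⟩ := (mem_sup_of_le_normalizer' nV).1 hx.1
    have := dis l (by simpa using Q.mul_mem (Q.inv_mem (VQ hv)) (zQ hx.2)) hl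
    subst this
    exact f1.le ⟨hx.2, by simpa using hv⟩
  have g2 : (⁅Q, zpowers d⁆ ⊔ L) ⊔ zOf ⊤ = ⊤ := top_le_iff.1 fun x _ => by
    obtain ⟨v, hv, l, hl, rfl⟩ := dec x
    exact mul_mem ((f2.ge.trans (sup_le le_sup_right (le_sup_left.trans le_sup_left))) hv)
      (mem_sup_left (mem_sup_right hl))
  refine ⟨_, ⟨le_top, le_top, fun a _ b hb => hb.2 a trivial, g1, g2⟩, ?_⟩
  choose v hv l hl e using dec
  have uq : ∀ x, ∀ a ∈ Q, ∀ b ∈ L, a * b = x → v x = a := fun x a ha b hb e' => by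
    have h1 : a⁻¹ * v x = b * (l x)⁻¹ := by
      rw [inv_mul_eq_iff_eq_mul, ← mul_assoc, e', eq_mul_inv_iff_mul_eq, e]
    have := dis _ (Q.mul_mem (Q.inv_mem ha) (hv x)) (h1 ▸ L.mul_mem hb (L.inv_mem (hl x)))
    exact (inv_mul_eq_one.1 this).symm
  let Φ : G →* qdOver F := MonoidHom.mk' (fun x => qdo (N.ρ₀ x) (N.ψ (v x))) fun x y => by
    have h1 := hQn.conj_mem _ (hv y) (l x)
    rw [qdo_mul, uq (x * y) _ (Q.mul_mem (hv x) h1) _ (L.mul_mem (hl x) (hl y)) (by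
      conv_rhs => rw [← e x, ← e y]
      group), N.ψ_mul _ (hab (hv x)) _ (hab h1), N.equiv₀ _ (hab (hv y)), map_mul]
    conv_rhs => rw [← e x, map_mul, (hker _).2 (hv x), one_mul]
    conv_lhs => rw [← e x, map_mul, (hker _).2 (hv x), one_mul]
    rw [e x]
  have kΦ : ∀ x, Φ x = 1 ↔ x ∈ zOf (⊤ : Subgroup G) := fun x => by
    change qdo _ _ = _ ↔ _
    rw [← qdo_one, qdo_inj]
    refine ⟨fun h => ?_, fun h => ?_⟩
    · have h1 := (hker x).1 h.1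
      rw [uq x x h1 1 L.one_mem (mul_one x)] at h
      exact ⟨trivial, (N.ker_iff (hab h1)).1 h.2⟩
    · rw [uq x x (zQ h) 1 L.one_mem (mul_one x)]
      exact ⟨(hker x).2 (zQ h), (N.ker_iff (hab (zQ h))).2 h.2⟩
  refine ⟨MulEquiv.ofBijective (Φ.comp (Subgroup.subtype _)) ⟨(injective_iff_map_eq_one _).2
    fun x hx => Subtype.ext (mem_bot.1 (g1.le ⟨x.2, (kΦ x).1 hx⟩)), fun y => ?_⟩⟩
  obtain ⟨A, c, rfl⟩ := exists_qdo y
  obtain ⟨b, hb, rfl⟩ := srj A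
  obtain ⟨a, ha, rfl⟩ := N.ψ_surj c
  obtain ⟨x, hx, z, hz, e'⟩ := (mem_sup_of_le_normalizer (le_top.trans (norm_zOf ⊤))).1
    (g2.ge (mem_top (a * b)))
  refine ⟨⟨x, hx⟩, ?_⟩
  change Φ x = _
  rw [← mul_one (Φ x), ← (kΦ z).2 hz, ← map_mul, e']
  change qdo _ _ = _
  rw [uq _ a ha.1 b hb rfl, map_mul, (hker a).2 ha.1, one_mul]

end Cfsg.Agent.H69
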