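import Cfsg.Agent.H69.GN6

/-!
Vertices on which the elements of order prime to `p` of the core of the maximal subgroup control
all noncentral chief factors.
-/

set_option autoImplicit false

namespace Cfsg.Agent.H69

open Subgroup Matrix
open scoped commutatorElement

universe u

theorem eq_one_of_quad {R : Type*} [Ring R] (h2 : ∀ r : R, r + r = 0 → r = 0) (d x : R)
    (hx : x * x = 1) (hd : d * d = 0) (hr : (1 + d) * x * (1 + d) * x * (1 + d) = x) : x = 1 := by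
  have hx' : ∀ w, x * (x * w) = w := fun w => by rw [← mul_assoc, hx, one_mul]
  have hd' : ∀ w, d * (d * w) = 0 := fun w => by rw [← mul_assoc, hd, zero_mul]
  have hi : (1 - d) * (1 + d) = 1 := by rw [sub_mul, one_mul, mul_add, mul_one, hd]; abel
  have hi' : ∀ w, (1 - d) * ((1 + d) * w) = w := fun w => by rw [← mul_assoc, hi, one_mul]
  have hr' : (1 - d) * x * (1 - d) * x * (1 - d) = x := by
    have : (1 - d) * x * (1 - d) * x * (1 - d) * ((1 + d) * x * (1 + d) * x * (1 + d)) * x = x := by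
      simp only [mul_assoc, hi', hx']
    rwa [hr, mul_assoc, mul_assoc, hx, mul_one] at this
  have e1 := congrArg (fun r => d * r * d) hr
  have e2 := congrArg (fun r => d * r * d) hr'
  simp only [mul_add, add_mul, mul_sub, sub_mul, neg_mul, mul_assoc, mul_one, one_mul, hx', hd', hd,
    mul_zero, neg_zero, add_zero, zero_add, sub_zero, zero_sub] at e1 e2
  have e3 : d * (x * d) = 0 := h2 _ (by
    nth_rewrite 1 [← e2]
    rw [e1, neg_add_cancel])
  have e3' : ∀ w, d * (x * (d * w)) = 0 := fun w => by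
    rw [← mul_assoc x, ← mul_assoc, e3, zero_mul]
  have e4 := congrArg (fun r => d * r) hr
  have e5 := congrArg (fun r => r * d) hr
  simp only [mul_add, add_mul, mul_assoc, mul_one, one_mul, hx, hd, e3, e3', mul_zero,
    add_zero] at e4 e5
  simp only [mul_add, add_mul, mul_one, one_mul, hx, hd, ← e4, ← e5, add_zero] at hr
  have e6 : d + d + d = 0 := h2 _ (by
    have := hx
    rw [← hr] at this
    simp only [mul_add, add_mul, mul_one, one_mul, hd, add_zero] at this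
    rw [← add_left_cancel_iff (a := (1 : R)), add_zero]
    nth_rewrite 2 [← this]
    abel)
  rw [← hr, add_assoc, add_assoc, ← add_assoc d, e6, add_zero]

theorem smul_eq_of_quad {Γ A : Type*} [Group Γ] [AddCommGroup A] [DistribMulAction Γ A] {z n : Γ}
    (h0 : ∀ a : A, a + a = 0 → a = 0) (h1 : ∀ a : A, z • n • z • n • z • a = n • a)
    (h2 : ∀ a : A, n • n • a = a) (h3 : ∀ a : A, dl z (dl z a) = 0) (a : A) : n • a = a := by
  let d : AddMonoid.End A := dl z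
  let x : AddMonoid.End A := DistribSMul.toAddMonoidHom A n
  have hd : ∀ b : A, (1 + d) b = z • b := fun b => (smul_eq_add_dl z _).symm
  have := eq_one_of_quad (R := AddMonoid.End A) (fun r e => AddMonoidHom.ext fun b => h0 _ (DFunLike.congr_fun e b)) d x
    (AddMonoidHom.ext h2) (AddMonoidHom.ext h3) (AddMonoidHom.ext fun b => by
      change (1 + d) (x ((1 + d) (x ((1 + d) b)))) = n • b
      rw [hd, hd, hd]; exact h1 b)
  exact DFunLike.congr_fun this a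

variable {X : Type u} [Group X] {p q qa qb : ℕ} {G S Q M Ga Qa Ma Gb Qb Mb : Subgroup X}

/-- The elements of order prime to `p` in the core of `M` centralize `Q` modulo `N`. -/
def CoreTriv (p : ℕ) (G Q M N : Subgroup X) : Prop :=
  ∀ h ∈ G, (∀ g ∈ G, g * h * g⁻¹ ∈ M) → ∀ m : ℕ, m.Coprime p → h ^ m = 1 → ∀ c ∈ Q, ⁅h, c⁆ ∈ N

/-- No noncentral chief factor in `Q` is centralized by the core of `M`. -/
def Good (p : ℕ) (G Q M : Subgroup X) : Prop :=
  ∀ N : Subgroup X, G ≤ normalizer (N : Set X) → CoreTriv p G Q M N →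
    ∀ y ∈ G, ∀ m : ℕ, m.Coprime p → y ^ m = 1 → ∀ c ∈ Q, ⁅y, c⁆ ∈ N

theorem Good.of_map {Y : Type*} [Group Y] {ι : X →* Y} (hι : Function.Injective ι)
    (h : Good p (G.map ι) (Q.map ι) (M.map ι)) : Good p G Q M := fun N nN hN y hy m hm e c hc => by
  rw [← mem_map_inj hι, map_commutatorElement]
  refine h _ ((map_le_normalizer_map hι).2 nN) ?_ _ (mem_map_of_mem ι hy) m hm
    (by rw [← map_pow, e, map_one]) _ (mem_map_of_mem ι hc)
  rintro _ ⟨x, hx, rfl⟩ h1 k hk h2 _ ⟨c, hc, rfl⟩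
  rw [← map_commutatorElement, mem_map_inj hι]
  refine hN x hx (fun g hg => ?_) k hk (hι (by rw [map_pow, h2, map_one])) c hc
  rw [← mem_map_inj hι, map_mul, map_mul, map_inv]
  exact h1 _ (mem_map_of_mem ι hg)

theorem Good.map {Y : Type*} [Group Y] {ι : X →* Y} (hι : Function.Injective ι)
    (h : Good p G Q M) : Good p (G.map ι) (Q.map ι) (M.map ι) := by
  rintro N nN hN _ ⟨y, hy, rfl⟩ m hm e _ ⟨c, hc, rfl⟩
  rw [← map_commutatorElement]
  refine h (N.comap ι) (fun g hg => ?_) (fun x hx h1 k hk h2 c hc => ?_) y hy m hm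
    (hι (by rw [map_pow, e, map_one])) c hc
  · refine mem_normalizer_iff.2 fun x => ?_
    rw [mem_comap, mem_comap, map_mul, map_mul, map_inv]
    exact mem_normalizer_iff.1 (nN (mem_map_of_mem ι hg)) _
  · rw [mem_comap, map_commutatorElement]
    refine hN _ (mem_map_of_mem ι hx) ?_ k hk (by rw [← map_pow, h2, map_one]) _
      (mem_map_of_mem ι hc)
    rintro _ ⟨g, hg, rfl⟩
    rw [← map_inv, ← map_mul, ← map_mul]
    exact mem_map_of_mem ι (h1 g hg)

theorem RankOne.comm_of_not_le (r : RankOne p q G S Q M) {V W : Subgroup X}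
    (nV : G ≤ normalizer (V : Set X)) (nW : G ≤ normalizer (W : Set X)) {s : X} (hs : s ∈ G)
    (hM : s ∉ M ∨ s ∈ S ∧ s ∉ Q) (h : ∀ c ∈ V, ⁅s, c⁆ ∈ W) {y : X} (hy : y ∈ G) {m : ℕ}
    (hm : m.Coprime p) (e : y ^ m = 1) : y ∈ cmod V W := by
  have nL : G ≤ normalizer ((G ⊓ cmod V W : Subgroup X) : Set X) :=
    le_normalizer_inf le_normalizer (le_normalizer_cmod nV nW)
  have hL : G ≤ G ⊓ cmod V W ⊔ S := hM.elim
    (fun h1 => r.le_of_not_le le_sup_right fun e' => h1 (e' ⟨hs, mem_sup_left ⟨hs, nW hs, h⟩⟩))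
    fun h1 => r.le_sup_of_normal inf_le_left nL fun e' => h1.2 (e' ⟨h1.1, hs, nW hs, h⟩)
  exact (mem_of_coprime_of_le_sup r.syl.isPGroup (r.syl.le.trans nL) (hL hy) hm
    (e ▸ one_mem _)).2

variable [hp : Fact p.Prime]

/-- A quadratic section centralized by the core is centralized by all `p'`-elements. -/
theorem V0.comm_of_quad (v : V0 p q G S Q M) (p2 : p ≠ 2) {V W : Subgroup X} (hVQ : V ≤ Q)
    (nV : G ≤ normalizer (V : Set X)) (nW : G ≤ normalizer (W : Set X))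
    (h1 : ∀ c ∈ Q, ∀ y ∈ V, ⁅c, y⁆ ∈ W) (h2 : ∀ s ∈ S, ∀ y ∈ V, ⁅s, ⁅s, y⁆⁆ ∈ W)
    (h3 : CoreTriv p G Q M W) {y : X} (hy : y ∈ G) {m : ℕ} (hm : m.Coprime p) (e : y ^ m = 1) :
    y ∈ cmod V W := by
  have := v.fin
  have r := v.r
  obtain ⟨F, _, _, -, ⟨N⟩⟩ := v.nat
  obtain ⟨A⟩ := exists_secMod nV nW (commutator_le.2 fun a ha => h1 a (hVQ ha))
  let _ := A.acg; let _ := A.act
  have c2 : Nat.Coprime 2 p := (Nat.coprime_primes Nat.prime_two hp.out).2 p2.symm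
  have cV : ∀ (x : G), ∀ y ∈ V, ⁅(x : X), y⁆ ∈ V :=
    fun x y hy => commutator_mem_of_normalizer (nV x.2) hy
  have hdl : ∀ (x : G), ∀ y ∈ V, A.π ⁅(x : X), y⁆ = dl x (A.π y) := fun x y hy => A.comm nV x hy
  have triv : ∀ x : G, N.ρ x = 1 ∨ N.ρ x = -1 → ∀ a : A.A, x • a = a := fun x hx a => by
    obtain ⟨y, hy, rfl⟩ := A.surj a
    rw [← sub_eq_zero, ← dl_apply, ← hdl x y hy, A.ker _ (cV x y hy)]
    obtain ⟨m, hm, hxm⟩ := r.pprime (N.K_le_M r) N.norm_K (x := ((x ^ 2 : G) : X))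
      (N.mem_K.2 (by rcases hx with h | h <;> simp [h]))
    obtain ⟨k, n, hn, e⟩ := Nat.exists_eq_pow_mul_and_not_dvd (orderOf_pos x).ne' p hp.out.ne_one
    refine (mem_of_coprime_pow (A := cmod V W) (x := x) ((c2.mul_left hm).pow_right k)
      ⟨nW (pow_mem x.2 _), h1 _ (by rwa [pow_mul])⟩ ⟨nW (pow_mem x.2 _), fun c hc =>
        h3 _ (pow_mem x.2 _) (fun g hg => by_contra fun e' => N.lower_ne_zero r
          (g := ⟨g, hg⟩ * x ^ p ^ k * ⟨g, hg⟩⁻¹) e' ?_) n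
        ((Nat.Prime.coprime_iff_not_dvd hp.out).2 hn).symm ?_ c (hVQ hc)⟩).2 y hy
    · have : N.ρ (x ^ p ^ k) = N.ρ x := by
        rcases hx with h | h
        · rw [map_pow, h, one_pow]
        · rw [map_pow, h, ((hp.out.odd_of_ne_two p2).pow).neg_one_pow]
      rw [map_mul, map_mul, map_inv, this]
      rcases hx with h | h <;> simp [h]
    · rw [← pow_mul, ← e, ← coe_pow, pow_orderOf_eq_one, coe_one]
  obtain ⟨z, hz, hz'⟩ := N.up_surj 1
  obtain ⟨n, hn⟩ := N.ρ_surj (wn 1 one_ne_zero)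
  have hn2 : ∀ a : A.A, n • n • a = a := fun a => by
    rw [← mul_smul]; exact triv _ (Or.inr (by rw [map_mul, hn, wn_sq])) a
  have key := smul_eq_of_quad (A := A.A) (z := z) (n := n) (fun a e => by
      obtain ⟨y, hy, rfl⟩ := A.surj a
      obtain ⟨k, hk⟩ := isPGroup_iff_mem.1 r.isPGroup_Q y (hVQ hy)
      rw [← A.mul y hy y hy, A.ker _ (mul_mem hy hy), ← sq] at e
      exact (A.ker y hy).2 (mem_of_coprime_pow (c2.pow_right k) e (hk ▸ one_mem _)))
    (fun a => by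
      have := triv (z * (n * z * n⁻¹) * z * n⁻¹) (Or.inl (by
        simp only [map_mul, map_inv, hn, hz', wn_braid, mul_inv_cancel])) (n • a)
      simp only [mul_smul, inv_smul_smul] at this
      rwa [← hn2 (z • a), inv_smul_smul] at this) hn2 fun a => by
      obtain ⟨y, hy, rfl⟩ := A.surj a
      rw [← hdl z y hy, ← hdl z _ (cV z y hy), A.ker _ (cV z _ (cV z y hy))]
      exact h2 z hz y hy
  refine r.comm_of_not_le nV nW n.2 (Or.inl fun e' => ?_) (fun c hc => ?_) hy hm e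
  · have := N.lower_eq_zero_of_mem r (g := n) e'
    rw [hn, wn10] at this
    simp at this
  · rw [← A.ker _ (cV n c hc), hdl n c hc, dl_apply, key, sub_self]

theorem V0.good_of_chain (v : V0 p q G S Q M) (p2 : p ≠ 2) {Y : Subgroup X} (hYQ : Y ≤ Q)
    (nY : G ≤ normalizer (Y : Set X)) (h1 : ∀ c ∈ Q, ∀ y ∈ Y, ⁅c, y⁆ ∈ zOf Q)
    (h2 : ∀ s ∈ S, ∀ y ∈ Y, ⁅s, ⁅s, y⁆⁆ ∈ zOf Q) {s : X} (hs : s ∈ S) (hQ : s ∉ Q)
    (h3 : ∀ c ∈ Q, ⁅s, c⁆ ∈ Y) : Good p G Q M := fun N nN hN y hy m hm e c hc => by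
  have r := v.r
  have a1 := r.comm_of_not_le r.Qn nY (r.syl.le hs) (Or.inr ⟨hs, hQ⟩) h3 hy hm e
  have a2 := v.comm_of_quad p2 hYQ nY (le_normalizer_sup nN r.norm_zOf)
    (fun c hc y hy => mem_sup_right (h1 c hc y hy)) (fun s hs y hy => mem_sup_right (h2 s hs y hy))
    (fun h hh a k hk b c hc => mem_sup_left (hN h hh a k hk b c hc)) hy hm e
  have a3 := v.comm_of_quad p2 (V := zOf Q) inf_le_left r.norm_zOf nN
    (fun c hc y hy => by rw [commutatorElement_eq_one_iff_mul_comm.2 (hy.2 c hc)]; exact one_mem _)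
    (fun s hs y hy => by
      rw [commutatorElement_eq_one_iff_mul_comm.2 ((v.quad hs hy).2 s hs)]; exact one_mem _)
    hN hy hm e
  have a4 := comm_mem_of_coprime (r.isPGroup_Q.to_le hYQ) hm a2 (a1.2 c hc) (by simp [e])
  refine comm_mem_of_coprime (B := (N ⊔ zOf Q) ⊓ Q) r.isPGroup_Q.to_inf_right hm
    ⟨nN hy, fun b hb => ?_⟩ ⟨a4, hYQ (a1.2 c hc)⟩ (by simp [e])
  obtain ⟨n, hn, z, hz, rfl⟩ := (mem_sup_of_le_normalizer' ((inf_le_left.trans r.QG).trans nN)).1 hb.1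
  exact comm_mul_mem (le_normalizer hn) (commutator_mem_of_normalizer (nN hy) hn) (a3.2 z hz)

theorem Vx.good_b1 (a : Vx p qa Ga S Qa Ma) (b : Vx p qb Gb S Qb Mb) (p2 : p ≠ 2)
    (h : ¬ zOf Qa ≤ Qb) : Good p Gb Qb Mb := by
  obtain ⟨u, hu, hu'⟩ := SetLike.not_le_iff_exists.1 h
  refine b.good_of_chain p2 inf_le_left b.r.norm_zOf
    (fun c hc y hy => commutator_mem_of_normalizer (b.r.norm_zOf (b.r.QG hc)) hy)
    (fun s hs y hy => commutator_mem_of_normalizer (b.r.norm_zOf (b.r.syl.le hs))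
      (commutator_mem_of_normalizer (b.r.norm_zOf (b.r.syl.le hs)) hy)) (a.VS hu) hu'
    fun c hc => a.sup_inf_le b.toV0 (fun e => h (b.le_symm a.toV0 e)) ⟨mem_sup_left (comm_mem_comm
      (commutator_mem_of_normalizer (a.r.norm_zOf (a.r.syl.le (b.r.QS hc))) hu)),
      commutator_mem_of_normalizer (b.r.Qn (b.r.syl.le (a.VS hu))) hc⟩

theorem NF.good (n : NF p qa qb S Ga Qa Ma Gb Qb Mb) (p2 : p ≠ 2) : Good p Gb Qb Mb := by
  obtain ⟨g, hg, hM⟩ := n.b.r.exists_not_mem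
  obtain ⟨h, hh, hM'⟩ := n.a.r.exists_not_mem
  have m := n.symm
  obtain ⟨y, hy, hy'⟩ := SetLike.not_le_iff_exists.1 (m.lemN hh hM')
  have hyS := n.a.r.QS ((m.cj_mem hh).le hy)
  have nT := n.norm_tri' hg hM
  refine n.b.good_of_chain p2 (n.tri_le hg) (n.norm_tri hg hM) (fun c hc x hx => ?_)
    (fun s hs x hx => n.b.zle (n.a.quad2 n.b.toV0 hs (n.tri_inf hg hM
      ⟨commutator_mem_of_normalizer (nT hs) hx,
        n.a.r.comm (commutator_mem_commutator hs (n.b.r.QS (n.tri_le hg hx)))⟩))) hyS hy'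
    fun c hc => (n.sup_inf hg hh hM').le ⟨comm_mem_comm (commutator_mem_of_normalizer
      (le_normalizer_sup nT (m.norm_tri' hh hM') (n.b.r.QS hc)) (mem_sup_right (mem_sup_left hy))),
      commutator_mem_of_normalizer (n.b.r.Qn (n.b.r.syl.le hyS)) hc⟩
  obtain ⟨u, hu, r, hr, rfl⟩ := n.mem_tri hg hx
  exact comm_mul_mem (n.b.r.norm_zOf (n.b.r.QG ((n.cj_mem hg).le hu)))
    (n.b.zle (n.b.zG (n.lemB' hg hc hu))) (n.b.zle (n.a.quad2 n.b.toV0 (n.b.r.QS hc) hr))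

theorem two_vertex_good (a : Vx p qa Ga S Qa Ma) (b : Vx p qb Gb S Qb Mb) (p2 : p ≠ 2)
    (h : ¬ Good p Gb Qb Mb) :
    zOf Qa ≤ Qb ∧ Gb ≤ normalizer ((zOf Qa ⊔ zOf Qb : Subgroup X) : Set X) :=
  have h1 : zOf Qa ≤ Qb := by_contra fun e => h (a.good_b1 b p2 e)
  ⟨h1, by_contra fun e => h (NF.good ⟨a, b, h1, e⟩ p2)⟩

end Cfsg.Agent.H69
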