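import Cfsg.Agent.H69.TR1
import Cfsg.Agent.H72.Nat4
import Cfsg.Prelude.Def_ConjugacyFunctors

/-!
A characteristic subgroup normal in all vertices that are not good, and the Baumann reduction.
-/

set_option autoImplicit false

namespace Cfsg.Agent.H69

open Subgroup
open scoped commutatorElement

universe u

/-- The centres `Z(Q)` of the vertices over `P` that are not good. -/
def BadV (p : ℕ) (P : Type u) [Group P] : Set (Subgroup P) :=
  {V | ∃ (G : Type u) (_ : Group G) (τ : P →* G) (q : ℕ) (L Q M : Subgroup G),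
    Function.Injective τ ∧ Vx p q L ((⊤ : Subgroup P).map τ) Q M ∧ ¬ Good p L Q M ∧
      V.map τ = zOf Q}

/-- The characteristic subgroup attached to a group equal to its Baumann subgroup. -/
def KZero (p : ℕ) (P : Type u) [Group P] : Subgroup P :=
  SPhi p ⊤ ⊔ ⨆ _ : SPhi p (⊤ : Subgroup P) = ⊥, center P ⊔ sSup (BadV p P)

variable {p : ℕ}

theorem map_badV {P R : Type u} [Group P] [Group R] (φ : P ≃* R) :
    (sSup (BadV p P)).map φ.toMonoidHom ≤ sSup (BadV p R) :=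
  map_le_iff_le_comap.2 (sSup_le (by
    rintro V ⟨G, _, τ, q, L, Q, M, hτ, v, e, hV⟩
    refine map_le_iff_le_comap.1 (le_sSup ⟨G, _, τ.comp φ.symm.toMonoidHom, q, L, Q, M,
      hτ.comp φ.symm.injective, ?_, e, ?_⟩)
    · rwa [← map_map, map_top_of_surjective _ φ.symm.surjective]
    · rw [← hV, map_map]
      congr 1
      ext x; simp))

theorem kZero_char [Fact p.Prime] : IsCharPFunctor.{u} p (KZero p) := by
  refine ⟨fun P _ _ hP _ e => ?_, fun P R _ _ _ _ φ => ?_⟩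
  · rw [KZero, sup_eq_bot_iff] at e
    have := e.2
    rw [iSup_pos e.1, sup_eq_bot_iff] at this
    exact hP.bot_lt_center.ne' this.1
  · have h1 : (SPhi p (⊤ : Subgroup P)).map φ.toMonoidHom = SPhi p ⊤ := by
      rw [map_SPhi φ.injective, map_top_of_surjective _ φ.surjective]
    have h2 : (sSup (BadV p P)).map φ.toMonoidHom = sSup (BadV p R) :=
      le_antisymm (map_badV φ) fun x hx => ⟨φ.symm x, map_badV φ.symm ⟨x, hx, rfl⟩, by simp⟩
    have h3 : (center P).map φ.toMonoidHom = center R := by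
      rw [← zOf_top, map_zOf φ.injective, map_top_of_surjective _ φ.surjective, zOf_top]
    rw [KZero, KZero, Subgroup.map_sup, h1]
    by_cases h : SPhi p (⊤ : Subgroup P) = ⊥
    · rw [iSup_pos h, iSup_pos (by rw [← h1, h, Subgroup.map_bot]), Subgroup.map_sup, h2, h3]
    · rw [iSup_neg h, iSup_neg fun e => h ((map_eq_bot_iff_of_injective _ φ.injective).1
        (h1.trans e)), Subgroup.map_bot]

theorem V0.norm_kZero [Fact p.Prime] (p2 : p ≠ 2) {P G : Type u} [Group P] [Finite P] [Group G]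
    [Finite G] {τ : P →* G} (hτ : Function.Injective τ) {q : ℕ} {L Q M : Subgroup G}
    (v : V0 p q L ((⊤ : Subgroup P).map τ) Q M) (hb : ¬ Good p L Q M) :
    L ≤ normalizer (((KZero p P).map τ : Subgroup G) : Set G) := by
  by_cases h : SPhi p (⊤ : Subgroup P) = ⊥
  swap
  · rw [KZero, iSup_neg h, sup_bot_eq, map_SPhi hτ]; exact v.norm_SPhi
  rw [KZero, iSup_pos h, h, bot_sup_eq]
  obtain ⟨R, h1, h2⟩ := exists_elem_of_sphi h
  have v' : Vx p q L ((⊤ : Subgroup P).map τ) Q M := ⟨v, by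
      rw [← map_zOf hτ, zOf_top]
      rintro _ ⟨z, hz, rfl⟩
      rw [← map_pow, (isElementaryAbelian_iff.1 h2).2 z
        (H72.cl_centralizer_le h1.1 (center_le_centralizer _ hz)), map_one], by
    obtain ⟨A, h3, h4⟩ := v.mx
    obtain ⟨A, rfl⟩ := exists_map_eq h3.1
    exact ⟨_, (cd_map hτ).2 (cd_top.2 (H72.cl_cd ((H72.mcl_iff_maxAb h1 h2.1 A).2
      (H23.maxAb_zero_top (G := P) ▸ (H23.map_mem_maxAb_iff hτ).1 h3)).1)),
      le_centralizer_iff_isMulCommutative.2 h3.2.1, h4⟩⟩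
  have pair : ∀ V ∈ BadV p P, L ≤ normalizer ((V.map τ ⊔ zOf Q : Subgroup G) : Set G) := by
    rintro V ⟨H, _, σ, q', L', Q', M', hσ, w, -, hV⟩
    obtain ⟨X, _, ι₁, ι₂, h₁, h₂, hι⟩ := exists_amalgam hσ hτ
    have a := w.map h₁
    rw [hι] at a
    have b2 := (two_vertex_good a (v'.map h₂) p2 fun e => hb (e.of_map h₂)).2
    rwa [← map_zOf h₁, ← hV, hι, ← map_zOf h₂, ← Subgroup.map_sup, map_le_normalizer_map h₂] at b2
  obtain ⟨V, hV⟩ := exists_map_eq v.VS
  have hV' : zOf Q ≤ (sSup (BadV p P)).map τ :=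
    hV ▸ map_mono (le_sSup ⟨G, _, τ, q, L, Q, M, hτ, v', hb, hV⟩)
  rw [Subgroup.map_sup, sup_eq_right.2 (le_trans (by rw [← zOf_top, map_zOf hτ]; exact v.zle) hV')]
  refine le_normalizer_of_cj_le fun g hg => cj_le_iff.2 (map_le_iff_le_comap.2 (sSup_le
    fun V' h2 => map_le_iff_le_comap.1 (cj_le_iff.1 ?_)))
  exact (cj_le_of_mem_normalizer (pair V' h2 hg) le_sup_left).trans
    (sup_le (map_mono (le_sSup h2)) hV')

variable {X : Type u} [Group X] [Finite X] {q : ℕ} {G S Q M : Subgroup X}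

/-- The Baumann subgroup for abelian subgroups of largest order. -/
abbrev Ba (S : Subgroup X) : Subgroup X := S ⊓ centralizer (H23.zj 0 S : Set X)

theorem norm_ba (S : Subgroup X) : normalizer (S : Set X) ≤ normalizer (Ba S : Set X) :=
  le_normalizer_inf le_rfl ((H23.normalizer_le_normalizer_zj 0 S).trans
    (normalizer_le_normalizer_centralizer _))

omit [Finite X] in
theorem le_ba {A : Subgroup X} (hA : A ∈ H23.maxAb 0 S) : A ≤ Ba S :=
  le_inf hA.1 fun _ ha _ hy => H23.comm_of_mem hA.2.1 (H23.zj_le_of_mem hA hy) ha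

theorem zj_eq_of_le {T : Subgroup X} (h1 : Ba S ≤ T) (h2 : T ≤ S) : H23.zj 0 T = H23.zj 0 S := by
  rw [H23.zj, H23.zj, maxAb_eq_of_forall_le h2 fun A hA => (le_ba hA).trans h1]

theorem ba_eq_of_le {T : Subgroup X} (h1 : Ba S ≤ T) (h2 : T ≤ S) : Ba T = Ba S := by
  rw [Ba, zj_eq_of_le h1 h2]
  exact le_antisymm (inf_le_inf_right _ h2) (le_inf h1 inf_le_right)

theorem ba_eq_of_forall (h1 : Q ≤ S) (h2 : S ⊓ centralizer (zOf Q : Set X) ≤ Q)
    (hA : ∀ A ∈ H23.maxAb 0 S, A ≤ Q) : Ba Q = Ba S := by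
  refine ba_eq_of_le (le_trans (inf_le_inf_left _ (centralizer_le ?_)) h2) h1
  rw [H23.zj, maxAb_eq_of_forall_le h1 hA]
  exact zOf_le_zj Q

theorem RankOne.exists_maxAb (h : RankOne p q G S Q M) (hc : G ⊓ centralizer (Q : Set X) ≤ Q)
    (hn : ¬ zOf S ≤ centralizer (G : Set X)) (hB : ¬ G ≤ normalizer (Ba S : Set X)) :
    ∃ A ∈ H23.maxAb 0 S, ¬ A ≤ Q := by_contra fun e => by
  push Not at e
  rw [← ba_eq_of_forall h.QS (h.cent_zOf hc hn) e] at hB
  exact hB (h.Qn.trans (norm_ba Q))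

theorem RankOne.v0 (h : RankOne p q G S Q M) (hc : G ⊓ centralizer (Q : Set X) ≤ Q)
    (hn : ¬ zOf S ≤ centralizer (G : Set X)) (hB : Ba S = S) (F : Type) [Field F] [Fintype F]
    (hF : Fintype.card F = q) : V0 p q G S Q M := by
  refine ⟨inferInstance, h, hc, hn, ?_, ⟨F, inferInstance, _, hF⟩, h.exists_maxAb hc hn fun e => h.ne
    ((le_inf le_rfl le_rfl).trans (h.normal_inf_le h.SM (hB ▸ e)))⟩
  have := cd_subtype.2 (H72.cl_cd (cl_top_of (S := S) (top_le_iff.1 fun x _ => ?_)))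
  · rwa [map_top_subtype] at this
  · rw [← mem_centralizer_map S.subtype_injective, ← zj_top, ← H23.zj_map S.subtype_injective,
      map_top_subtype]
    exact (hB.ge x.2).2

/-- Baumann's argument. -/
theorem RankOne.baumann_rel [Fact p.Prime] (h : RankOne p q G S Q M)
    (hc : G ⊓ centralizer (Q : Set X) ≤ Q) (hn : ¬ zOf S ≤ centralizer (G : Set X))
    (hB : ¬ G ≤ normalizer (Ba S : Set X)) (F : Type) [Field F] [Fintype F]
    (hF : Fintype.card F = q) :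
    ∃ L ≤ G, G ≤ normalizer (L : Set X) ∧ SylOf p (Ba S) L ∧ ¬ L ≤ M := by
  obtain ⟨A, hA, hAQ⟩ := h.exists_maxAb hc hn hB
  have r := h.subgroupOf
  have hι := G.subtype_injective
  have eS : (S.subgroupOf G).map G.subtype = S := map_subgroupOf_eq_of_le h.syl.le
  have eQ : (Q.subgroupOf G).map G.subtype = Q := map_subgroupOf_eq_of_le h.QG
  have eA : (A.subgroupOf G).map G.subtype = A := map_subgroupOf_eq_of_le (hA.1.trans h.syl.le)
  have hc' : ⊤ ⊓ centralizer (Q.subgroupOf G : Set G) ≤ Q.subgroupOf G := by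
    rwa [← map_le_map_inj hι, map_inf_centralizer hι, map_top_subtype, eQ]
  have hA' : A.subgroupOf G ∈ H23.maxAb 0 (S.subgroupOf G) := by
    rwa [← H23.map_mem_maxAb_iff hι, eS, eA]
  have hAQ' : ¬ A.subgroupOf G ≤ Q.subgroupOf G := by rwa [← map_le_map_inj hι, eA, eQ]
  obtain ⟨N⟩ := r.natSec_of_maxAb hc' (fun e => hn fun z hz => by
    rw [← eS, ← map_zOf hι] at hz
    obtain ⟨z, hz, rfl⟩ := hz
    exact fun g hg => congrArg Subtype.val (e hz ⟨g, hg⟩ trivial)) hA' hAQ' F hF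
  obtain ⟨Y, y1, y2, -, y4, y5⟩ := N.baumann r hF hc' hA' hAQ'
  have eB : (Ba (S.subgroupOf G)).map G.subtype = Ba S := by
    rw [map_inf_centralizer hι, ← H23.zj_map hι, eS]
  set B := Ba (S.subgroupOf G) with hB'
  have nL : ⊤ ≤ normalizer (normalClosure (B : Set G) : Set G) := le_normalizer_of_normal
  have s1 := r.syl.inf_normal le_top nL
  have s2 : S.subgroupOf G ⊓ normalClosure (B : Set G) = B := by
    refine le_antisymm (fun x hx => ?_) (le_inf inf_le_left le_normalClosure)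
    obtain ⟨b, hb, c, hc, rfl⟩ := (mem_sup_of_le_normalizer (le_top.trans r.Qn)).1 (y5 hx.1)
    refine B.mul_mem hb ⟨r.QS hc, centralizer_le y1 ?_⟩
    rw [centralizer_sup']
    exact ⟨y4 (by simpa using mul_mem (inv_mem (le_normalClosure hb)) hx.2),
      fun z hz => ((r.zOf_le hc' hz).2 c hc).symm⟩
  rw [s2] at s1
  refine ⟨_, map_subtype_le _, ?_, eB ▸ s1.map hι, fun e => hAQ fun a ha => ?_⟩
  · conv_lhs => rw [← map_top_subtype G]
    exact (map_le_normalizer_map hι).2 nL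
  · refine h.normal_inf_le e ?_ ⟨hA.1 ha, map_mono le_normalClosure (eB.ge (le_ba hA ha))⟩
    conv_lhs => rw [← map_top_subtype G]
    exact (map_le_normalizer_map hι).2 nL

theorem sl2_eq_top {F : Type*} [Field F] {H : Subgroup (SL2 F)} (h1 : ∀ c, up c ∈ H) {A : SL2 F}
    (hA : A ∈ H) (h0 : A.1 1 0 ≠ 0) : H = ⊤ := by
  have h2 : H72.upS F ≤ H := fun x hx => by
    obtain ⟨c, rfl⟩ := H72.mem_upS.1 hx; exact h1 c
  exact top_le_iff.1 ((H72.upS_sup_cj h0).ge.trans (sup_le h2 (cj_le_of_mem hA h2)))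

/-- A homomorphism to `SL₂(F)` with `M` the preimage of the Borel subgroup. -/
structure BorMap (F : Type*) [Field F] (G M B : Subgroup X) where
  φ : G →* SL2 F
  mem : ∀ x : G, (x : X) ∈ M ↔ (φ x).1 1 0 = 0
  up : ∀ c, ∃ b : G, (b : X) ∈ B ∧ φ b = up c

omit [Finite X] in
theorem BorMap.surj {F : Type*} [Field F] {B L : Subgroup X} (β : BorMap F G M B) (h1 : B ≤ L)
    (h2 : L ≤ G) (h3 : ¬ L ≤ M) (A : SL2 F) : ∃ x : G, (x : X) ∈ L ∧ β.φ x = A := by
  obtain ⟨x, hx, hx'⟩ := SetLike.not_le_iff_exists.1 h3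
  exact (sl2_eq_top (H := (L.subgroupOf G).map β.φ) (fun c => let ⟨b, hb, e⟩ := β.up c; ⟨b, h1 hb, e⟩)
    (A := β.φ ⟨x, h2 hx⟩) ⟨_, hx, rfl⟩ fun e => hx' ((β.mem ⟨x, h2 hx⟩).2 e)).ge (mem_top A)

theorem BorMap.exists_rankOne [Fact p.Prime] {F : Type*} [Field F] [Fintype F] {B T L₀ : Subgroup X}
    (β : BorMap F G M B) {n : ℕ} (hn : 1 ≤ n) (hF : Fintype.card F = p ^ n) (hT : SylOf p T L₀)
    (h1 : B ≤ T) (h2 : L₀ ≤ G) (h3 : ¬ L₀ ≤ M) (h4 : T ≤ M) :
    ∃ L ≤ L₀, ¬ L ≤ M ∧ RankOne p (Fintype.card F) L T (pCoreOf p L) (L ⊓ M) := by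
  obtain ⟨L, ⟨a1, a2, a3⟩, hmin⟩ := Set.Finite.exists_minimal
    (Set.toFinite {L : Subgroup X | T ≤ L ∧ L ≤ L₀ ∧ ¬ L ≤ M}) ⟨L₀, hT.le, le_rfl, h3⟩
  have hι := L.subtype_injective
  have key : ∀ H : Subgroup X, T ≤ H → H ≤ L → ¬ L ≤ H → H ≤ M := fun H b1 b2 b3 =>
    by_contra fun e => b3 (hmin ⟨b1, b2.trans a2, e⟩ b2)
  have hT' := hT.mono a1 a2
  have key' : ∀ H : Subgroup L, T.subgroupOf L ≤ H → H ≠ ⊤ → H ≤ M.subgroupOf L := fun H b1 b2 =>
    map_le_iff_le_comap.1 (key _ (by rw [← map_subgroupOf_eq_of_le a1]; exact map_mono b1)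
      (map_subtype_le _) fun e => b2 (top_le_iff.1 fun x _ => (mem_map_inj hι).1 (e x.2)))
  have hM : M.subgroupOf L ≠ ⊤ := fun e => a3 (subgroupOf_eq_top.1 e)
  have hTM : T.subgroupOf L ≤ M.subgroupOf L := comap_mono h4
  obtain ⟨M', r⟩ := rankOne_of_psl hT'.toSylow ⟨M.subgroupOf L, ⟨⟨hM, fun H hH => by_contra fun e =>
      hH.not_ge (key' H (hTM.trans hH.le) e)⟩, hTM⟩, fun H hH =>
      (hH.1.le_iff.1 (key' H hH.2 hH.1.1)).resolve_left hM |>.symm⟩ hn hF
    ((pr F).comp (β.φ.comp (inclusion (a2.trans h2)))) fun A => by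
      obtain ⟨A, rfl⟩ := pr_surjective A
      obtain ⟨x, hx, e⟩ := β.surj (h1.trans a1) (a2.trans h2) a3 A
      exact ⟨⟨x, hx⟩, congrArg (pr F) e⟩
  have r' := r.map hι
  rw [map_top_subtype, hT'.map_toSylow] at r'
  refine ⟨L, a2, a3, ?_⟩
  rwa [le_antisymm (le_inf r'.MG (key _ r'.SM r'.MG r'.Mne)) (r'.uniq _ (le_inf a1 h4) inf_le_left
    fun e => a3 (e.trans inf_le_right))] at r'

end Cfsg.Agent.H69
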