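import Cfsg.Agent.H69.TR2
import Cfsg.Agent.H72.CSS

/-!
Failure of factorization for a minimal parabolic group: the map to `SL₂(F)` over the Baumann
subgroup.
-/

set_option autoImplicit false

namespace Cfsg.Agent.H69

open Subgroup Matrix
open Cfsg.Agent.H72 (FF FFOut Nat2 InD cmA Prp Faith Br ms toG)
open scoped commutatorElement

universe u

theorem eq_up_of_fix {F : Type*} [Field F] {g : SL2 F} {x : Fin 2 → F} (h1 : x 1 = 0) (h0 : x ≠ 0)
    (e : g.1 *ᵥ x = x) : g = up (g.1 0 1) := by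
  have h2 : x 0 ≠ 0 := fun h => h0 (H72.vec2_ext h h1)
  have a := congrFun e 0
  have b := congrFun e 1
  rw [mulVec_two, h1, mul_zero, add_zero] at a b
  have a' : g.1 0 0 = 1 := mul_right_cancel₀ h2 (by rw [a, one_mul])
  have b' : g.1 1 0 = 0 := (mul_eq_zero.1 b).resolve_right h2
  have := sl2_det g
  rw [a', b', one_mul, mul_zero, sub_zero] at this
  exact sl2_ext a' rfl b' this

section

variable {Γ : Type*} [Group Γ] [Finite Γ] {W : Type*} [AddCommGroup W] [DistribMulAction Γ W]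
  [Finite W] {p : ℕ} [hp : Fact p.Prime] {T M A K B : Subgroup Γ} {F : Type*} [Field F]
  {σ : SL2 F →* Γ} {ψ : W →+ (Fin 2 → F)}

theorem ff_dec (h : FF W p T M) (o : FFOut W p T M A σ.range K) (hn : Nat2 F σ ψ A) (hBT : B ≤ T)
    (hAB : A ≤ B) (hfix : cmA W A ≤ fixA W B) {x : Γ} (hx : x ∈ σ.range ⊔ B) :
    ∃ g, ∃ y ∈ B, x = σ g * y ∧ y ∈ centralizer (σ.range : Set Γ) ∧
      ∀ v : W, dl y v ∈ fixA W σ.range := by
  have pB : IsPGroup p B := h.syl.pgroup.to_le hBT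
  have n1 : B ≤ normalizer (A : Set Γ) := fun b hb => H70.cj_eq_self_iff.1 (by_contra fun e =>
    hn.not_cmA_le fun v hv => o.cmA_le_of_ne h (o.inD.cj b)
      (H70.cj_le_of_mem_norm (le_normalizer (hBT hb)) o.AT) e
      (by rw [H72.mem_cmA_cj, hfix hv _ (inv_mem hb)]; exact hv))
  have n2 : B ≤ normalizer (σ.range : Set Γ) := fun b hb => o.norm ⟨h.min.le (hBT hb), n1 hb⟩
  obtain ⟨a, ha, a1⟩ := (bot_or_exists_ne_one _).resolve_left
    (inf_centralizer_ne_bot pB o.inD.pg n1 o.inD.ne)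
  have n3 : B ≤ centralizer (A : Set Γ) := h.faith.comm (fun b hb v => h.mem_fix o.inD ha.1 a1 (by
    rw [← H72.dl_eq_zero_iff, dl_apply b, map_sub, H72.dl_smul_comm (ha.2 b hb),
      hfix (H72.dl_mem_cmA ha.1 v) b hb, sub_self])) (H72.prp_iff.2 hfix)
  obtain ⟨_, ⟨g, rfl⟩, b, hb, rfl⟩ := (mem_sup_of_le_normalizer' n2).1 hx
  obtain ⟨a, ha, e⟩ := hn.exists_mul h.hV pB n3 n2 o.inD.comm hb
  obtain ⟨c, rfl⟩ := (hn.mem a).1 ha
  have hy := B.mul_mem (inv_mem (hAB ha)) hb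
  exact ⟨g * up c, _, hy, by simp [mul_assoc], hn.comm_of_dl (n2 hy) e, e⟩

omit [Finite Γ] [Finite W] hp in
theorem ff_mem (o : FFOut W p T M A σ.range K) (hn : Nat2 F σ ψ A) (hTM : T ≤ M) (g : SL2 F) :
    σ g ∈ M ↔ g.1 1 0 = 0 :=
  ⟨fun h => by_contra fun e => o.HM ((hn.sup_cj e).ge.trans (sup_le (o.AT.trans hTM)
    (cj_le_of_mem h (o.AT.trans hTM)))), fun h => o.bor ⟨⟨g, rfl⟩, hn.mem_norm h⟩⟩

omit [Finite Γ] in
theorem ff_syl (h : FF W p T M) (hn : Nat2 F σ ψ A) {U : Subgroup Γ} (hU : IsPGroup p U)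
    (h1 : A ≤ U) : U ⊓ σ.range ≤ A := by
  obtain ⟨y, -, hy, hy'⟩ := H72.exists_fixed_mod h.hV (hU.to_inf_left (K := σ.range))
    (Z := fixA W σ.range) (Y := ⊤)
    (fun s hs z hz => H72.smul_mem_fix_of_norm (le_normalizer hs.2) hz) (fun _ _ _ _ => trivial)
    fun e => hn.fix_ne_top (e.trans (fixA_anti hn.le))
  rintro _ ⟨hx, g, rfl⟩
  have e1 := congrFun ((hn.dl_up 1 y).symm.trans
    ((hn.ker _).2 (hy' _ ⟨h1 (hn.up_mem 1), _, rfl⟩))) 0
  have e2 := (hn.dl_eqv g y).symm.trans ((hn.ker _).2 (hy' _ ⟨hx, g, rfl⟩))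
  rw [eq_up_of_fix (by simpa using e1) (fun e => hy ((hn.ker y).1 e)) (sub_eq_zero.1 e2)]
  exact hn.up_mem _

omit [Finite Γ] [Finite W] hp in
theorem ff_center (h : FF W p T M) (o : FFOut W p T M A σ.range K) (hn : Nat2 F σ ψ A) (p2 : p ≠ 2) :
    (H70.ncl (zpowers (σ (-1))) T).Normal ∧ H70.ncl (zpowers (σ (-1))) T ≤ M := by
  have eK : σ.range = K := (o.cases.resolve_right fun e => p2 e.1).1
  subst eK
  have z1 : zpowers (σ (-1)) ≤ σ.range := zpowers_le.2 ⟨_, rfl⟩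
  have z2 : zpowers (σ (-1)) ≤ centralizer (σ.range : Set Γ) := zpowers_le.2 (by
    rintro _ ⟨g, rfl⟩
    rw [← map_mul, ← map_mul]; simp)
  refine ⟨normalizer_eq_top_iff.1 (top_le_iff.1 ((o.sup_eq h).ge.trans (sup_le (le_trans
    (H70.ncl_le (le_centralizer_iff.1 (H70.ncl_le_iff.2 fun t ht => ?_))
      ((H70.le_norm_ncl _ _).trans (normalizer_le_normalizer_centralizer _)))
    (centralizer_le_normalizer _)) (H70.le_norm_ncl _ _)))),
    H70.ncl_le (zpowers_le.2 ((ff_mem o hn h.min.le _).2 (by simp))) (h.min.le.trans le_normalizer)⟩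
  rcases o.comm t ht with e | e
  · have := cj_mono (g := t) z2
    rwa [cj_centralizer, show cj t σ.range = σ.range from e] at this
  · rcases o.comm t⁻¹ (inv_mem ht) with e' | e'
    · have := cj_mono (g := t) z2
      rwa [cj_centralizer, cj_eq_of_mem_normalizer (inv_mem_iff.1 (cj_eq_self_iff.1 e'))] at this
    · have := e'.cj t
      rw [show H70.cj t (H70.cj t⁻¹ σ.range) = σ.range from cj_cj_inv t _] at this
      exact (cj_mono z1).trans (h.faith.comm this e)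

end

variable {X : Type u} [Group X] [Finite X] {p : ℕ} [hp : Fact p.Prime] {S M : Subgroup X}

omit hp in
theorem br_card_le_ms {Γ W : Type*} [Group Γ] [AddCommGroup W] [DistribMulAction Γ W]
    {V A : Subgroup X} {π : X →* Γ} {ι : Multiplicative W →* X} (h : Br V (MonoidHom.id X) π ι)
    (hf : Faith Γ W) (hV : V ≤ centralizer (V : Set X)) (hVS : V ≤ S) (hA : A ∈ H23.maxAb 0 S) :
    Nat.card W ≤ ms W (A.map π) := by
  have c1 : A ⊓ π.ker ≤ centralizer (V : Set X) := inf_le_right.trans (h.ker_eq hf).le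
  have c2 := le_centralizer_iff_isMulCommutative.2 hA.2.1
  have h1 := hA.2.2.2 (V ⊔ A ⊓ π.ker) (sup_le hVS (inf_le_left.trans hA.1))
    (le_centralizer_iff_isMulCommutative.1 (by
      rw [centralizer_sup']
      exact le_inf (sup_le hV c1) (sup_le (le_centralizer_iff.1 c1)
        (inf_le_left.trans (c2.trans (centralizer_le inf_le_left)))))) (by simp)
  have h2 := card_mul_card_le V (A ⊓ π.ker)
  have h3 : Nat.card (V ⊓ (A ⊓ π.ker) : Subgroup X) ≤ Nat.card (fixA W (A.map π)) := by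
    rw [← h.card_toG, h.fixI]
    exact card_le_of_le (inf_le_inf_left _ (inf_le_left.trans c2))
  refine Nat.le_of_mul_le_mul_right ?_ (Nat.card_pos (α := (A ⊓ π.ker : Subgroup X)))
  rw [← h.card, ms, mul_right_comm, H72.card_map_mul_card_inf]
  exact h2.trans (Nat.mul_le_mul h1 h3)

/-- If `Ω₁(Z(S))` is central then so is `Z(S)`. -/
theorem zOf_central (hS : SylOf p S ⊤) (hc : centralizer (pCore p X : Set X) ≤ pCore p X)
    (h : ⊤ ≤ centralizer (omegaOneCenter p S : Set X)) : ⊤ ≤ centralizer (zOf S : Set X) := by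
  classical
  have hV := (charPOf_top.2 hc).zOf_le hS
  set V := zOf (pCoreOf p (⊤ : Subgroup X)) with hV'
  have nV : ⊤ ≤ normalizer (V : Set X) :=
    (le_normalizer_pCoreOf _).trans (normalizer_le_normalizer_zOf _)
  have hVS : V ≤ S := inf_le_left.trans hS.pCoreOf_le
  obtain ⟨A⟩ := exists_secMod (W := ⊥) nV le_normalizer_of_normal
    (commutator_le.2 fun a ha b hb => comm_mem_bot.2 (zOf_comm a ha b hb))
  let _ := A.acg; let _ := A.act
  have inj : ∀ v ∈ V, ∀ w ∈ V, A.π v = A.π w → v = w := fun v hv w hw e => by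
    rw [← sub_eq_zero, ← addOn_div A.mul hv hw, A.ker _ (mul_mem hv (inv_mem hw))] at e
    exact mul_inv_eq_one.1 e
  have fix : ∀ v ∈ V, ∀ g : (⊤ : Subgroup X), g • A.π v = A.π v ↔ g * v = v * g := fun v hv g => by
    rw [← A.equiv g v hv]
    exact ⟨fun e => mul_inv_eq_iff_eq_mul.1 (inj _ (conj_mem_of_mem_normalizer (nV g.2) hv) _ hv e),
      fun e => by rw [e, mul_inv_cancel_right]⟩
  suffices key : ∀ k, ∀ z ∈ zOf S, z ^ p ^ k = 1 → ∀ g, g * z = z * g from fun g _ z hz =>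
    let ⟨k, hk⟩ := isPGroup_iff_mem.1 hS.isPGroup z hz.1; (key k z hz hk g).symm
  intro k
  induction k with
  | zero => intro z _ e g; rw [pow_zero, pow_one] at e; simp [e]
  | succ k ih =>
    intro z hz e
    have h1 := ih (z ^ p) (pow_mem hz p) (by rwa [← pow_mul, ← pow_succ'])
    have : Finite A.A := Finite.of_surjective (fun v : V => A.π v) fun a =>
      let ⟨v, hv, e⟩ := A.surj a; ⟨⟨v, hv⟩, e⟩
    let O := (Set.toFinite (MulAction.orbit (⊤ : Subgroup X) (A.π z))).toFinset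
    have hO : ∀ g : (⊤ : Subgroup X), g • ∑ o ∈ O, o = ∑ o ∈ O, o := fun g => by
      rw [Finset.smul_sum]
      refine Finset.sum_bij' (fun o _ => g • o) (fun o _ => g⁻¹ • o) ?_ ?_ (by simp) (by simp)
        fun _ _ => rfl <;>
      exact fun o ho => (Set.Finite.mem_toFinset _).2
        (MulAction.mem_orbit_of_mem_orbit _ ((Set.Finite.mem_toFinset _).1 ho))
    obtain ⟨w, hw, ew⟩ := A.surj (∑ o ∈ O, o - O.card • A.π z)
    have h2 : w ∈ omegaOneCenter p S := mem_omegaOne_zOf.2 ⟨⟨hVS hw, fun s hs =>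
      (fix w hw ⟨s, trivial⟩).1 (by
        rw [ew, smul_sub, hO, smul_comm, (fix z (hV hz) ⟨s, trivial⟩).2 (hz.2 s hs)])⟩, by
      refine (A.ker _ (pow_mem hw p)).1 ?_
      rw [addOn_pow A.mul hw, ew, ← Finset.sum_const, ← Finset.sum_sub_distrib, Finset.smul_sum]
      refine Finset.sum_eq_zero fun o ho => ?_
      obtain ⟨g, rfl⟩ := (Set.Finite.mem_toFinset _).1 ho
      rw [smul_sub, smul_comm, ← addOn_pow A.mul (hV hz), (fix _ (hV (pow_mem hz p)) g).2 (h1 g),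
        sub_self]⟩
    have h3 : (O.card).Coprime p := by
      rw [← Set.ncard_eq_toFinset_card, ← MulAction.index_stabilizer]
      refine ((Nat.Prime.coprime_iff_not_dvd hp.out).2 fun e => hS.not_dvd_relIndex
        (e.trans (index_dvd_of_le fun s hs => ?_))).symm
      exact (fix z (hV hz) s).2 (hz.2 s hs)
    intro g
    refine mem_centralizer_singleton_iff.1 (mem_of_coprime_pow (A := centralizer {g})
      (h3.pow_right (k + 1)) (mem_centralizer_singleton_iff.2 ?_) (e ▸ one_mem _)) |>.symm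
    refine ((fix _ (hV (pow_mem hz _)) ⟨g, trivial⟩).1 ?_).symm
    rw [addOn_pow A.mul (hV hz), ← sub_sub_cancel (∑ o ∈ O, o) (O.card • A.π z), ← ew, smul_sub, hO,
      (fix w hw ⟨g, trivial⟩).2 (h trivial w h2).symm]

/-- The data extracted from failure of factorization. -/
structure FFRed (p : ℕ) (F : Type) [Field F] (S M G R : Subgroup X) extends
    BorMap F G M (Ba S) where
  syl : SylOf p (Ba S ⊔ pCore p X) G
  GM : ¬ G ≤ M
  nR : R.Normal
  RM : R ≤ M
  core : ∀ h : G, φ h = 1 ∨ φ h = -1 → ∀ m : ℕ, m.Coprime p → h ^ m = 1 →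
    (h : X) ∈ R ∧ ∀ c ∈ Ba S, ⁅(h : X), c⁆ ∈ S → ⁅(h : X), c⁆ ∈ pCore p X
  z : ∃ z ∈ zOf (Ba S ⊔ pCore p X), ∀ x ∈ G, x * z = z * x → x ∈ M

theorem exists_ffRed (p2 : p ≠ 2) (hS : SylOf p S ⊤) (hM : H70.MinOver S ⊤ M)
    (hc : centralizer (pCore p X : Set X) ≤ pCore p X)
    (h1 : centralizer (omegaOneCenter p S : Set X) ≤ M) (hB : ¬ (Ba S).Normal) :
    ∃ (F : Type) (_ : Field F) (_ : Fintype F) (n : ℕ) (G R : Subgroup X), 1 ≤ n ∧
      Fintype.card F = p ^ n ∧ Nonempty (FFRed p F S M G R) := by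
  have hS' : H92.SylIn p S ⊤ := ⟨hS.le, hS.isPGroup, fun U a b c => hS.maximal U b c a⟩
  set Q := pCore p X with hQ
  have hQS : Q ≤ S := pCoreOf_top.ge.trans hS.pCoreOf_le
  set V := omegaOneCenter p Q with hV
  have eV : IsElementaryAbelian p V := isElementaryAbelian_omegaOne zOf_comm
  have hVQ : V ≤ zOf Q := omegaOne_le _
  have hVS : V ≤ S := hVQ.trans (inf_le_left.trans hQS)
  have cV : V ≤ centralizer (V : Set X) :=
    hVQ.trans (inf_le_right.trans (centralizer_le (hVQ.trans inf_le_left)))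
  obtain ⟨Γ, _, _, W, _, _, _, π, ι, hπ, hW, hf, br⟩ := H72.exists_br_quot eV
    (le_normalizer_of_normal.trans ((normalizer_le_normalizer_zOf Q).trans
      (normalizer_le_normalizer_omegaOne _)))
  have hZ : omegaOneCenter p S ≤ V :=
    omegaOne_mono (((charPOf_top.2 hc).zOf_le hS).trans (congrArg zOf pCoreOf_top).le)
  have ff := br.ff hπ hW hf hS' hM (hVQ.trans inf_le_right) hZ h1
  have eK := br.ker_eq hf
  have kM : π.ker ≤ M := eK.le.trans ((centralizer_le hZ).trans h1)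
  have kQ : S ⊓ π.ker ≤ Q := H72.MinOver_inf_le_pCore hS' hM kM le_normalizer_of_normal
  have Qk : Q ≤ π.ker := (le_centralizer_iff.1 (hVQ.trans inf_le_right)).trans eK.ge
  obtain ⟨A₀, hA₀, hA₀'⟩ : ∃ A ∈ H23.maxAb 0 S, ¬ A ≤ Q := by_contra fun e => by
    push Not at e
    rw [← ba_eq_of_forall hQS ((inf_le_inf_left _ ((centralizer_le hVQ).trans eK.ge)).trans kQ) e,
      ← normalizer_eq_top_iff, ← top_le_iff] at hB
    exact hB (le_normalizer_of_normal.trans (norm_ba Q))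
  have cA : ∀ A ∈ H23.maxAb 0 S, A.map π ≤ centralizer (A.map π : Set Γ) := fun A hA =>
    H72.map_le_cent_map π (le_centralizer_iff_isMulCommutative.2 hA.2.1)
  obtain ⟨A₁, hA₁, d₁, -⟩ := H72.exists_inD (V := W) ((hS.isPGroup.to_le hA₀.1).map π) (cA _ hA₀)
    (fun e => hA₀' ((le_inf hA₀.1 ((Subgroup.map_eq_bot_iff _).1 e)).trans kQ))
    (br_card_le_ms br hf cV hVS hA₀)
  obtain ⟨g, H, K, o⟩ := ff.exists_out d₁
  obtain ⟨_, ⟨s, hs, rfl⟩, e⟩ := o.exists_eq_cj ff d₁ (hA₁.trans (map_mono hA₀.1))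
  have hAB : H70.cj g A₁ ≤ (Ba S).map π := by
    rw [← e, ← cj_eq_of_mem_normalizer (norm_ba S (le_normalizer hs)), map_cj]
    exact cj_mono (hA₁.trans (map_mono (le_ba hA₀)))
  generalize H70.cj g A₁ = A at o hAB
  obtain ⟨F, _, _, σ, ψ, hn, rfl⟩ := o.nat
  have hfix : cmA W A ≤ fixA W ((Ba S).map π) := fun v hv => by
    have f1 : v ∈ fixA W (H70.ncl A (S.map π)) := H72.mem_fix_iSup.2 fun t =>
      H72.prp_iff.1 (ff.prp o.inD (o.inD.cj t) (ff.comm_of_le o.inD (o.inD.cj t) ff.syl.pgroup o.AT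
        (H70.cj_le_of_mem_norm (le_normalizer t.2) o.AT))) hv
    rw [br.mem_fix, Subgroup.map_id]
    refine le_centralizer_iff.1 inf_le_right (H23.mem_zj_of_mem_centralizer (hVS (br.mem v))
      (pow_zero _) (le_centralizer_iff.1 (sSup_le fun A' hA' => le_centralizer_iff.1 ?_)
        (mem_zpowers _)))
    rw [zpowers_le, ← Subgroup.map_id A', ← br.mem_fix]
    exact fixA_anti (o.offender_le ff (map_mono hA'.1) (cA _ hA')
      (br_card_le_ms br hf cV hVS hA')) f1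
  have hBT : (Ba S).map π ≤ S.map π := map_mono inf_le_left
  set G := (σ.range ⊔ (Ba S).map π).comap π with hG
  have dec := fun x : G => ff_dec ff o hn hBT hAB hfix (x := π x) x.2
  choose φ y hy e1 e2 e3 using dec
  have eqv : ∀ (x : G) v, ψ (π x • v) = (φ x).1 *ᵥ ψ v := fun x v => by
    rw [e1, mul_smul, hn.eqv, smul_eq_add_dl, map_add, (hn.ker _).2 (e3 x v), add_zero]
  have uq : ∀ (x : G) (g : SL2 F), (∀ v, ψ (π x • v) = g.1 *ᵥ ψ v) → φ x = g := fun x g h =>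
    sl2_eq_of_mulVec fun w => by obtain ⟨v, rfl⟩ := hn.surj w; rw [← eqv, h]
  have : CharP F p := (CharP.charP_iff_prime_eq_zero hp.out).2 (by
    obtain ⟨v, hv⟩ := hn.surj 1
    have := congrFun (congrArg ψ (hW v)) 0
    simpa [hv] using this)
  obtain ⟨n, -, hF⟩ := FiniteField.card F p
  have BG : Ba S ≤ G := map_le_iff_le_comap.1 le_sup_right
  have mem : ∀ x : G, (x : X) ∈ M ↔ (φ x).1 1 0 = 0 := fun x => by
    rw [← H72.mem_map_iff_of_ker_le π kM, e1, ← ff_mem o hn ff.min.le,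
      mul_mem_cancel_right (ff.min.le (hBT (hy x)))]
  obtain ⟨z1, z2⟩ := ff_center ff o hn p2
  refine ⟨F, _, _, n, G, (H70.ncl (zpowers (σ (-1))) (S.map π)).comap π, n.2, hF,
    ⟨⟨⟨MonoidHom.mk' φ fun a b => uq _ _ fun v => ?_, mem, fun c => ?_⟩, ⟨sup_le BG
      (Qk.trans (ker_le_comap _ _)), hS.isPGroup.to_le (sup_le inf_le_left hQS),
      fun U hU a b => le_antisymm (fun u hu => ?_) a⟩, fun e => o.HM (le_sup_left.trans
        ((map_comap_eq_self_of_surjective hπ _).ge.trans (map_mono e))), inferInstance,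
      (comap_mono z2).trans (H72.comap_map_of_ker_le π kM).le, fun h hh m hm e => ?_, ?_⟩⟩⟩
  · rw [coe_mul, map_mul, mul_smul, eqv, eqv, sl2_mulVec_mul]
  · obtain ⟨b, hb, e⟩ := hAB (hn.up_mem c)
    exact ⟨⟨b, BG hb⟩, hb, uq _ _ fun v => by rw [e, hn.eqv]⟩
  · obtain ⟨c, hc, e⟩ := hy ⟨u, b hu⟩
    have f1 : π (u * c⁻¹) = σ (φ ⟨u, b hu⟩) := by
      rw [map_mul, map_inv, e, mul_inv_eq_iff_eq_mul]; exact e1 ⟨u, b hu⟩
    have hc' := U.mul_mem hu (U.inv_mem (a (mem_sup_left hc)))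
    obtain ⟨d, hd, e'⟩ := hAB (ff_syl ff hn (hU.map π) (hAB.trans (map_mono (le_sup_left.trans a)))
      ⟨mem_map_of_mem π hc', _, f1.symm⟩)
    have f2 := (hS.inf_normal le_top le_normalizer_of_normal : SylOf p (S ⊓ π.ker) π.ker)
    rw [le_antisymm kQ (le_inf hQS Qk)] at f2
    have f3 := f2.ge_of_le_normalizer' (hU.to_inf_left (K := π.ker)) inf_le_right
      le_normalizer_of_normal (x := d⁻¹ * (u * c⁻¹)) ⟨U.mul_mem (U.inv_mem (a (mem_sup_left hd))) hc',
        MonoidHom.mem_ker.2 (by rw [map_mul, map_inv, e', inv_mul_cancel])⟩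
    simpa using mul_mem (mul_mem (mem_sup_left hd) (mem_sup_right f3)) (mem_sup_left hc)
  · have c2 : Nat.Coprime 2 p := (Nat.coprime_primes Nat.prime_two hp.out).2 p2.symm
    have f1 : Commute (σ (φ h)) (y h) := e2 h _ ⟨_, rfl⟩
    have f2 : φ h ^ 2 = 1 := by rcases hh with h | h <;> simp [show φ _ = _ from h]
    obtain ⟨k, hk⟩ := isPGroup_iff_mem.1 ff.syl.pgroup _ (hBT (hy h))
    have f3 : y h = 1 := mem_bot.1 (mem_of_coprime_pow ((c2.mul_left hm).pow_right k) (mem_bot.2 (by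
      have := congrArg (fun x : G => π x) (show h ^ (2 * m) = 1 by rw [mul_comm, pow_mul, e, one_pow])
      simp only [coe_pow, map_pow, e1, f1.mul_pow, coe_one, map_one] at this
      rwa [pow_mul, ← map_pow, f2, map_one, one_pow, one_mul] at this)) (mem_bot.2 hk))
    have f4 : π h ∈ zpowers (σ (-1)) := by
      rw [e1, f3, mul_one]
      rcases hh with h | h <;> rw [show φ _ = _ from h]
      · rw [map_one]; exact one_mem _
      · exact mem_zpowers _
    refine ⟨H70.le_ncl _ _ f4, fun c hc h' => kQ ⟨h', MonoidHom.mem_ker.2 ?_⟩⟩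
    rw [map_commutatorElement, commutatorElement_eq_one_iff_mul_comm]
    refine (zpowers_le.2 ?_ : _ ≤ centralizer {π c}) f4 _ rfl |>.symm
    have f5 := e1 ⟨c, BG hc⟩
    rw [mem_centralizer_singleton_iff, f5, ← mul_assoc, mul_assoc _ (y _), ← e2 _ _ ⟨_, rfl⟩,
      ← mul_assoc, ← map_mul, ← map_mul]
    simp
  · obtain ⟨u, hu, e⟩ := hn.exists_cmA 1
    have f1 := (br.mem_fix _ u).1 (hfix hu)
    rw [Subgroup.map_id] at f1
    refine ⟨_, ⟨mem_sup_right (hVQ (br.mem u)).1, by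
      rw [centralizer_sup']; exact ⟨f1, (hVQ (br.mem u)).2⟩⟩, fun x hx e' => (mem ⟨x, hx⟩).2 ?_⟩
    have f2 := eqv ⟨x, hx⟩ u
    rw [(br.smul_eq_iff x u).2 e', e] at f2
    rw [eq_up_of_fix rfl (fun e => one_ne_zero (congrFun e 0)) f2.symm, up10]

end Cfsg.Agent.H69
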