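import Cfsg.Agent.H69.TR3
import Cfsg.Agent.H62.MinT
import Mathlib.GroupTheory.Focal

/-!
Glauberman's theorem: for odd `p`, the centre together with one further characteristic subgroup
of a Sylow `p`-subgroup controls transfer.
-/

set_option autoImplicit false

namespace Cfsg.Agent.H69

open Subgroup
open scoped commutatorElement

universe u

variable {X : Type u} [Group X] [Finite X] {p : ℕ} [hp : Fact p.Prime] {S M : Subgroup X}

omit hp in
theorem zj_le_ba : H23.zj 0 S ≤ Ba S :=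
  (zj_eq_of_le le_rfl inf_le_left).ge.trans (H23.zj_le 0 (Ba S))

theorem comm_le_of_minOver (p2 : p ≠ 2) (hS : SylOf p S ⊤) (hM : H70.MinOver S ⊤ M)
    (hc : centralizer (pCore p X : Set X) ≤ pCore p X) (hZ : ¬ (zOf S).Normal)
    (hK : ¬ (inducedFunctor (KZero p) (Ba S)).Normal) : ⁅pCore p X, ⊤⁆ ≤ S ⊓ ⁅M, M⁆ := by
  have uq : ∀ H : Subgroup X, S ≤ H → ¬ ⊤ ≤ H → H ≤ M := fun H a b =>
    hM.uniq H a (lt_top_iff_ne_top.2 fun e => b e.ge)
  have pB : IsPGroup p (Ba S) := hS.isPGroup.to_inf_left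
  have nK := H62.norm_le_norm_ind kZero_char pB
  have nK' : normalizer (inducedFunctor (KZero p) (Ba S) : Set X) ≤ M :=
    uq _ (le_normalizer.trans ((norm_ba S).trans nK)) fun e =>
      hK (normalizer_eq_top_iff.1 (top_le_iff.1 e))
  obtain ⟨F, _, _, n, G, R, hn, hF, ⟨ρ⟩⟩ := exists_ffRed p2 hS hM hc (uq _
      (le_centralizer_iff.1 ((omegaOne_le _).trans inf_le_right)) fun e => hZ
        (normal_of_le_centralizer_top (le_centralizer_iff.1 (zOf_central hS hc e))))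
    fun e => hM.lt.not_ge ((normalizer_eq_top_iff.2 e).ge.trans (nK.trans nK'))
  set Q := pCore p X with hQ
  have hQS : Q ≤ S := pCoreOf_top.ge.trans hS.pCoreOf_le
  have pQ : IsPGroup p Q := isPGroup_pCore p X
  have h1S : Ba S ⊔ Q ≤ S := sup_le inf_le_left hQS
  obtain ⟨z, hz, hz'⟩ := ρ.z
  obtain ⟨G₂, a1, a2, r₂⟩ := ρ.toBorMap.exists_rankOne hn hF ρ.syl le_sup_left le_rfl ρ.GM
    (h1S.trans hM.le)
  have hQ₂ : Q ≤ G₂ := le_sup_right.trans r₂.syl.le
  have c₂ : CharPOf p G₂ := (charPOf_top.2 hc).of_le le_top (pCoreOf_top.le.trans hQ₂)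
  have eB := ba_eq_of_le le_sup_left h1S
  obtain ⟨L₀, b1, b2, b3, b4⟩ := r₂.baumann_rel c₂
    (fun e => a2 fun x hx => hz' x (a1 hx) (e hz x hx))
    (fun e => a2 (e.trans (by rw [eB]; exact nK.trans nK'))) F rfl
  rw [eB] at b3
  have hBM : Ba S ≤ M := inf_le_left.trans hM.le
  obtain ⟨L, c1, c2, r⟩ := ρ.toBorMap.exists_rankOne hn hF b3 le_rfl (b1.trans a1)
    (fun e => b4 (le_inf b1 e)) hBM
  have hLG := c1.trans (b1.trans a1)
  have cL : CharPOf p L := CharPOf.of_le (H70.IsChar.of_norm c₂ b1 b2) c1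
    (b3.pCoreOf_le.trans r.syl.le)
  have v := r.v0 cL (fun e => c2 fun x hx => hz' x (hLG hx) (e ⟨⟨h1S hz.1, fun y hy =>
      hz.2 y (mem_sup_left (zj_le_ba hy))⟩,
      fun y hy => hz.2 y (mem_sup_left hy)⟩ x hx)) (ba_eq_of_le le_rfl inf_le_left) F rfl
  have gd : Good p L (pCoreOf p L) (L ⊓ M) := by_contra fun e => c2 (le_trans (by
    have := V0.norm_kZero p2 (Ba S).subtype_injective (by rwa [map_top_subtype]) e
    exact this) nK')
  have := ρ.nR
  have nN : ∀ H : Subgroup X, H ≤ normalizer ((⁅R, Q⁆ : Subgroup X) : Set X) := fun _ =>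
    le_normalizer_of_normal
  have k1 := gd ⁅R, Q⁆ (nN _) fun h hh e m hm hm' c hc => by
    obtain ⟨d1, d2⟩ := ρ.core ⟨h, hLG hh⟩ (eq_one_or_neg_one_of_conj fun A => by
      obtain ⟨x, hx, rfl⟩ := ρ.toBorMap.surj r.syl.le hLG c2 A
      rw [← map_mul, ← map_inv, ← map_mul]
      exact (ρ.mem _).1 (e x hx).2) m hm (Subtype.ext hm')
    exact comm_mem_of_coprime pQ hm ⟨nN ⊤ trivial, fun a ha => commutator_mem_commutator d1 ha⟩
      (d2 c (r.QS hc) (r.QS (commutator_mem_of_normalizer (r.Qn hh) hc)).1) (by simp [hm'])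
  have hQL : Q ⊓ L₀ ≤ pCoreOf p L := le_pCoreOf ((b3.ge_of_le_normalizer pQ.to_inf_left inf_le_right
      (le_normalizer_inf le_normalizer_of_normal (b3.le.trans le_normalizer))).trans r.syl.le)
    (le_normalizer_inf le_normalizer_of_normal (c1.trans le_normalizer)) pQ.to_inf_left
  have k2 : ∀ y ∈ L, ∀ m : ℕ, m.Coprime p → y ^ m = 1 → y ∈ cmod Q ⁅R, Q⁆ := fun y hy m hm e =>
    ⟨nN ⊤ trivial, fun c hc => comm_mem_of_coprime (B := Q ⊓ L₀) pQ.to_inf_left hm
      ⟨nN ⊤ trivial, fun a ha => k1 y hy m hm e a (hQL ha)⟩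
      ⟨commutator_mem_of_normalizer (le_normalizer_of_normal (mem_top y)) hc, comm_mem_comm
        (commutator_mem_of_normalizer (b2 (hQ₂ hc)) (c1 hy))⟩ (by simp [e])⟩
  have nC : ⊤ ≤ normalizer (cmod Q ⁅R, Q⁆ : Set X) :=
    le_normalizer_cmod le_normalizer_of_normal (nN _)
  have k3 : ⊤ ≤ cmod Q ⁅R, Q⁆ ⊔ S := by_contra fun e => by
    obtain ⟨x, hx', hx⟩ := ρ.toBorMap.surj r.syl.le hLG c2 (wn 1 one_ne_zero)
    obtain ⟨k, m, hm, e'⟩ := Nat.exists_eq_pow_mul_and_not_dvd (orderOf_pos x).ne' p hp.out.ne_one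
    have d1 := (ρ.mem (x ^ p ^ k)).1 (uq _ le_sup_right e (mem_sup_left (k2 _ (pow_mem hx' _) m
      ((Nat.Prime.coprime_iff_not_dvd hp.out).2 hm).symm (by
        rw [← coe_pow, ← pow_mul, ← e', pow_orderOf_eq_one, coe_one]))))
    obtain ⟨j, hj⟩ := (hp.out.odd_of_ne_two p2).pow (n := k)
    rw [map_pow, hx, hj, pow_succ, pow_mul, sq, wn_sq] at d1
    rcases neg_one_pow_eq_or (SL2 F) j with d2 | d2 <;> simp [d2, wn10] at d1
  have k4 : ⁅R, Q⁆ ≤ S ⊓ ⁅M, M⁆ := le_inf ((commutator_le_right _ _).trans hQS)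
    (commutator_mono ρ.RM (hQS.trans hM.le))
  rw [commutator_comm]
  refine commutator_le.2 fun g _ c hc => ?_
  obtain ⟨x, hx, s, hs, rfl⟩ := (mem_sup_of_le_normalizer' (le_top.trans nC)).1 (k3 (mem_top g))
  have d1 : ⁅s, c⁆ ∈ Q := commutator_mem_of_normalizer (le_normalizer_of_normal (mem_top s)) hc
  rw [commutatorElement_mul_left_eq_conj_mul, show x * ⁅s, c⁆ * x⁻¹ = ⁅x, ⁅s, c⁆⁆ * ⁅s, c⁆ by
    rw [commutatorElement_def x, inv_mul_cancel_right]]
  exact mul_mem (mul_mem (k4 (hx.2 _ d1)) ⟨hQS d1, commutator_mem_commutator (hM.le hs)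
    (hM.le (hQS hc))⟩) (k4 (hx.2 c hc))

/-- The second characteristic subgroup. -/
def KTwo (p : ℕ) (P : Type u) [Group P] : Subgroup P :=
  inducedFunctor (KZero p) (Ba (⊤ : Subgroup P))

/-- The centre as a functor. -/
def ZFun (P : Type u) [Group P] : Subgroup P := center P

omit hp in
theorem map_ba {Y : Type u} [Group Y] {f : X →* Y} (hf : Function.Injective f) (S : Subgroup X) :
    (Ba S).map f = Ba (S.map f) := by
  rw [map_inf_centralizer hf, ← H23.zj_map hf]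

theorem kTwo_char : IsCharPFunctor.{u} p (KTwo p) :=
  ⟨fun P _ _ hP _ => H62.ind_ne_bot kZero_char (hP.to_subgroup _) fun e =>
    hP.bot_lt_center.ne' (le_bot_iff.1 ((le_inf le_top (center_le_centralizer _)).trans e.le)),
  fun P R _ _ _ hP φ => by
    rw [KTwo, KTwo, ← H62.ind_map_inj kZero_char _ φ.injective (hP.to_subgroup _),
      map_ba φ.injective, map_top_of_surjective _ φ.surjective]⟩

theorem zFun_char : IsCharPFunctor.{u} p ZFun :=
  ⟨fun _ _ _ hP _ => hP.bot_lt_center.ne', fun P R _ _ _ _ φ => by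
    rw [ZFun, ZFun, ← zOf_top, map_zOf φ.injective, map_top_of_surjective _ φ.surjective, zOf_top]⟩

theorem pair_char : ∀ W ∈ ({ZFun, KTwo p} : Set (∀ (Q : Type u) [Group Q], Subgroup Q)),
    IsCharPFunctor.{u} p W := by
  rintro _ (rfl | rfl)
  exacts [zFun_char, kTwo_char]

omit [Finite X] hp in
theorem ind_zFun (S : Subgroup X) : inducedFunctor ZFun S = zOf S := (zOf_eq_map_center S).symm

theorem ind_kTwo (hS : IsPGroup p S) :
    inducedFunctor (KTwo p) S = inducedFunctor (KZero p) (Ba S) := by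
  rw [inducedFunctor, KTwo, ← H62.ind_map_inj kZero_char _ S.subtype_injective (hS.to_subgroup _),
    map_ba S.subtype_injective, map_top_subtype]

theorem tc_pair (p2 : p ≠ 2) (G : Type u) [Group G] [Finite G] : H62.TC p {ZFun, KTwo p} G := by
  refine H62.sec_induction (G := G) (P := fun X _ => H62.TC p {ZFun, KTwo p} X) ?_ G
    (H62.inv_refl G)
  intro X _ _ _ ih
  by_contra hn
  obtain ⟨S⟩ : Nonempty (Sylow p X) := inferInstance
  obtain ⟨h1, h2, ⟨h3, h4⟩, h5, -⟩ := H62.min_failure pair_char ih (Set.insert_nonempty _ _) hn S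
  have h6 : ∀ W ∈ ({ZFun, KTwo p} : Set (∀ (Q : Type u) [Group Q], Subgroup Q)),
      ¬ (inducedFunctor W (S : Subgroup X)).Normal := fun W hW h =>
    hn (H62.tcin_of_at pair_char (H92.sylIn_top S) (H62.le_TJ_of_normal hW _ h))
  have h7 := h6 _ (Set.mem_insert _ _)
  have h8 := h6 _ (Set.mem_insert_of_mem _ rfl)
  rw [ind_zFun] at h7
  rw [ind_kTwo S.isPGroup'] at h8
  exact h2 ((comm_le_of_minOver p2 (sylOf_top S) (H72.minOver_of_uniq (H92.sylIn_top S) h5
    (lt_top_iff_ne_top.2 h3) (fun H a b => h4 H a b.ne) fun e => h7 (normalizer_eq_top_iff.1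
      (top_le_iff.1 (e.trans (normalizer_le_normalizer_zOf _))))) h1 h7 h8).trans
    (H62.tc_proper pair_char ih (H92.sylIn_top S) h5 h3))

theorem SylOf.focal_le {T H D : Subgroup X} (h : SylOf p T H)
    (hD : ∀ x ∈ T, ∀ u ∈ H, ⁅x, u⁆ ∈ T → ⁅x, u⁆ ∈ D) : T ⊓ ⁅H, H⁆ ≤ D := fun x hx => by
  have e : (_root_.commutator H).map H.subtype = ⁅H, H⁆ := by
    rw [_root_.commutator, map_commutator, map_top_subtype]
  obtain ⟨y, hy, rfl⟩ := e.ge hx.2
  have := (commutator_inf_eq_focalSubgroup h.toSylow).le ⟨hy, hx.1⟩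
  refine (closure_le (D.comap H.subtype)).2 ?_ this
  rintro _ ⟨h1, a, ha, u, rfl⟩
  exact hD a ha u u.2 h1

theorem SylOf.inf_der_le {T C H N : Subgroup X} (h : SylOf p T H) (h1 : T ≤ C) (h2 : C ≤ H)
    (h3 : H ≤ normalizer (C : Set X)) (h4 : normalizer (T : Set X) ≤ N) :
    T ⊓ ⁅H, H⁆ ≤ T ⊓ ⁅C, C⁆ ⊔ T ⊓ ⁅N, N⁆ := h.focal_le fun x hx u hu e => by
  obtain ⟨n, hn, k, hk, rfl⟩ := (h.mono h1 h2).frattini h3 hu
  have a1 : ⁅x, k⁆ ∈ T := comm_mem_comm (commutator_mem_of_normalizer hk hx)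
  have a2 : ⁅x, n * k⁆ = ⁅x, k⁆ * ⁅k * x * k⁻¹, n⁆ := by simp only [commutatorElement_def]; group
  rw [a2] at e ⊢
  exact mul_mem (mem_sup_right ⟨a1, commutator_mem_commutator (h4 (le_normalizer hx)) (h4 hk)⟩)
    (mem_sup_left ⟨(mul_mem_cancel_left a1).1 e,
      commutator_mem_commutator (h1 (conj_mem_of_mem_normalizer hk hx)) hn⟩)

theorem inf_der_le_pair (p2 : p ≠ 2) (hS : SylOf p S ⊤) : S ⊓ _root_.commutator X ≤
    S ⊓ ⁅centralizer (zOf S : Set X), centralizer (zOf S : Set X)⁆ ⊔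
      S ⊓ ⁅normalizer (inducedFunctor (KTwo p) S : Set X),
        normalizer (inducedFunctor (KTwo p) S : Set X)⁆ := by
  refine (tc_pair p2 X S ⟨hS.le, hS.isPGroup, fun U a b c => hS.maximal U b c a⟩).trans
    (iSup₂_le ?_)
  rintro _ (rfl | rfl)
  · rw [top_inf_eq, ind_zFun]
    exact (hS.mono (le_normalizer.trans (normalizer_le_normalizer_zOf S)) le_top).inf_der_le
      (le_centralizer_zOf S) (centralizer_le_normalizer _) (normalizer_le_normalizer_centralizer _)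
      (H62.norm_le_norm_ind kTwo_char hS.isPGroup)
  · rw [top_inf_eq]; exact le_sup_right

omit hp in
theorem char_of_functor {W : ∀ (Q : Type u) [Group Q], Subgroup Q} (hW : IsCharPFunctor.{u} p W)
    (hX : IsPGroup p X) : (W X).Characteristic :=
  characteristic_iff_map_eq.2 fun φ => hW.2 X X hX φ

end Cfsg.Agent.H69
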